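import Cfsg.Agent.H80.PM.Comps
import Cfsg.Agent.H78.PSL2Facts
import Cfsg.Agent.H39.PSL2Multiplier
import Cfsg.Agent.H37.SL23

/-!
The facts about `SL₂(F)` used for the linear components.
-/

set_option autoImplicit false
set_option linter.unusedSectionVars false

open Subgroup Matrix
open scoped MatrixGroups Pointwise commutatorElement

namespace H80.PM.SL2F

variable {F : Type} [Field F] [Fintype F] {p : ℕ} [Fact p.Prime] [CharP F p]

theorem mem_upper {g : SL(2, F)} : g ∈ upperSub F ↔ ∃ a, g = H98.uu a := by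
  constructor
  · intro h
    induction h using Subgroup.closure_induction with
    | mem g hg => obtain ⟨a, rfl⟩ := hg; exact ⟨a, rfl⟩
    | one => exact ⟨0, H98.uu_zero.symm⟩
    | mul a b _ _ ia ib =>
      obtain ⟨s, rfl⟩ := ia; obtain ⟨t, rfl⟩ := ib
      exact ⟨s + t, (H98.uu_add s t).symm⟩
    | inv a _ ia =>
      obtain ⟨s, rfl⟩ := ia
      exact ⟨-s, H98.inv_uu s⟩
  · rintro ⟨a, rfl⟩
    exact subset_closure ⟨a, rfl⟩

theorem proj_uu (a : F) : H39.proj (H98.uu a) = H39.transl a := by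
  rw [H39.transl]
  congr 1

theorem uu_pow (a : F) (k : ℕ) : H98.uu a ^ k = H98.uu (k * a) := by
  induction k with
  | zero => simp [H98.uu_zero]
  | succ k ih => rw [pow_succ, ih, ← H98.uu_add]; push_cast; ring_nf

theorem upper_pgroup : IsPGroup p (upperSub F) := fun g => ⟨1, by
  obtain ⟨a, ha⟩ := mem_upper.1 g.2
  refine Subtype.ext ?_
  rw [SubgroupClass.coe_pow, ha, pow_one, uu_pow, CharP.cast_eq_zero, zero_mul, H98.uu_zero]
  rfl⟩

theorem upper_comm {a b : SL(2, F)} (ha : a ∈ upperSub F) (hb : b ∈ upperSub F) :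
    a * b = b * a := by
  obtain ⟨s, rfl⟩ := mem_upper.1 ha
  obtain ⟨t, rfl⟩ := mem_upper.1 hb
  rw [← H98.uu_add, ← H98.uu_add, add_comm]

theorem card_upper : Nat.card (upperSub F) = Nat.card F := by
  refine (Nat.card_congr (Equiv.ofBijective
    (fun a : F => (⟨H98.uu a, mem_upper.2 ⟨a, rfl⟩⟩ : upperSub F)) ⟨fun a b h => ?_, fun g => ?_⟩)).symm
  · have := congrArg (fun g : upperSub F => (g : SL(2, F)) 0 1) h
    simpa [H98.coe_uu] using this
  · obtain ⟨a, ha⟩ := mem_upper.1 g.2
    exact ⟨a, Subtype.ext ha.symm⟩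

theorem upper_maximal {R : Subgroup SL(2, F)} (hR : IsPGroup p R) (hle : upperSub F ≤ R) :
    R = upperSub F := by
  obtain ⟨P, hP⟩ := hR.exists_le_sylow
  refine le_antisymm ?_ hle
  have h : upperSub F = (P : Subgroup SL(2, F)) := by
    refine eq_of_le_of_card_ge (hle.trans hP) ?_
    rw [H37.card_sylow_SL p 2 P, card_upper]
    simp
  exact h ▸ hP

theorem normalizer_iff {g : SL(2, F)} :
    g ∈ normalizer (upperSub F : Set SL(2, F)) ↔ g 1 0 = 0 := by
  constructor
  · intro hg
    obtain ⟨a, ha⟩ := mem_upper.1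
      ((mem_normalizer_iff.1 hg _).1 (mem_upper.2 ⟨1, rfl⟩ : H98.uu (1 : F) ∈ upperSub F))
    have := congrArg (fun x : SL(2, F) => x 1 0) ha
    simp [H98.coe_uu, Matrix.mul_apply, Fin.sum_univ_two, SpecialLinearGroup.coe_inv,
      Matrix.adjugate_fin_two] at this
    have h2 : g 1 0 ^ 2 = 0 := by linear_combination (-1) * this
    exact (pow_eq_zero_iff two_ne_zero).1 h2
  · intro hg
    refine mem_normalizer_iff_map_conj_eq.2 (eq_of_le_of_card_ge ?_
      (card_map_of_injective (MulAut.conj g).injective).ge)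
    rintro _ ⟨x, hx, rfl⟩
    obtain ⟨a, rfl⟩ := mem_upper.1 hx
    refine mem_upper.2 ⟨g 0 0 ^ 2 * a, ?_⟩
    have hd := g.2
    rw [Matrix.det_fin_two, hg] at hd
    ext i j
    fin_cases i <;> fin_cases j <;>
      simp [H98.coe_uu, Matrix.mul_apply, Fin.sum_univ_two, SpecialLinearGroup.coe_inv,
        Matrix.adjugate_fin_two, hg] <;>
      first | linear_combination hd | linear_combination (-1 : F) * hd | ring

/-- `(0 1; -1 0)`. -/
def wEl (F : Type) [Field F] : SL(2, F) := ⟨!![0, 1; -1, 0], by simp [Matrix.det_fin_two]⟩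

omit [Fintype F] in
@[simp] theorem coe_wEl : ((wEl F : SL(2, F)) : Matrix (Fin 2) (Fin 2) F) = !![0, 1; -1, 0] := rfl

omit [Fintype F] in
theorem wEl_sq : wEl F * wEl F = -1 := by
  ext i j
  fin_cases i <;> fin_cases j <;> simp [Matrix.mul_apply, Fin.sum_univ_two]

theorem upper_normalClosure : normalClosure (upperSub F : Set SL(2, F)) = ⊤ := by
  refine top_le_iff.1 (H98.upper_sup_lower.ge.trans (sup_le ?_ ?_))
  · exact fun x hx => subset_normalClosure (mem_upper.2 (H98.mem_upperUnipotentSL2.1 hx))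
  · intro x hx
    obtain ⟨s, rfl⟩ := H98.mem_lowerUnipotentSL2.1 hx
    have h1 : H98.uu (-s) ∈ normalClosure (upperSub F : Set SL(2, F)) :=
      subset_normalClosure (mem_upper.2 ⟨_, rfl⟩)
    have h2 := normalClosure_normal.conj_mem _ h1 (wEl F)
    convert h2 using 1
    ext i j
    fin_cases i <;> fin_cases j <;>
      simp [H98.coe_uu, H98.coe_ll, Matrix.mul_apply, Fin.sum_univ_two, SpecialLinearGroup.coe_inv,
        SpecialLinearGroup.coe_mul, Matrix.adjugate_fin_two]

theorem eq_top_of_not_le {H : Subgroup SL(2, F)} (hle : upperSub F ≤ H)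
    (hn : ¬ H ≤ normalizer (upperSub F : Set SL(2, F))) : H = ⊤ := by
  obtain ⟨p, hchar⟩ := CharP.exists F
  haveI : Fact p.Prime := ⟨CharP.char_is_prime F p⟩
  obtain ⟨h, hh, hhn⟩ := SetLike.not_le_iff_exists.1 hn
  obtain ⟨P, hP⟩ := (upper_pgroup (F := F) (p := p)).exists_le_sylow
  have hPU : (P : Subgroup SL(2, F)) = upperSub F := upper_maximal P.isPGroup' hP
  have hne : h • P ≠ P := fun e => hhn (by
    rw [← hPU]
    exact Sylow.smul_eq_iff_mem_normalizer.1 e)
  refine top_le_iff.1 ((H37.sylow_SL_sup_eq_top p _ _ hne).ge.trans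
    (sup_le ?_ (hPU.le.trans hle)))
  intro a ha
  rw [Sylow.coe_subgroup_smul, Subgroup.mem_pointwise_smul_iff_inv_smul_mem] at ha
  have h1 : h⁻¹ * a * h ∈ H := hle (hPU ▸ (by simpa [MulAut.smul_def, mul_assoc] using ha))
  simpa [mul_assoc] using mul_mem (mul_mem hh h1) (inv_mem hh)

theorem eq_top_of_proj {H : Subgroup SL(2, F)} (h : H.map H39.proj = ⊤) : H = ⊤ := by
  have hneg : (-1 : SL(2, F)) ∈ H := by
    obtain ⟨v, hv, hvw⟩ := h.ge (mem_top (H39.proj (wEl F)))
    have h2 : v * v = -1 := by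
      rcases H39.proj_eq_proj_iff.1 hvw.symm with rfl | rfl
      · exact wEl_sq
      · rw [neg_mul_neg, wEl_sq]
    exact h2 ▸ mul_mem hv hv
  refine eq_top_iff.2 fun g _ => ?_
  obtain ⟨v, hv, hvg⟩ := h.ge (mem_top (H39.proj g))
  rcases H39.proj_eq_proj_iff.1 hvg with rfl | rfl
  · exact hv
  · simpa using mul_mem hneg hv

/-- Elements of order prime to `p` lie in the derived group. -/
theorem coprime_mem_commutator {g : SL(2, F)} (hg : (orderOf g).Coprime p) :
    g ∈ commutator SL(2, F) := by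
  set q := QuotientGroup.mk' (commutator SL(2, F)) with hq
  haveI hn : (((upperSub F).map q).comap q).Normal := by
    refine ⟨fun x hx y => ?_⟩
    have : q (y * x * y⁻¹) = q x := by
      rw [hq, QuotientGroup.mk'_apply, QuotientGroup.mk'_apply, QuotientGroup.eq]
      have h4 : ⁅y, x⁻¹⁆ = (y * x * y⁻¹)⁻¹ * x := by
        simp only [commutatorElement_def]; group
      exact h4 ▸ H78.Block.commutator_elem_mem y x⁻¹
    show q (y * x * y⁻¹) ∈ (upperSub F).map q
    rw [this]; exact hx
  have htop : ((upperSub F).map q).comap q = ⊤ :=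
    top_le_iff.1 ((upper_normalClosure (F := F)).ge.trans
      (normalClosure_le_normal (le_comap_map q _)))
  obtain ⟨u, hu, hug⟩ := (show g ∈ ((upperSub F).map q).comap q by rw [htop]; exact mem_top g)
  obtain ⟨k, hk⟩ := (upper_pgroup (F := F) (p := p)) ⟨u, hu⟩
  refine (QuotientGroup.eq_one_iff g).1 (orderOf_eq_one_iff.1 ?_)
  refine Nat.eq_one_of_dvd_coprimes (hg.pow_right k) (orderOf_map_dvd q g)
    (orderOf_dvd_of_pow_eq_one ?_)
  show (q g) ^ p ^ k = 1
  rw [← hug, ← map_pow, show u ^ p ^ k = 1 by simpa using congrArg Subtype.val hk, map_one]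

theorem eq_commutator {I : Subgroup SL(2, F)} (hnorm : upperSub F ≤ normalizer (I : Set SL(2, F)))
    (hsup : I ⊔ upperSub F = ⊤) (hle : I ≤ commutator SL(2, F)) : I = commutator SL(2, F) := by
  refine le_antisymm hle ?_
  haveI : I.Normal := normalizer_eq_top_iff.1 (top_le_iff.1 (hsup.ge.trans (sup_le le_normalizer hnorm)))
  rw [_root_.commutator_def, Subgroup.commutator_le]
  intro a _ b _
  obtain ⟨i, hi, u, hu, rfl⟩ := Subgroup.mem_sup_of_normal_left.1 (hsup.ge (mem_top a))
  obtain ⟨j, hj, v, hv, rfl⟩ := Subgroup.mem_sup_of_normal_left.1 (hsup.ge (mem_top b))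
  rw [← QuotientGroup.eq_one_iff]
  have hq : ∀ x ∈ I, (QuotientGroup.mk' I) x = 1 := fun x hx => (QuotientGroup.eq_one_iff x).2 hx
  show QuotientGroup.mk' I ⁅i * u, j * v⁆ = 1
  rw [map_commutatorElement, map_mul, map_mul, hq i hi, hq j hj, one_mul, one_mul,
    ← map_commutatorElement, commutatorElement_eq_one_iff_mul_comm.2 (upper_comm hu hv), map_one]

theorem sq_eq_one_of_pow_four [CharP F 2] {g : SL(2, F)} (h : g ^ 4 = 1) : g ^ 2 = 1 := by
  have h2 : (2 : F) = 0 := by exact_mod_cast CharP.cast_eq_zero F 2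
  have hd := g.2
  rw [Matrix.det_fin_two] at hd
  set a := g 0 0 with ha
  set b := g 0 1 with hb
  set c := g 1 0 with hc
  set d := g 1 1 with hd'
  have e00 := congrArg (fun x : SL(2, F) => x 0 0) h
  have e01 := congrArg (fun x : SL(2, F) => x 0 1) h
  have e10 := congrArg (fun x : SL(2, F) => x 1 0) h
  simp [pow_succ, Matrix.mul_apply, Fin.sum_univ_two, ← ha, ← hb, ← hc, ← hd'] at e00 e01 e10
  have hsq : a + d = 0 := by
    by_contra ht
    have hb0 : b * (a + d) ^ 3 = 0 := by grind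
    have hc0 : c * (a + d) ^ 3 = 0 := by grind
    have hb1 : b = 0 := (mul_eq_zero.1 hb0).resolve_right (pow_ne_zero _ ht)
    have hc1 : c = 0 := (mul_eq_zero.1 hc0).resolve_right (pow_ne_zero _ ht)
    rw [hb1, hc1] at e00 hd
    have ha1 : a ^ 4 = 1 := by linear_combination e00
    have : (a - 1) ^ 4 = 0 := by
      linear_combination ha1 + (-2 * a ^ 3 + 3 * a ^ 2 - 2 * a + 1) * h2
    have ha2 : a = 1 := sub_eq_zero.1 ((pow_eq_zero_iff (by norm_num)).1 this)
    rw [ha2] at hd
    exact ht (by rw [ha2]; linear_combination hd + h2)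
  ext i j
  fin_cases i <;> fin_cases j <;>
    simp [pow_succ, Matrix.mul_apply, Fin.sum_univ_two, ← ha, ← hb, ← hc, ← hd'] <;> grind

theorem card_commutator_two' (hF : Fintype.card F = 2) : Nat.card (commutator SL(2, F)) = 3 := by
  haveI : CharP F 2 := charP_of_card_eq_prime_pow (f := 1) (by simpa using hF)
  haveI : Fact (Nat.Prime 2) := ⟨Nat.prime_two⟩
  haveI : Fact (Nat.Prime 3) := ⟨Nat.prime_three⟩
  have h6 : Nat.card SL(2, F) = 6 := by
    rw [Nat.card_congr (H37.slCongr (n := Fin 2) (ZMod.ringEquivOfPrime F Fact.out hF)).toEquiv.symm,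
      Nat.card_eq_fintype_card]
    decide +kernel
  obtain ⟨g, hg⟩ := exists_prime_orderOf_dvd_card' (G := SL(2, F)) 3 (by rw [h6]; norm_num)
  have hidx : (zpowers g).index = 2 := by
    have := card_mul_index (zpowers g)
    rw [Nat.card_zpowers, hg, h6] at this
    omega
  have heq : commutator SL(2, F) = zpowers g := by
    haveI : (zpowers g).Normal := Subgroup.normal_of_index_eq_two hidx
    refine le_antisymm ?_ (zpowers_le.2 (coprime_mem_commutator (p := 2) (by rw [hg]; norm_num)))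
    haveI : IsCyclic (SL(2, F) ⧸ zpowers g) := isCyclic_of_prime_card (p := 2) hidx
    letI : CommGroup (SL(2, F) ⧸ zpowers g) := IsCyclic.commGroup
    exact (Abelianization.commutator_subset_ker (QuotientGroup.mk' (zpowers g))).trans
      (QuotientGroup.ker_mk' _).le
  rw [heq, Nat.card_zpowers, hg]

section three

variable (hF : Fintype.card F = 3)
include hF

theorem pow_four {g : SL(2, F)} (hg : g ∈ commutator SL(2, F)) : g ^ 4 = 1 := by
  haveI : Fact (Nat.Prime 3) := ⟨by norm_num⟩
  let e := H37.slCongr (n := Fin 2) (ZMod.ringEquivOfPrime F Fact.out hF)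
  have hidx : H37.sl23Q.index = 3 := by
    have h := Subgroup.card_mul_index H37.sl23Q
    have h24 : Nat.card (Matrix.SpecialLinearGroup (Fin 2) (ZMod 3)) = 24 := by
      rw [Nat.card_eq_fintype_card]; decide +kernel
    rw [H37.card_sl23Q, h24] at h
    omega
  haveI := H37.sl23Q_normal
  have hle : commutator (Matrix.SpecialLinearGroup (Fin 2) (ZMod 3)) ≤ H37.sl23Q := by
    haveI : IsCyclic (Matrix.SpecialLinearGroup (Fin 2) (ZMod 3) ⧸ H37.sl23Q) :=
      isCyclic_of_prime_card (p := 3) hidx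
    letI : CommGroup (Matrix.SpecialLinearGroup (Fin 2) (ZMod 3) ⧸ H37.sl23Q) := IsCyclic.commGroup
    exact (Abelianization.commutator_subset_ker (QuotientGroup.mk' H37.sl23Q)).trans
      (QuotientGroup.ker_mk' _).le
  have h1 : e.symm g ∈ commutator (Matrix.SpecialLinearGroup (Fin 2) (ZMod 3)) := by
    rw [_root_.commutator_def] at hg ⊢
    have := Subgroup.mem_map_of_mem e.symm.toMonoidHom hg
    rwa [Subgroup.map_commutator,
      Subgroup.map_top_of_surjective e.symm.toMonoidHom e.symm.surjective] at this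
  have h2 : (e.symm g) ^ 4 = 1 := hle h1
  rw [← map_pow, map_eq_one_iff _ e.symm.injective] at h2
  exact h2

theorem commutator_inf_borel {g : SL(2, F)} (hg : g ∈ commutator SL(2, F)) (h0 : g 1 0 = 0) :
    g = 1 ∨ g = -1 := by
  haveI : CharP F 3 := charP_of_card_eq_prime_pow (f := 1) (by simpa using hF)
  have h4 := congrArg (fun x : SL(2, F) => x 0 1) (pow_four hF hg)
  have hd := g.2
  rw [Matrix.det_fin_two, h0, mul_zero, sub_zero] at hd
  have ha : g 0 0 ^ 2 = 1 := by
    have := FiniteField.pow_card_sub_one_eq_one (g 0 0) (left_ne_zero_of_mul_eq_one hd)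
    rwa [hF] at this
  have h11 : g 1 1 = g 0 0 := by linear_combination g 0 0 * hd - g 1 1 * ha
  simp [pow_succ, Matrix.mul_apply, Fin.sum_univ_two, h0, h11] at h4
  have h3 : (3 : F) = 0 := by exact_mod_cast CharP.cast_eq_zero F 3
  have hb : g 0 1 * g 0 0 = 0 := by
    linear_combination h4 - g 0 1 * g 0 0 * h3 * g 0 0 ^ 2 - g 0 1 * g 0 0 * ha
  have hb0 : g 0 1 = 0 := (mul_eq_zero.1 hb).resolve_right (left_ne_zero_of_mul_eq_one hd)
  rcases sq_eq_one_iff.1 ha with h | h
  · left; ext i j; fin_cases i <;> fin_cases j <;> simp [h0, hb0, h, h11]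
  · right; ext i j; fin_cases i <;> fin_cases j <;> simp [h0, hb0, h, h11]

theorem center_commutator {c : SL(2, F)} (hcomm : ∀ g ∈ commutator SL(2, F), g * c = c * g) :
    c 1 0 = 0 := by
  haveI : Fact (Nat.Prime 3) := ⟨by norm_num⟩
  haveI : CharP F 3 := charP_of_card_eq_prime_pow (f := 1) (by simpa using hF)
  have h3 : (3 : F) = 0 := by exact_mod_cast CharP.cast_eq_zero F 3
  let v : SL(2, F) := ⟨!![1, 1; 1, -1], by
    simp [Matrix.det_fin_two]; linear_combination (-1) * h3⟩
  have hv : (v : Matrix (Fin 2) (Fin 2) F) = !![1, 1; 1, -1] := rfl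
  have hmem : ∀ x : SL(2, F), x * x = -1 → x ∈ commutator SL(2, F) := fun x hx =>
    coprime_mem_commutator (p := 3) ((Nat.Coprime.coprime_dvd_left (orderOf_dvd_of_pow_eq_one
      (show x ^ 4 = 1 by rw [show (4 : ℕ) = 2 * 2 from rfl, pow_mul, pow_two x, hx, neg_one_sq]))
      (by norm_num)))
  have hv2 : v * v = -1 := by
    ext i j
    fin_cases i <;> fin_cases j <;> simp [hv, Matrix.mul_apply, Fin.sum_univ_two] <;>
      linear_combination h3
  have h1 := congrArg (fun x : SL(2, F) => x 0 0) (hcomm _ (hmem _ (wEl_sq (F := F))))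
  have h2 := congrArg (fun x : SL(2, F) => x 0 0) (hcomm v (hmem v hv2))
  simp [hv, Matrix.mul_apply, Fin.sum_univ_two] at h1 h2
  linear_combination (c 1 0) * h3 - h1 - h2

end three

section two

variable (hF : Fintype.card F = 2)
include hF

theorem commutator_inf_borel_two {g : SL(2, F)} (hg : g ∈ commutator SL(2, F)) (h0 : g 1 0 = 0) :
    g = 1 := by
  haveI : CharP F 2 := charP_of_card_eq_prime_pow (f := 1) (by simpa using hF)
  haveI : Fact (Nat.Prime 2) := ⟨Nat.prime_two⟩
  have hd := g.2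
  rw [Matrix.det_fin_two, h0, mul_zero, sub_zero] at hd
  have hunit : ∀ a : F, a ≠ 0 → a = 1 := fun a ha => by
    have := FiniteField.pow_card_sub_one_eq_one a ha
    rwa [hF, pow_one] at this
  have h00 := hunit _ (left_ne_zero_of_mul_eq_one hd)
  have h11 := hunit _ (right_ne_zero_of_mul_eq_one hd)
  have hU : g ∈ upperSub F := mem_upper.2 ⟨g 0 1, by
    ext i j; fin_cases i <;> fin_cases j <;> simp [H98.coe_uu, h0, h00, h11]⟩
  -- the derived group has odd order
  have hcard : Nat.card (commutator SL(2, F)) = 3 := card_commutator_two' hF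
  obtain ⟨k, hk⟩ := (upper_pgroup (F := F) (p := 2)) ⟨g, hU⟩
  refine orderOf_eq_one_iff.1 (Nat.eq_one_of_dvd_coprimes
    ((by norm_num : Nat.Coprime 3 2).pow_right k) ?_
    (orderOf_dvd_of_pow_eq_one (by simpa using congrArg Subtype.val hk)))
  rw [← hcard, ← orderOf_mk (ha := hg)]
  exact orderOf_dvd_natCard _

theorem card_commutator_two : Nat.card (commutator SL(2, F)) = 3 := card_commutator_two' hF

end two

theorem not_iso_alternating {p : ℕ} [Fact p.Prime] [CharP F p] {m : ℕ} (hm : 3 ≤ m)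
    (β : ↥(commutator SL(2, F)) ≃* ↥(alternatingGroup (Fin (2 * m + 1)))) : False := by
  by_cases hp : p = 2
  · subst hp
    let σ : Equiv.Perm (Fin 6) :=
      Equiv.swap 0 1 * Equiv.swap 1 2 * Equiv.swap 2 3 * Equiv.swap 4 5
    let f : Fin 6 ↪ Fin (2 * m + 1) := Fin.castLEEmb (by omega)
    have hsign : Equiv.Perm.sign (Equiv.Perm.viaEmbedding σ f) = 1 := by
      rw [Equiv.Perm.viaEmbedding, Equiv.Perm.sign_extendDomain]
      decide
    set a : ↥(alternatingGroup (Fin (2 * m + 1))) :=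
      ⟨Equiv.Perm.viaEmbedding σ f, Equiv.Perm.mem_alternatingGroup.2 hsign⟩ with ha
    have h4 : a ^ 4 = 1 := by
      refine Subtype.ext ?_
      rw [SubgroupClass.coe_pow, ha]
      show Equiv.Perm.viaEmbeddingHom f σ ^ 4 = 1
      rw [← map_pow, show σ ^ 4 = 1 by decide, map_one]
    have h2 : a ^ 2 ≠ 1 := by
      intro h
      have h' : Equiv.Perm.viaEmbeddingHom f σ ^ 2 = 1 := congrArg Subtype.val h
      rw [← map_pow] at h'
      exact (show σ ^ 2 ≠ 1 by decide)
        (Equiv.Perm.viaEmbeddingHom_injective f (h'.trans (map_one _).symm))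
    refine h2 (β.symm.injective ?_)
    rw [map_pow, map_one]
    refine Subtype.ext ?_
    rw [SubgroupClass.coe_pow]
    refine sq_eq_one_of_pow_four ?_
    rw [← SubgroupClass.coe_pow, ← map_pow, h4, map_one]
    rfl
  · have hodd : (2 : F) ≠ 0 := fun h => hp ((Nat.prime_dvd_prime_iff_eq Fact.out Nat.prime_two).1
      ((CharP.cast_eq_zero_iff F p 2).1 (by exact_mod_cast h)))
    have hneg : (-1 : SL(2, F)) ∈ commutator SL(2, F) :=
      coprime_mem_commutator (p := p) (Nat.Coprime.coprime_dvd_left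
        (orderOf_dvd_of_pow_eq_one (neg_one_sq : (-1 : SL(2, F)) ^ 2 = 1))
        ((Nat.coprime_primes Nat.prime_two Fact.out).2 (Ne.symm hp)))
    have hc : β ⟨-1, hneg⟩ ∈ center (alternatingGroup (Fin (2 * m + 1))) := by
      refine mem_center_iff.2 fun y => ?_
      obtain ⟨x, rfl⟩ := β.surjective y
      rw [← map_mul, ← map_mul]
      exact congrArg β (Subtype.ext (by simp))
    rw [alternatingGroup.center_eq_bot (by rw [Nat.card_fin]; omega), mem_bot,
      map_eq_one_iff _ β.injective] at hc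
    have := congrArg (fun x : commutator SL(2, F) => (x : SL(2, F)) 0 0) hc
    simp at this
    exact hodd (by linear_combination (-1 : F) * this)

end H80.PM.SL2F
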