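import Cfsg.Agent.H80.PU.TwoBody

/-!
An involution outside the core of a rank one pushing-up situation in characteristic two.
-/

set_option autoImplicit false
set_option linter.unusedSectionVars false
set_option linter.style.haveILetI false

open Subgroup Matrix
open scoped MatrixGroups commutatorElement

namespace H80.PU

open H71.BGNP

variable {X : Type*} [Group X] [Finite X] {p : ℕ} [Fact p.Prime] {F : Type} [Field F] [Fintype F]
  {ψ : X →* Matrix.ProjectiveSpecialLinearGroup (Fin 2) F} {S : Sylow p X}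

theorem exists_shift (h : Sit p ψ S) (hp : p = 2) :
    ∃ t ∈ (S : Subgroup X), t ^ 2 = 1 ∧ ψ t ≠ 1 ∧
      ∀ s ∈ (S : Subgroup X), ⁅s, t⁆ ∈ Cfsg.pCoreOf p (opX p X) := by
  rcases exists_case_sit h with ⟨T, hT⟩ | ⟨T, U, V1, Q1, K1, W, A, hT⟩
  swap
  · exact absurd hp hT.ne_two
  haveI := H1.pCore_normal' p X
  haveI hEn := opX_normal (p := p) (X := X)
  haveI hVn := normalClosure_normal (s := (Zc p (S : Subgroup X) : Set X))
  obtain ⟨hVQ, -⟩ := module_facts h
  set D := Cfsg.pCore p X with hD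
  set V := normalClosure (Zc p (S : Subgroup X) : Set X) with hV
  set E := opX p X with hE
  -- some element of `T` is outside the core
  obtain ⟨t, ht, htD⟩ : ∃ t ∈ T, t ∉ D := by
    by_contra hno
    push Not at hno
    obtain ⟨x, hx, hx1⟩ := (h.upper (H39.transl 1)).2 ⟨1, rfl⟩
    have hxD : x ∈ D := (hT.sup.trans (sup_le hno le_rfl)) hx
    exact H39.transl_ne_one (F := F) one_ne_zero (hx1.symm.trans (h.pCore_le_ker hxD))
  have htS : t ∈ (S : Subgroup X) := hT.le ht
  refine ⟨t, htS, by rw [← hp]; exact hT.pow t ht, fun hψ => htD (h.mem_pCore_of_ker S htS hψ), ?_⟩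
  rw [core_opX h]
  -- `V` is covered
  haveI hN0 : (⁅V, E⁆).Normal := inferInstance
  have hcomm : ⁅V, E⁆ ≤ E ⊓ D := le_inf (commutator_le_right V E) ((commutator_le_left V E).trans hVQ)
  have hVle : V ≤ ⁅V, E⁆ ⊔ Zc p (S : Subgroup X) := by
    have hN : (⁅V, E⁆ ⊔ Zc p (S : Subgroup X)).Normal := by
      refine normalizer_eq_top_iff.1 (top_le_iff.1 ((opX_sup_sylow S).ge.trans (sup_le ?_ ?_)))
      · refine H75.le_normalizer_of_conj fun e he a ha => ?_
        obtain ⟨c, hc, z, hz, rfl⟩ := Subgroup.mem_sup_of_normal_left.1 ha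
        have hzV : z ∈ V := subset_normalClosure hz
        have h1 : ⁅z, e⁆ ∈ ⁅V, E⁆ := commutator_mem_commutator hzV he
        rw [show e * (c * z) * e⁻¹ = (e * c * e⁻¹) * ⁅z, e⁆⁻¹ * z by
          simp only [commutatorElement_def]; group]
        exact mul_mem (mem_sup_left (mul_mem (hN0.conj_mem c hc e) (inv_mem h1))) (mem_sup_right hz)
      · refine H75.le_normalizer_of_conj fun s hs a ha => ?_
        obtain ⟨c, hc, z, hz, rfl⟩ := Subgroup.mem_sup_of_normal_left.1 ha
        rw [show s * (c * z) * s⁻¹ = (s * c * s⁻¹) * (s * z * s⁻¹) by group]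
        refine mul_mem (mem_sup_left (hN0.conj_mem c hc s)) (mem_sup_right ?_)
        rwa [(mem_Zc.1 hz).2.1 s hs, mul_inv_cancel_right]
    exact normalClosure_le_normal fun x hx => mem_sup_right hx
  -- commutators with `t`
  have hDt : ∀ d ∈ D, ⁅d, t⁆ ∈ E ⊓ D := by
    intro d hd
    obtain ⟨v, hv, c, -, rfl, hct⟩ := hT.split d hd
    have e1 : ⁅v * c, t⁆ = ⁅v, t⁆ := by
      rw [show ⁅v * c, t⁆ = v * ⁅c, t⁆ * v⁻¹ * ⁅v, t⁆ by simp only [commutatorElement_def]; group,
        commutatorElement_eq_one_iff_mul_comm.2 (hct t ht).symm, mul_one, mul_inv_cancel, one_mul]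
    rw [e1]
    obtain ⟨a, ha, z, hz, rfl⟩ := Subgroup.mem_sup_of_normal_left.1 (hVle hv)
    have e2 : ⁅a * z, t⁆ = ⁅a, t⁆ := by
      rw [show ⁅a * z, t⁆ = a * ⁅z, t⁆ * a⁻¹ * ⁅a, t⁆ by simp only [commutatorElement_def]; group,
        commutatorElement_eq_one_iff_mul_comm.2 ((mem_Zc.1 hz).2.1 t htS).symm, mul_one,
        mul_inv_cancel, one_mul]
    rw [e2, commutatorElement_def, mul_assoc a t a⁻¹, mul_assoc]
    exact hcomm (mul_mem ha (hN0.conj_mem _ (inv_mem ha) t))
  intro s hs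
  obtain ⟨d, hd, t', ht', rfl⟩ := Subgroup.mem_sup_of_normal_left.1
    (show s ∈ D ⊔ T by rw [sup_comm]; exact hT.sup hs)
  rw [show ⁅d * t', t⁆ = d * ⁅t', t⁆ * d⁻¹ * ⁅d, t⁆ by simp only [commutatorElement_def]; group,
    commutatorElement_eq_one_iff_mul_comm.2 (hT.comm t' ht' t ht), mul_one, mul_inv_cancel, one_mul]
  exact hDt d hd

end H80.PU
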