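import Cfsg.Agent.H80.PU.TwoBody
import Cfsg.Agent.H78.BlockMap

/-!
The body of a linear block is invariant under injective homomorphisms.
-/

set_option autoImplicit false
set_option linter.unusedSectionVars false
set_option linter.style.haveILetI false

open Subgroup
open scoped commutatorElement MatrixGroups

namespace H80.PM

variable {X G : Type*} [Group X] [Group G] [Finite X] [Finite G] {p : ℕ} [Fact p.Prime]
  {f : X →* G} (hf : Function.Injective f)
include hf

theorem map_inf_centralizer (A E : Subgroup X) :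
    (A ⊓ centralizer (E : Set X)).map f =
      A.map f ⊓ centralizer ((E.map f : Subgroup G) : Set G) := by
  ext y
  constructor
  · rintro ⟨a, ⟨ha, hc⟩, rfl⟩
    refine ⟨mem_map_of_mem f ha, mem_centralizer_iff.2 ?_⟩
    rintro _ ⟨e, he, rfl⟩
    rw [← map_mul, ← map_mul, mem_centralizer_iff.1 hc e he]
  · rintro ⟨⟨a, ha, rfl⟩, hc⟩
    refine ⟨a, ⟨ha, mem_centralizer_iff.2 fun e he => hf ?_⟩, rfl⟩
    rw [map_mul, map_mul]
    exact mem_centralizer_iff.1 hc _ (mem_map_of_mem f he)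

theorem map_omegaCen (A : Subgroup X) :
    (Cfsg.omegaOneCenter p A).map f = Cfsg.omegaOneCenter p (A.map f) := by
  rw [Cfsg.omegaOneCenter, Cfsg.omegaOneCenter, H10.map_omegaOne_injective f hf,
    map_inf_centralizer hf]

theorem map_core (E : Subgroup X) :
    (Cfsg.pCoreOf p E).map f = Cfsg.pCoreOf p (E.map f) := by
  set e := E.equivMapOfInjective f hf with he
  show ((Cfsg.pCore p ↥E).map E.subtype).map f = (Cfsg.pCore p ↥(E.map f)).map (E.map f).subtype
  rw [← H1.map_pCore_equiv (G := ↥E) p e, Subgroup.map_map, Subgroup.map_map]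
  rfl

theorem map_res (E : Subgroup X) :
    (Cfsg.pResidualOf p E).map f = Cfsg.pResidualOf p (E.map f) := by
  rw [Cfsg.pResidualOf, Cfsg.pResidualOf, H75.map_pResidual_eq_resOf,
    H75.map_pResidual_eq_resOf, H75.resOf, H75.resOf, MonoidHom.map_closure]
  congr 1
  ext y
  constructor
  · rintro ⟨x, ⟨hx, hxo⟩, rfl⟩
    exact ⟨mem_map_of_mem f hx, by rwa [orderOf_injective f hf]⟩
  · rintro ⟨⟨x, hx, rfl⟩, hxo⟩
    exact ⟨x, ⟨hx, by rwa [orderOf_injective f hf] at hxo⟩, rfl⟩

theorem map_acts {F : Type} [Field F] {R : Subgroup SL(2, F)}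
    {E U U₀ : Subgroup X} (h : Cfsg.ActsAsSL2OnSection F R E U U₀) :
    Cfsg.ActsAsSL2OnSection F R (E.map f) (U.map f) (U₀.map f) := by
  obtain ⟨hEU, hle, ρ, ψ, hρ, hψ, hker, hact⟩ := h
  set eE := E.equivMapOfInjective f hf with heE
  set eU := U.equivMapOfInjective f hf with heU
  have hcE : ∀ x : ↥E, ((eE x : ↥(E.map f)) : G) = f x := fun x => rfl
  have hcU : ∀ x : ↥U, ((eU x : ↥(U.map f)) : G) = f x := fun x => rfl
  refine ⟨?_, map_mono hle, ρ.comp eE.symm.toMonoidHom, ψ.comp eU.symm.toMonoidHom, ?_,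
    hψ.comp eU.symm.surjective, fun u => ?_, fun a u => ?_⟩
  · exact (map_mono hEU).trans (le_normalizer_map f)
  · rw [MonoidHom.range_comp, MonoidHom.range_eq_top.2 eE.symm.surjective,
      ← MonoidHom.range_eq_map, hρ]
  · obtain ⟨v, rfl⟩ := eU.surjective u
    rw [MonoidHom.comp_apply, MulEquiv.coe_toMonoidHom, MulEquiv.symm_apply_apply, hker, hcU,
      mem_map_iff_mem hf]
  · obtain ⟨v, rfl⟩ := eU.surjective u
    obtain ⟨b, rfl⟩ := eE.surjective a
    obtain ⟨w, hw, hwe⟩ := hact b v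
    refine ⟨eU w, ?_, ?_⟩
    · rw [hcU, hcU, hcE, hw, map_mul, map_mul, map_inv]
    · simp only [MonoidHom.comp_apply, MulEquiv.coe_toMonoidHom, MulEquiv.symm_apply_apply]
      exact hwe

theorem map_frattini (Q : Subgroup X) :
    ((frattini Q).map Q.subtype).map f = (frattini ↥(Q.map f)).map (Q.map f).subtype := by
  rw [← H67.frattini_map_equiv (Q.equivMapOfInjective f hf), Subgroup.map_map, Subgroup.map_map]
  rfl

theorem linBody_map {F : Type} [Field F] [Fintype F] {n : ℕ} {E B : Subgroup X}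
    (h : H80.PU.LinBody p F n E B) : H80.PU.LinBody p F n (E.map f) (B.map f) := by
  obtain ⟨h1, h2, h3, ⟨i⟩, h5, h6⟩ := h
  have hQ := map_core (p := p) hf E
  have hW := map_omegaCen (p := p) hf (Cfsg.pCoreOf p E)
  rw [hQ] at hW
  have hC := fun A : Subgroup X => map_inf_centralizer hf A E
  refine ⟨?_, ?_, ?_, ?_, ?_, ?_⟩
  · rw [← map_res hf, h1]
  · rw [← map_commutator, h2]
  · rw [← hQ, ← map_commutator, h3]
  · haveI := H1.pCore_normal' p ↥E
    haveI := H1.pCore_normal' p ↥(E.map f)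
    exact ⟨(QuotientGroup.congr _ _ (E.equivMapOfInjective f hf)
      (H1.map_pCore_equiv (G := ↥E) p _)).symm.trans i⟩
  · rw [← hW, ← hC]
    exact map_acts hf h5
  rcases h6 with h6 | ⟨hp3, hA, hcomm, hfr, hcE, hcard, hnq⟩
  · left; rw [← hW, ← hQ]; exact congrArg _ h6
  refine Or.inr ⟨hp3, ?_, ?_, ?_, ?_, ?_, ?_⟩
  · rw [← hW, ← hQ]
    exact map_acts hf hA
  · rw [← hW, ← hC, ← hQ, ← map_commutator, hcomm]
  · rw [← hW, ← hC, ← hfr, ← hQ]
    exact (map_frattini hf _).symm
  · rw [← hW, ← hC, ← hC, hcE]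
  · rw [← hC, card_map_of_injective hf]
    exact hcard
  · intro b hb hbW hle
    obtain ⟨c, hc, rfl⟩ := hb
    refine hnq c hc (fun hcW => hbW ?_) ?_
    · rw [← hW, mem_centralizer_iff]
      rintro _ ⟨v, hv, rfl⟩
      rw [← map_mul, ← map_mul, mem_centralizer_iff.1 hcW v hv]
    · rw [← map_le_map_iff_of_injective hf, map_commutator, map_commutator,
        MonoidHom.map_zpowers, hC, hQ]
      exact hle

end H80.PM
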