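import Cfsg.Agent.H80.PM.Baumann
import Cfsg.Agent.H80.PM.Transport
import Cfsg.Agent.H80.PM.Shift
import Cfsg.Agent.H78.PSL2UnipotentPair

/-!
The block belonging to a piece of `J(G) C_G(V)`.
-/

set_option autoImplicit false
set_option linter.unusedSectionVars false
set_option linter.style.haveILetI false

open Subgroup
open scoped commutatorElement MatrixGroups Pointwise

namespace H80.PM

open H80.LCSS (modV cenV Data)
open Setting (lGrp)

variable {G : Type*} [Group G] [Finite G] {p : ℕ} [Fact p.Prime]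

/-- A `p'`-element commuting with `[Q,y]` and `p`-power order commutators centralises. -/
theorem comm_eq_of_coprime {R : Subgroup G} (hR : IsPGroup p R) {y q : G}
    (hy : (orderOf y).Coprime p) (hz : y * q * y⁻¹ * q⁻¹ ∈ R)
    (hc : Commute y (y * q * y⁻¹ * q⁻¹)) : y * q = q * y := by
  set z := y * q * y⁻¹ * q⁻¹ with hzdef
  have h1 : ∀ k : ℕ, y ^ k * q * (y ^ k)⁻¹ = z ^ k * q := by
    intro k
    induction k with
    | zero => simp
    | succ k ih =>
      calc y ^ (k + 1) * q * (y ^ (k + 1))⁻¹ = y * (y ^ k * q * (y ^ k)⁻¹) * y⁻¹ := by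
            rw [pow_succ']; group
        _ = y * (z ^ k * q) * y⁻¹ := by rw [ih]
        _ = (y * z ^ k) * q * y⁻¹ := by group
        _ = (z ^ k * y) * q * y⁻¹ := by rw [(hc.pow_right k).eq]
        _ = z ^ k * (y * q * y⁻¹) := by simp only [mul_assoc]
        _ = z ^ k * (z * q) := by rw [hzdef, inv_mul_cancel_right]
        _ = _ := by rw [pow_succ]; exact (mul_assoc _ _ _).symm
  have h2 := h1 (orderOf y)
  rw [pow_orderOf_eq_one, inv_one, mul_one, one_mul] at h2
  have h3 : z ^ orderOf y = 1 := mul_eq_right.1 h2.symm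
  obtain ⟨k, hk⟩ := hR ⟨z, hz⟩
  have h4 : z ^ p ^ k = 1 := by simpa using congrArg Subtype.val hk
  have h5 : z = 1 := orderOf_eq_one_iff.1 (Nat.eq_one_of_dvd_coprimes (hy.pow_right k)
    (orderOf_dvd_of_pow_eq_one h3) (orderOf_dvd_of_pow_eq_one h4))
  calc y * q = z * q * y := by rw [hzdef]; group
    _ = q * y := by rw [h5, one_mul]

/-- A group all of whose elements of order prime to `p` are trivial is a `p`-group. -/
theorem isPGroup_of_no_coprime {R : Subgroup G}
    (h : ∀ r ∈ R, (orderOf r).Coprime p → r = 1) : IsPGroup p R := by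
  intro r
  obtain ⟨k, m, hm, hkm⟩ := Nat.exists_eq_pow_mul_and_not_dvd (orderOf_pos (r : G)).ne' p
    (Fact.out : p.Prime).ne_one
  refine ⟨k, Subtype.ext ?_⟩
  rw [SubgroupClass.coe_pow]
  refine h _ (pow_mem r.2 _) ?_
  rw [orderOf_pow_of_dvd (pow_ne_zero _ (Fact.out : p.Prime).ne_zero) (hkm ▸ dvd_mul_right _ _),
    hkm, Nat.mul_div_cancel_left _ (Nat.pow_pos (Fact.out : p.Prime).pos)]
  exact ((Fact.out : p.Prime).coprime_iff_not_dvd.2 hm).symm

/-- Proper subgroups of `PSL₂` containing a Sylow `p`-subgroup normalise it. -/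
theorem psl_le_normalizer {F : Type} [Field F] [Fintype F] [CharP F p]
    (P : Sylow p (Matrix.ProjectiveSpecialLinearGroup (Fin 2) F))
    {H : Subgroup (Matrix.ProjectiveSpecialLinearGroup (Fin 2) F)}
    (hPH : (P : Subgroup (Matrix.ProjectiveSpecialLinearGroup (Fin 2) F)) ≤ H) (hH : H ≠ ⊤) :
    H ≤ normalizer ((P : Subgroup (Matrix.ProjectiveSpecialLinearGroup (Fin 2) F)) : Set _) := by
  intro h hh
  by_contra hn
  have hne : h • P ≠ P := fun e => hn ((Sylow.smul_eq_iff_mem_normalizer).1 e)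
  refine hH (top_le_iff.1 ((H78.PSL2.sylow_sup_eq_top _ _ hne).ge.trans (sup_le ?_ hPH)))
  intro a ha
  rw [Sylow.coe_subgroup_smul, Subgroup.mem_pointwise_smul_iff_inv_smul_mem] at ha
  have h1 : h⁻¹ * a * h ∈ H := hPH (by simpa [MulAut.smul_def, mul_assoc] using ha)
  have := mul_mem (mul_mem hh h1) (inv_mem hh)
  simpa [mul_assoc] using this

/-- The block of a piece. -/
structure PieceBlock (p : ℕ) {G : Type*} [Group G] [Finite G] [Fact p.Prime] (T : Sylow p G)
    (x : G) (P : Subgroup G) (F : Type) [Field F] [Fintype F] (n : ℕ)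
    (ψ : ↥P →* Matrix.ProjectiveSpecialLinearGroup (Fin 2) F) (X E : Subgroup G) : Prop where
  le : X ≤ lGrp p (T : Subgroup G) x ⊓ P
  bT_le : bT p (T : Subgroup G) ≤ X
  surj : (X.subgroupOf P).map ψ = ⊤
  sylow : ∀ R : Subgroup G, R ≤ X → IsPGroup p R → bT p (T : Subgroup G) ≤ R →
    R = bT p (T : Subgroup G)
  res : H75.resOf p X = E
  sup : E ⊔ bT p (T : Subgroup G) = X
  body : H80.PU.LinBody p F n E (bT p (T : Subgroup G))
  moves : ⁅E, Cfsg.omegaOneCenter p (T : Subgroup G)⁆ ≠ ⊥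
  shift : p = 2 → ∃ t : ↥P, (t : G) ∈ bT p (T : Subgroup G) ∧ (t : G) ^ 2 = 1 ∧ ψ t ≠ 1 ∧
    ∀ b ∈ bT p (T : Subgroup G), ⁅b, (t : G)⁆ ∈ Cfsg.pCoreOf p E
  block : Cfsg.IsBaumannBlock p (T : Subgroup G) E

variable {T : Sylow p G} {M : Subgroup G}

theorem Setting.wStar_le_core (s : Setting p T M) :
    wStar p (T : Subgroup G) ≤
      Cfsg.pCore p G ⊓ centralizer (wStar p (T : Subgroup G) : Set G) := by
  obtain ⟨A, hA⟩ := H11.maxFam_nonempty (H11.replProp_elem (G := G) p).bot (T : Subgroup G)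
  obtain ⟨hA', hAQ⟩ := s.star_mem hA
  have hWA : wStar p (T : Subgroup G) ≤ (A ⊓ cenV p G) ⊔ modV p G :=
    sup_le le_sup_right (s.yT_le_vOne.trans (sInf_le ⟨hA', hAQ⟩))
  exact le_inf (hWA.trans hAQ) fun w hw => mem_centralizer_iff.2 fun v hv =>
    H10.comm_of_elem hA'.2.1 (hWA hv) (hWA hw)

theorem Setting.exists_block (s : Setting p T M) {x : G} (fr : Frame p T x) {F : Type} [Field F]
    [Fintype F] {n : ℕ} (hF : Fintype.card F = p ^ n) {P : Subgroup G}
    {ψ : ↥P →* Matrix.ProjectiveSpecialLinearGroup (Fin 2) F} (pc : Piece p T M F P ψ) :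
    ∃ X E, PieceBlock p T x P F n ψ X E := by
  classical
  haveI : CharP F p := charP_of_card_eq_prime_pow hF
  haveI hCn : (cenV p G).Normal := Data.cenV_normal
  set B := bT p (T : Subgroup G) with hB
  set L := lGrp p (T : Subgroup G) x with hL
  have hBjC : B ≤ jT p (T : Subgroup G) ⊔ cenV p G := s.bT_le fr
  have hBP : B ≤ P := hBjC.trans (sup_le pc.jT_le pc.cen_le)
  have himg : ∀ Y : Subgroup G, ∀ s, s ∈ (Y.subgroupOf P).map ψ ↔
      ∃ y : ↥P, (y : G) ∈ Y ∧ ψ y = s := fun Y s => by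
    simp [Subgroup.mem_map, Subgroup.mem_subgroupOf]
  -- `L ⊓ P` covers
  have hX0 : ((L ⊓ P).subgroupOf P).map ψ = ⊤ := by
    refine eq_top_iff.2 fun σ _ => ?_
    obtain ⟨g, rfl⟩ := pc.surj σ
    obtain ⟨c, hc, l, hl, hgl⟩ := H1.exists_mul_of_mem_sup
      (le_top.trans (normalizer_eq_top_iff.2 hCn).ge : L ≤ normalizer (cenV p G : Set G))
      (by rw [sup_comm]; exact s.nJ_le_lGrp fr (pc.le g.2) : (g : G) ∈ cenV p G ⊔ L)
    have hlP : l ∈ P := by
      have := mul_mem (inv_mem (pc.cen_le hc)) g.2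
      rwa [hgl, inv_mul_cancel_left] at this
    refine (himg _ _).2 ⟨⟨l, hlP⟩, ⟨hl, hlP⟩, ?_⟩
    have : g = ⟨c, pc.cen_le hc⟩ * ⟨l, hlP⟩ := Subtype.ext hgl
    rw [this, map_mul, pc.ker ⟨c, pc.cen_le hc⟩ hc, one_mul]
  -- a minimal one
  obtain ⟨X, hXmin⟩ : ∃ X, Minimal (· ∈ {Y : Subgroup G | B ≤ Y ∧ Y ≤ L ⊓ P ∧
      (Y.subgroupOf P).map ψ = ⊤}) X :=
    (Set.toFinite _).exists_minimal ⟨L ⊓ P, le_inf le_sup_left hBP, le_rfl, hX0⟩
  obtain ⟨hBX, hXLP, hXs⟩ := hXmin.1
  have hXP : X ≤ P := hXLP.trans inf_le_right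
  -- `B(T)` is a Sylow subgroup
  have hBp : IsPGroup p B := T.isPGroup'.to_le s.bT_le_T
  have hsyl : ∀ R : Subgroup G, R ≤ X → IsPGroup p R → B ≤ R → R = B := by
    intro R hRX hR hBR
    refine le_antisymm (fun r hr => ?_) hBR
    obtain ⟨c, hc, j, hj, rfl⟩ := H1.exists_mul_of_mem_sup
      (le_top.trans (normalizer_eq_top_iff.2 hCn).ge :
        jT p (T : Subgroup G) ≤ normalizer (cenV p G : Set G))
      (by rw [sup_comm]; exact pc.pgroup R (hRX.trans hXP) hR (s.jT_le_bT.trans hBR) hr :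
        r ∈ cenV p G ⊔ jT p (T : Subgroup G))
    refine mul_mem (s.pgroup_le_bT fr (hR.to_le inf_le_left) ?_ inf_le_right ⟨?_, hc⟩)
      (s.jT_le_bT hj)
    · exact inf_le_left.trans (hRX.trans (hXLP.trans inf_le_left))
    · have := mul_mem hr (inv_mem (hBR (s.jT_le_bT hj)))
      rwa [mul_inv_cancel_right] at this
  obtain ⟨S, hS⟩ := (hBp.comap_subtype (K := X)).exists_le_sylow
  have hSG : (S : Subgroup ↥X).map X.subtype = B := by
    refine hsyl _ (map_subtype_le _) (S.isPGroup'.map _) ?_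
    rw [← map_subgroupOf_eq_of_le hBX]
    exact map_mono hS
  -- the map to `PSL₂`
  set ψX : ↥X →* Matrix.ProjectiveSpecialLinearGroup (Fin 2) F := ψ.comp (inclusion hXP) with hψX
  have hψimg : ∀ Y : Subgroup G, Y ≤ X → (Y.subgroupOf X).map ψX = (Y.subgroupOf P).map ψ := by
    intro Y hY
    ext s
    rw [himg]
    constructor
    · rintro ⟨y, hy, rfl⟩
      exact ⟨inclusion hXP y, hy, rfl⟩
    · rintro ⟨y, hy, rfl⟩
      exact ⟨⟨y, hY hy⟩, hy, rfl⟩
  have hψs : Function.Surjective ψX := by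
    intro σ
    obtain ⟨y, hy, rfl⟩ := (himg X σ).1 (hXs ▸ mem_top σ)
    exact ⟨⟨y, hy⟩, rfl⟩
  have hBimg : (B.subgroupOf P).map ψ = ((jT p (T : Subgroup G)).subgroupOf P).map ψ := by
    refine le_antisymm (fun s' hs' => ?_) (map_mono (fun y hy => s.jT_le_bT hy))
    obtain ⟨y, hy, rfl⟩ := (himg _ _).1 hs'
    obtain ⟨c, hc, j, hj, hyj⟩ := H1.exists_mul_of_mem_sup
      (le_top.trans (normalizer_eq_top_iff.2 hCn).ge :
        jT p (T : Subgroup G) ≤ normalizer (cenV p G : Set G))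
      (by rw [sup_comm]; exact hBjC hy : (y : G) ∈ cenV p G ⊔ jT p (T : Subgroup G))
    have : y = ⟨c, pc.cen_le hc⟩ * ⟨j, pc.jT_le hj⟩ := Subtype.ext hyj
    rw [this, map_mul, pc.ker ⟨c, pc.cen_le hc⟩ hc, one_mul]
    exact mem_map_of_mem ψ hj
  have hupper : ∀ t, t ∈ (S : Subgroup ↥X).map ψX ↔ ∃ a, t = H39.transl a := by
    intro t
    rw [show (S : Subgroup ↥X) = B.subgroupOf X by
      rw [← hSG]; exact (comap_map_eq_self_of_injective X.subtype_injective _).symm,
      hψimg B hBX, hBimg]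
    exact pc.upper t
  -- unique maximal subgroup
  set P2 := S.mapSurjective hψs with hP2
  obtain ⟨Q2, hQ2⟩ := H78.PSL2.exists_sylow_ne P2
  set MX := (normalizer ((P2 : Subgroup (Matrix.ProjectiveSpecialLinearGroup (Fin 2) F)) :
    Set (Matrix.ProjectiveSpecialLinearGroup (Fin 2) F))).comap ψX with hMX
  have hMtop : MX ≠ ⊤ := by
    intro h
    obtain ⟨g, hg⟩ := MulAction.exists_smul_eq (Matrix.ProjectiveSpecialLinearGroup (Fin 2) F) P2 Q2
    refine hQ2 ?_
    rw [← hg, Sylow.smul_eq_iff_mem_normalizer]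
    obtain ⟨y, rfl⟩ := hψs g
    exact (show y ∈ MX by rw [h]; exact mem_top y)
  have hmaxu : ∀ H : Subgroup ↥X, (S : Subgroup ↥X) ≤ H → H ≠ ⊤ → H ≤ MX := by
    intro H hSH hH
    have hne : H.map ψX ≠ ⊤ := by
      intro h
      refine hH (map_injective X.subtype_injective ?_)
      rw [← MonoidHom.range_eq_map, range_subtype]
      refine hXmin.eq_of_le (y := H.map X.subtype) ⟨hSG.ge.trans (map_mono hSH),
        (map_subtype_le _).trans hXLP, ?_⟩ (map_subtype_le _)
      rw [← hψimg _ (map_subtype_le _), ← h]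
      congr 1
      exact comap_map_eq_self_of_injective X.subtype_injective H
    exact map_le_iff_le_comap.1 (psl_le_normalizer P2 (by
      rw [hP2, Sylow.coe_mapSurjective]; exact map_mono hSH) hne)
  have hSM : (S : Subgroup ↥X) ≤ MX := map_le_iff_le_comap.1 (by
    rw [← Sylow.coe_mapSurjective hψs]; exact le_normalizer)
  have huniq : ∃! M' : Subgroup ↥X, IsCoatom M' ∧ (S : Subgroup ↥X) ≤ M' := by
    refine ⟨MX, ⟨⟨hMtop, fun H hH => ?_⟩, hSM⟩, fun M' hM' => ?_⟩
    · by_contra hne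
      exact hH.not_ge (hmaxu H (hSM.trans hH.le) hne)
    · rcases (hmaxu M' hM'.2 hM'.1.1).lt_or_eq with h | h
      · exact absurd (hM'.1.2 MX h) hMtop
      · exact h
  -- characteristic `p`
  have hQB : Cfsg.pCore p G ⊓ B ≤ (Cfsg.pCore p ↥X).map X.subtype := by
    haveI := (s.core_inf_bT_normal).subgroupOf X
    rw [← map_subgroupOf_eq_of_le (inf_le_right.trans hBX : Cfsg.pCore p G ⊓ B ≤ X)]
    exact map_mono (H1.le_pCore (hBp.to_le inf_le_right).comap_subtype)
  have hcent : centralizer (Cfsg.pCore p ↥X : Set ↥X) ≤ Cfsg.pCore p ↥X := by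
    haveI := H1.pCore_normal' p ↥X
    haveI hcn : (centralizer (Cfsg.pCore p ↥X : Set ↥X)).Normal :=
      Subgroup.normal_centralizer ..
    refine H1.le_pCore (isPGroup_of_no_coprime fun y hy hyo => ?_)
    have hyo' : (orderOf (y : G)).Coprime p := by rwa [orderOf_coe]
    have hyB : ∀ w ∈ Cfsg.pCore p G ⊓ B, (y : G) * w = w * y := by
      intro w hw
      obtain ⟨w', hw', rfl⟩ := hQB hw
      exact (congrArg Subtype.val (mem_centralizer_iff.1 hy w' hw')).symm
    have hW : wStar p (T : Subgroup G) ≤ Cfsg.pCore p G ⊓ B := by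
      rw [s.core_inf_bT]; exact s.wStar_le_core
    have hyW : (y : G) ∈ centralizer (wStar p (T : Subgroup G) : Set G) :=
      mem_centralizer_iff.2 fun w hw => (hyB w (hW hw)).symm
    have hyQ : (y : G) ∈ centralizer (Cfsg.pCore p G : Set G) := by
      refine mem_centralizer_iff.2 fun q hq => (comm_eq_of_coprime (p := p)
        (hBp.to_le (inf_le_right : Cfsg.pCore p G ⊓ B ≤ B)) hyo' ?_ ?_).symm
      all_goals
        have hz : (y : G) * q * (y : G)⁻¹ * q⁻¹ ∈ Cfsg.pCore p G ⊓ B := by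
          rw [s.core_inf_bT]
          refine Subgroup.mem_inf.2 ⟨mul_mem ((H1.pCore_normal' p G).conj_mem q hq _) (inv_mem hq), ?_⟩
          haveI := s.wStar_normal
          haveI : (centralizer (wStar p (T : Subgroup G) : Set G)).Normal :=
            Subgroup.normal_centralizer ..
          rw [show (y : G) * q * (y : G)⁻¹ * q⁻¹ = y * (q * (y : G)⁻¹ * q⁻¹) by group]
          exact mul_mem hyW (Normal.conj_mem inferInstance _ (inv_mem hyW) q)
      · exact hz
      · exact hyB _ hz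
    have h1 := s.data.charp hyQ
    obtain ⟨k, hk⟩ := H1.isPGroup_pCore p G ⟨_, h1⟩
    exact Subtype.ext (orderOf_eq_one_iff.1 (Nat.eq_one_of_dvd_coprimes (hyo'.pow_right k) dvd_rfl
      (orderOf_dvd_of_pow_eq_one (by simpa using congrArg Subtype.val hk))))
  -- pushing up
  have hout : ¬ X ≤ M := pc.out X hXP (s.jT_le_bT.trans hBX) hXs
  have hnochar : ∀ C : Subgroup ↥(S : Subgroup ↥X), C.Characteristic → C ≠ ⊥ →
      ¬ ((C.map (S : Subgroup ↥X).subtype).Normal) := by
    intro C hC hCne hCn'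
    set e : ↥(S : Subgroup ↥X) ≃* ↥B :=
      ((S : Subgroup ↥X).equivMapOfInjective X.subtype X.subtype_injective).trans
        (MulEquiv.subgroupCongr hSG) with he
    set C' := (C.map (S : Subgroup ↥X).subtype).map X.subtype with hC'
    have hC'B : C' ≤ B := (map_mono (map_subtype_le _)).trans hSG.le
    have hC'c : (C'.subgroupOf B).Characteristic := by
      have hEq : C'.subgroupOf B = C.map e.toMonoidHom := by
        apply map_injective B.subtype_injective
        rw [map_subgroupOf_eq_of_le hC'B, hC', map_map, map_map]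
        rfl
      rw [hEq]
      refine characteristic_iff_map_eq.2 fun φ => ?_
      have hfix : C.map (e.trans (φ.trans e.symm)).toMonoidHom = C :=
        characteristic_iff_map_eq.1 hC _
      conv_rhs => rw [← hfix]
      rw [map_map, map_map]
      congr 1
      ext a
      simp
    refine s.nochar C' hC'B ?_ hC'c (normalizer_eq_top_iff.1 ?_)
    · intro h
      exact hCne ((map_eq_bot_iff_of_injective C
        (X.subtype_injective.comp (S : Subgroup ↥X).subtype_injective)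
        (f := X.subtype.comp (S : Subgroup ↥X).subtype)).1 (by rw [← map_map]; exact h))
    by_contra hne
    refine hout (le_trans ?_ (s.data.uniq _ ?_ hne))
    · exact H75.le_normalizer_of_conj fun g hg c hc => by
        obtain ⟨c', hc', rfl⟩ := hc
        exact ⟨⟨g, hg⟩ * c' * ⟨g, hg⟩⁻¹, hCn'.conj_mem c' hc' _, rfl⟩
    · haveI := hC'c
      refine le_trans ?_ ((H75.normalizer_le_normalizer_map_characteristic B
        (C'.subgroupOf B)).trans (by rw [map_subgroupOf_eq_of_le hC'B]))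
      exact H78.Block.le_normalizer_baumann T T.isPGroup' (s.bT_le_T.trans le_normalizer)
  have hsit : H71.BGNP.Sit p ψX S := ⟨hψs, inferInstance, hcent, huniq, hnochar, hupper⟩
  have hbody := linBody_map X.subtype_injective (H80.PU.body hsit hF)
  rw [hSG] at hbody
  set E := (H80.PU.opX p ↥X).map X.subtype with hE
  have hres : H75.resOf p X = E := by
    rw [hE, H80.PU.opX, H75.resOf, H75.resOf, MonoidHom.map_closure]
    congr 1
    ext z
    constructor
    · rintro ⟨hz, hzo⟩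
      exact ⟨⟨z, hz⟩, ⟨mem_top _, by rwa [← orderOf_coe] ⟩, rfl⟩
    · rintro ⟨z, ⟨-, hzo⟩, rfl⟩
      exact ⟨z.2, by rwa [← orderOf_coe] at hzo⟩
  have hsup : E ⊔ B = X := by
    rw [hE, ← hSG, ← Subgroup.map_sup, H80.PU.opX_sup_sylow S, ← MonoidHom.range_eq_map, range_subtype]
  have hmoves : ⁅E, Cfsg.omegaOneCenter p (T : Subgroup G)⁆ ≠ ⊥ := fun h =>
    hout (hsup.ge.trans (sup_le ((commutator_eq_bot_iff_le_centralizer.1 h).trans s.data.cent_le)
      (s.bT_le_T.trans s.data.le_M)))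
  have hshift : p = 2 → ∃ t : ↥P, (t : G) ∈ B ∧ (t : G) ^ 2 = 1 ∧ ψ t ≠ 1 ∧
      ∀ b ∈ B, ⁅b, (t : G)⁆ ∈ Cfsg.pCoreOf p E := by
    intro hp2
    obtain ⟨t, ht, ht2, htψ, htc⟩ := H80.PU.exists_shift hsit hp2
    refine ⟨inclusion hXP t, hSG ▸ mem_map_of_mem X.subtype ht, congrArg Subtype.val ht2, htψ,
      fun b hb => ?_⟩
    rw [← hSG] at hb
    obtain ⟨b', hb', rfl⟩ := hb
    rw [hE, ← map_core (p := p) X.subtype_injective]
    exact ⟨_, htc b' hb', map_commutatorElement X.subtype b' t⟩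
  obtain ⟨h1, h2, h3, h4, h5, h6⟩ := hbody
  exact ⟨X, E, hXLP, hBX, hXs, hsyl, hres, hsup, ⟨h1, h2, h3, h4, h5, h6⟩, hmoves, hshift,
    h1, h2, h3, hmoves, Or.inl ⟨F, inferInstance, inferInstance, n, hF, h4, h5, h6⟩⟩

end H80.PM
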