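import Cfsg.Agent.H80.PM.Comps
import Cfsg.Agent.H37.SmallIso
import Cfsg.Agent.H39.Borel

/-!
Permutations of `2m+1` points adapted to `m` fixed pairs and a last point.
-/

set_option autoImplicit false
set_option linter.unusedSectionVars false

open Equiv Subgroup
open scoped Pointwise MatrixGroups commutatorElement

namespace H80.PM.SP

variable {m : ℕ}

/-- first point of the `k`-th pair -/
abbrev pa (k : Fin m) : Fin (2 * m + 1) := ⟨2 * k.1, by omega⟩

/-- second point of the `k`-th pair -/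
abbrev pb (k : Fin m) : Fin (2 * m + 1) := ⟨2 * k.1 + 1, by omega⟩

/-- the last point -/
abbrev pz (m : ℕ) : Fin (2 * m + 1) := ⟨2 * m, by omega⟩

theorem pt_cases (x : Fin (2 * m + 1)) : x = pz m ∨ ∃ k, x = pa k ∨ x = pb k := by
  rcases Nat.lt_or_ge x.1 (2 * m) with h | h
  · refine Or.inr ⟨⟨x.1 / 2, by omega⟩, ?_⟩
    rcases Nat.mod_two_eq_zero_or_one x.1 with h2 | h2
    · exact Or.inl (Fin.ext (by simp; omega))
    · exact Or.inr (Fin.ext (by simp; omega))
  · exact Or.inl (Fin.ext (by have := x.2; simp; omega))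

theorem pa_ne_pb {k l : Fin m} : pa k ≠ pb l := fun h => by simp [Fin.ext_iff] at h; omega
theorem pb_ne_pa {k l : Fin m} : pb k ≠ pa l := fun h => pa_ne_pb h.symm
theorem pa_ne_pz {k : Fin m} : pa k ≠ pz m := fun h => by simp [Fin.ext_iff] at h; omega
theorem pb_ne_pz {k : Fin m} : pb k ≠ pz m := fun h => by simp [Fin.ext_iff] at h; omega
theorem pa_inj {k l : Fin m} (h : pa k = pa l) : k = l := by simp [Fin.ext_iff] at h; exact Fin.ext h
theorem pb_inj {k l : Fin m} (h : pb k = pb l) : k = l := by simp [Fin.ext_iff] at h; exact Fin.ext h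

/-- The transposition of the `k`-th pair. -/
abbrev tau (k : Fin m) : Perm (Fin (2 * m + 1)) := swap (pa k) (pb k)

/-- `σ` preserves the `k`-th pair. -/
def PairFix (σ : Perm (Fin (2 * m + 1))) (k : Fin m) : Prop :=
  (σ (pa k) = pa k ∧ σ (pb k) = pb k) ∨ (σ (pa k) = pb k ∧ σ (pb k) = pa k)

theorem PairFix.one (k : Fin m) : PairFix (1 : Perm (Fin (2 * m + 1))) k := Or.inl ⟨rfl, rfl⟩

theorem PairFix.mul {σ τ : Perm (Fin (2 * m + 1))} {k : Fin m} (h : PairFix σ k) (h' : PairFix τ k) :
    PairFix (σ * τ) k := by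
  rcases h with ⟨a, b⟩ | ⟨a, b⟩ <;> rcases h' with ⟨c, d⟩ | ⟨c, d⟩
  · exact Or.inl ⟨by simp [c, a], by simp [d, b]⟩
  · exact Or.inr ⟨by simp [c, b], by simp [d, a]⟩
  · exact Or.inr ⟨by simp [c, a], by simp [d, b]⟩
  · exact Or.inl ⟨by simp [c, b], by simp [d, a]⟩

theorem PairFix.inv {σ : Perm (Fin (2 * m + 1))} {k : Fin m} (h : PairFix σ k) :
    PairFix σ⁻¹ k := by
  rcases h with ⟨a, b⟩ | ⟨a, b⟩
  · exact Or.inl ⟨by rw [Perm.inv_eq_iff_eq, a], by rw [Perm.inv_eq_iff_eq, b]⟩
  · exact Or.inr ⟨by rw [Perm.inv_eq_iff_eq, b], by rw [Perm.inv_eq_iff_eq, a]⟩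

theorem tau_pairFix (k l : Fin m) : PairFix (tau k) l := by
  by_cases h : k = l
  · subst h; exact Or.inr ⟨swap_apply_left _ _, swap_apply_right _ _⟩
  · exact Or.inl ⟨swap_apply_of_ne_of_ne (fun e => h (pa_inj e).symm) pa_ne_pb,
      swap_apply_of_ne_of_ne pb_ne_pa fun e => h (pb_inj e).symm⟩

theorem tau_pz (k : Fin m) : tau k (pz m) = pz m :=
  swap_apply_of_ne_of_ne pa_ne_pz.symm pb_ne_pz.symm

theorem tau_sq (k : Fin m) : tau k * tau k = 1 := swap_mul_self _ _

theorem tau_mem (k : Fin m) : tau k ∈ pairsSub m := subset_closure ⟨k, rfl⟩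

theorem mem_pairs {σ : Perm (Fin (2 * m + 1))} : σ ∈ pairsSub m ↔ ∀ k, PairFix σ k := by
  classical
  constructor
  · intro h
    induction h using Subgroup.closure_induction with
    | mem g hg => obtain ⟨j, rfl⟩ := hg; exact fun k => tau_pairFix j k
    | one => exact PairFix.one
    | mul a b _ _ ia ib => exact fun k => (ia k).mul (ib k)
    | inv a _ ia => exact fun k => (ia k).inv
  · intro h
    induction hn : (Finset.univ.filter fun k => σ (pa k) ≠ pa k).card using Nat.strong_induction_on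
      generalizing σ with
    | _ N ih =>
      subst hn
      by_cases hne : ∃ k, σ (pa k) ≠ pa k
      · obtain ⟨k, hk⟩ := hne
        have hk' : σ (pa k) = pb k ∧ σ (pb k) = pa k :=
          (h k).resolve_left fun e => hk e.1
        have h1 : ∀ l, PairFix (tau k * σ) l := fun l => (tau_pairFix k l).mul (h l)
        have hlt : (Finset.univ.filter fun l => (tau k * σ) (pa l) ≠ pa l).card <
            (Finset.univ.filter fun l => σ (pa l) ≠ pa l).card := by
          refine Finset.card_lt_card ⟨fun l hl => ?_, fun hle => ?_⟩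
          · rw [Finset.mem_filter] at hl ⊢
            refine ⟨hl.1, fun e => hl.2 ?_⟩
            rw [Perm.mul_apply, e]
            refine swap_apply_of_ne_of_ne (fun e' => hk ?_) pa_ne_pb
            rw [← pa_inj e', e]
          · have hh := hle (Finset.mem_filter.2 ⟨Finset.mem_univ k, hk⟩)
            rw [Finset.mem_filter] at hh
            exact hh.2 (by rw [Perm.mul_apply, hk'.1]; exact swap_apply_right _ _)
        have := mul_mem (tau_mem k) (ih _ hlt h1 rfl)
        rwa [← mul_assoc, tau_sq, one_mul] at this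
      · push Not at hne
        have hfix : ∀ k, σ (pb k) = pb k := fun k =>
          ((h k).resolve_right fun e => pa_ne_pb ((hne k).symm.trans e.1)).2
        have : σ = 1 := by
          ext x
          rw [Perm.one_apply]
          rcases pt_cases x with rfl | ⟨k, rfl | rfl⟩
          · rcases pt_cases (σ (pz m)) with e | ⟨k, e | e⟩
            · rw [e]
            · exact absurd (σ.injective (e.trans (hne k).symm)) pa_ne_pz.symm
            · exact absurd (σ.injective (e.trans (hfix k).symm)) pb_ne_pz.symm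
          · rw [hne k]
          · rw [hfix k]
        rw [this]; exact one_mem _

theorem pairs_pz {σ : Perm (Fin (2 * m + 1))} (h : σ ∈ pairsSub m) : σ (pz m) = pz m := by
  induction h using Subgroup.closure_induction with
  | mem g hg => obtain ⟨j, rfl⟩ := hg; exact tau_pz j
  | one => rfl
  | mul a b _ _ ia ib => rw [Perm.mul_apply, ib, ia]
  | inv a _ ia => rw [Perm.inv_eq_iff_eq, ia]

theorem pairs_sq {σ : Perm (Fin (2 * m + 1))} (h : σ ∈ pairsSub m) : σ ^ 2 = 1 := by
  ext x
  rw [pow_two, Perm.mul_apply, Perm.one_apply]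
  rcases pt_cases x with rfl | ⟨k, rfl | rfl⟩
  · rw [pairs_pz h, pairs_pz h]
  · rcases mem_pairs.1 h k with ⟨a, b⟩ | ⟨a, b⟩
    · rw [a, a]
    · rw [a, b]
  · rcases mem_pairs.1 h k with ⟨a, b⟩ | ⟨a, b⟩
    · rw [b, b]
    · rw [b, a]

theorem pairs_isPGroup : IsPGroup 2 (pairsSub m) := fun g =>
  ⟨1, Subtype.ext (by rw [pow_one, SubgroupClass.coe_pow]; exact pairs_sq g.2)⟩

/-- The subgroup preserving all pairs but the `j`-th. -/
def hold (j : Fin m) : Subgroup (Perm (Fin (2 * m + 1))) where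
  carrier := {σ | ∀ k, k ≠ j → PairFix σ k}
  one_mem' k _ := PairFix.one k
  mul_mem' ha hb k hk := (ha k hk).mul (hb k hk)
  inv_mem' ha k hk := (ha k hk).inv

theorem mem_hold {j : Fin m} {σ : Perm (Fin (2 * m + 1))} :
    σ ∈ hold j ↔ ∀ k, k ≠ j → PairFix σ k := Iff.rfl

theorem pairs_le_hold (j : Fin m) : pairsSub m ≤ hold j := fun _ h k _ => mem_pairs.1 h k

/-- The three points of the `j`-th piece. -/
def tri (j : Fin m) : Fin 3 → Fin (2 * m + 1) := ![pa j, pb j, pz m]

theorem tri_injective (j : Fin m) : Function.Injective (tri j) := by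
  intro x y h
  fin_cases x <;> fin_cases y <;>
    first
    | rfl
    | exact absurd h pa_ne_pb
    | exact absurd h pb_ne_pa
    | exact absurd h pa_ne_pz
    | exact absurd h pb_ne_pz
    | exact absurd h.symm pa_ne_pz
    | exact absurd h.symm pb_ne_pz

theorem hold_range {j : Fin m} {σ : Perm (Fin (2 * m + 1))} (h : σ ∈ hold j) (x : Fin 3) :
    ∃ y, tri j y = σ (tri j x) := by
  rcases pt_cases (σ (tri j x)) with e | ⟨k, e⟩
  · exact ⟨2, e.symm⟩
  by_cases hk : k = j
  · subst hk
    rcases e with e | e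
    · exact ⟨0, e.symm⟩
    · exact ⟨1, e.symm⟩
  exfalso
  have hx : ∀ q, σ q = σ (tri j x) → q ≠ pa k ∧ q ≠ pb k := by
    intro q hq
    rw [σ.injective hq]
    fin_cases x
    · exact ⟨fun h => hk (pa_inj h).symm, pa_ne_pb⟩
    · exact ⟨pb_ne_pa, fun h => hk (pb_inj h).symm⟩
    · exact ⟨pa_ne_pz.symm, pb_ne_pz.symm⟩
  rcases h k hk with ⟨a, b⟩ | ⟨a, b⟩ <;> rcases e with e | e
  · exact (hx _ (a.trans e.symm)).1 rfl
  · exact (hx _ (b.trans e.symm)).2 rfl
  · exact (hx _ (b.trans e.symm)).2 rfl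
  · exact (hx _ (a.trans e.symm)).1 rfl

/-- The restriction to the three points. -/
noncomputable def chi (j : Fin m) : ↥(hold j) →* Perm (Fin 3) where
  toFun σ := Equiv.ofBijective (fun x => (hold_range σ.2 x).choose)
    (Finite.injective_iff_bijective.1 fun x y h => tri_injective j (σ.1.injective (by
      have hx := (hold_range σ.2 x).choose_spec
      have hy := (hold_range σ.2 y).choose_spec
      rw [← hx, ← hy]
      exact congrArg (tri j) h)))
  map_one' := Equiv.ext fun x => tri_injective j ((hold_range (one_mem _) x).choose_spec)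
  map_mul' σ τ := Equiv.ext fun x => tri_injective j (by
    simp only [Equiv.ofBijective_apply, Perm.mul_apply]
    rw [(hold_range (σ * τ).2 x).choose_spec, (hold_range σ.2 _).choose_spec,
      (hold_range τ.2 x).choose_spec]
    rfl)

theorem chi_spec {j : Fin m} (σ : ↥(hold j)) (x : Fin 3) :
    tri j (chi j σ x) = (σ : Perm (Fin (2 * m + 1))) (tri j x) := (hold_range σ.2 x).choose_spec

theorem chi_surjective (j : Fin m) : Function.Surjective (chi j) := by
  intro π
  let f : Fin 3 ↪ Fin (2 * m + 1) := ⟨tri j, tri_injective j⟩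
  have hout : ∀ k, k ≠ j → ∀ q, q = pa k ∨ q = pb k → Perm.viaEmbedding π f q = q := by
    intro k hk q hq
    refine Perm.viaEmbedding_apply_of_notMem _ _ _ ?_
    rintro ⟨x, hx⟩
    replace hx : tri j x = q := hx
    fin_cases x <;> rcases hq with rfl | rfl
    · exact hk (pa_inj hx).symm
    · exact pa_ne_pb hx
    · exact pb_ne_pa hx
    · exact hk (pb_inj hx).symm
    · exact pa_ne_pz hx.symm
    · exact pb_ne_pz hx.symm
  have hmem : Perm.viaEmbedding π f ∈ hold j := fun k hk =>
    Or.inl ⟨hout k hk _ (Or.inl rfl), hout k hk _ (Or.inr rfl)⟩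
  exact ⟨⟨_, hmem⟩, Equiv.ext fun x => tri_injective j
    ((chi_spec _ x).trans (Perm.viaEmbedding_apply π f x))⟩

theorem mem_pairs_of_chi {j : Fin m} {σ : ↥(hold j)}
    (h : chi j σ = 1 ∨ chi j σ = swap 0 1) : (σ : Perm (Fin (2 * m + 1))) ∈ pairsSub m := by
  refine mem_pairs.2 fun k => ?_
  by_cases hk : k = j
  · subst hk
    have h0 := chi_spec σ 0
    have h1 := chi_spec σ 1
    rcases h with h | h <;> rw [h] at h0 h1
    · exact Or.inl ⟨h0.symm, h1.symm⟩
    · exact Or.inr ⟨h0.symm, h1.symm⟩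
  · exact σ.2 k hk

theorem chi_pairs {j : Fin m} {σ : ↥(hold j)} (h : (σ : Perm (Fin (2 * m + 1))) ∈ pairsSub m) :
    chi j σ = 1 ∨ chi j σ = swap 0 1 := by
  have hz : chi j σ 2 = 2 := tri_injective j ((chi_spec σ 2).trans (pairs_pz h))
  rcases mem_pairs.1 h j with ⟨a, b⟩ | ⟨a, b⟩
  · left
    refine Equiv.ext fun x => ?_
    fin_cases x
    · exact tri_injective j ((chi_spec σ 0).trans a)
    · exact tri_injective j ((chi_spec σ 1).trans b)
    · exact hz
  · right
    refine Equiv.ext fun x => ?_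
    fin_cases x
    · exact tri_injective j ((chi_spec σ 0).trans a)
    · exact tri_injective j ((chi_spec σ 1).trans b)
    · exact hz

theorem chi_tau (j : Fin m) : chi j ⟨tau j, pairs_le_hold j (tau_mem j)⟩ = swap 0 1 := by
  refine (chi_pairs (tau_mem j)).resolve_left fun h => pa_ne_pb (k := j) (l := j) ?_
  have h0 := chi_spec ⟨tau j, pairs_le_hold j (tau_mem j)⟩ 0
  rw [h] at h0
  exact h0.trans (swap_apply_left _ _)

/-- `PSL₂` over the field with two elements. -/
theorem exists_mu : ∃ μ : Perm (Fin 3) ≃* Matrix.ProjectiveSpecialLinearGroup (Fin 2) (ZMod 2),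
    μ (swap 0 1) = H39.transl 1 := by
  classical
  haveI : Fact (Nat.Prime 2) := ⟨Nat.prime_two⟩
  have hc : Nat.card (ZMod 2) = 2 := by simp
  obtain ⟨e⟩ := H37.SL2_two_mulEquiv_perm (F := ZMod 2) hc
  have hsl : Nat.card SL(2, ZMod 2) = 6 := by
    rw [Nat.card_congr e.toEquiv, Nat.card_perm, Nat.card_fin]; rfl
  have hbij : Function.Bijective (H39.proj : SL(2, ZMod 2) →* _) := by
    refine (Nat.bijective_iff_surjective_and_card _).2 ⟨H39.proj_surjective, ?_⟩
    have := H37.card_PSL_two (F := ZMod 2)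
    rw [hc] at this
    rw [hsl]
    simpa using this.symm
  set μ₀ := e.symm.trans (MulEquiv.ofBijective _ hbij) with hμ₀
  set a := μ₀.symm (H39.transl 1) with ha
  have ha1 : a ≠ 1 := fun h => H39.transl_ne_one (F := ZMod 2) one_ne_zero (by
    have := congrArg μ₀ h
    rwa [map_one, ha, MulEquiv.apply_symm_apply] at this)
  have ha2 : a * a = 1 := by
    rw [ha, ← map_mul, H39.transl_mul, show (1 : ZMod 2) + 1 = 0 from rfl, H39.transl_zero, map_one]
  obtain ⟨g, hg⟩ : ∃ g : Perm (Fin 3), g * swap 0 1 * g⁻¹ = a := by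
    revert ha1 ha2
    generalize a = b
    revert b
    decide
  refine ⟨(MulAut.conj g).trans μ₀, ?_⟩
  rw [MulEquiv.trans_apply, MulAut.conj_apply, hg, ha, MulEquiv.apply_symm_apply]

theorem top_of_swaps {H : Subgroup (Perm (Fin (2 * m + 1)))}
    (h : ∀ x, x ≠ pz m → swap (pz m) x ∈ H) : H = ⊤ := by
  refine top_le_iff.1 ?_
  rw [← Perm.closure_isSwap, closure_le]
  rintro _ ⟨x, y, hxy, rfl⟩
  by_cases hx : x = pz m
  · subst hx; exact h y hxy.symm
  by_cases hy : y = pz m
  · subst hy; rw [swap_comm]; exact h x hx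
  have e : swap x y = swap (pz m) x * swap (pz m) y * (swap (pz m) x)⁻¹ := by
    rw [← swap_apply_apply, swap_apply_left, swap_apply_of_ne_of_ne hy hxy.symm]
  rw [e]
  exact mul_mem (mul_mem (h x hx) (h y hy)) (inv_mem (h x hx))

theorem pairs_normalClosure : normalClosure (pairsSub m : Set (Perm (Fin (2 * m + 1)))) = ⊤ := by
  refine top_of_swaps fun x hx => ?_
  obtain ⟨k, hk⟩ := (pt_cases x).resolve_left hx
  have h1 : tau k ∈ normalClosure (pairsSub m : Set (Perm (Fin (2 * m + 1)))) :=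
    subset_normalClosure (tau_mem k)
  rcases hk with rfl | rfl
  · have h2 := normalClosure_normal.conj_mem _ h1 (swap (pb k) (pz m))
    rwa [show swap (pb k) (pz m) * tau k * (swap (pb k) (pz m))⁻¹ = swap (pz m) (pa k) by
      rw [← swap_apply_apply, swap_apply_left,
        swap_apply_of_ne_of_ne pa_ne_pb pa_ne_pz, swap_comm]] at h2
  · have h2 := normalClosure_normal.conj_mem _ h1 (swap (pa k) (pz m))
    rwa [show swap (pa k) (pz m) * tau k * (swap (pa k) (pz m))⁻¹ = swap (pz m) (pb k) by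
      rw [← swap_apply_apply, swap_apply_left,
        swap_apply_of_ne_of_ne pb_ne_pa pb_ne_pz]] at h2

/-- An even permutation in `hold j` moving the last point gives the transposition. -/
theorem swap_of_cycle {H : Subgroup (Perm (Fin (2 * m + 1)))} (hP : pairsSub m ≤ H) {j : Fin m}
    {σ : Perm (Fin (2 * m + 1))} (hσ : σ ∈ H) (hh : σ ∈ hold j) (hz : σ (pz m) ≠ pz m) :
    swap (pz m) (pa j) ∈ H := by
  obtain ⟨π, hπdef⟩ : ∃ π, π = chi j ⟨σ, hh⟩ := ⟨_, rfl⟩
  -- modulo the pairs only the restriction matters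
  have hπ2 : π 2 ≠ 2 := fun h => hz (by
    have := chi_spec ⟨σ, hh⟩ 2
    rw [← hπdef, h] at this
    exact this.symm)
  have key : ∃ u v : Perm (Fin 3), (u = 1 ∨ u = swap 0 1) ∧ (v = 1 ∨ v = swap 0 1) ∧
      u * π * v = swap 2 0 := by
    revert hπ2
    generalize π = b
    revert b
    decide
  obtain ⟨u, v, hu, hv, huv⟩ := key
  have lift : ∀ u : Perm (Fin 3), u = 1 ∨ u = swap 0 1 →
      ∃ u' : ↥(hold j), (u' : Perm (Fin (2 * m + 1))) ∈ H ∧ chi j u' = u := by
    rintro u (rfl | rfl)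
    · exact ⟨1, one_mem _, map_one _⟩
    · exact ⟨⟨tau j, pairs_le_hold j (tau_mem j)⟩, hP (tau_mem j), chi_tau j⟩
  obtain ⟨u', hu', rfl⟩ := lift u hu
  obtain ⟨v', hv', rfl⟩ := lift v hv
  have hsw : swap (pz m) (pa j) ∈ hold j := fun k hk =>
    Or.inl ⟨swap_apply_of_ne_of_ne pa_ne_pz fun e => hk (pa_inj e),
      swap_apply_of_ne_of_ne pb_ne_pz pb_ne_pa⟩
  set ρ : ↥(hold j) := u' * ⟨σ, hh⟩ * v' * ⟨_, hsw⟩ with hρ
  have hchi : chi j ⟨_, hsw⟩ = swap 2 0 := by
    refine Equiv.ext fun x => tri_injective j ((chi_spec _ x).trans ?_)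
    fin_cases x
    · exact swap_apply_right _ _
    · exact swap_apply_of_ne_of_ne pb_ne_pz pb_ne_pa
    · exact swap_apply_left _ _
  have hρ1 : (ρ : Perm (Fin (2 * m + 1))) ∈ H := hP (mem_pairs_of_chi (Or.inl (by
    rw [hρ, map_mul, map_mul, map_mul, ← hπdef, huv, hchi, swap_mul_self])))
  have h2 : (u' * ⟨σ, hh⟩ * v' : ↥(hold j)).1 ∈ H := mul_mem (mul_mem hu' hσ) hv'
  have h3 := mul_mem (inv_mem h2) hρ1
  simpa [hρ, mul_assoc] using h3

/-- Even permutations moving the last point inside each piece generate the alternating group. -/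
theorem eq_alternating (hm : 2 ≤ m) {H : Subgroup (Perm (Fin (2 * m + 1)))}
    (hle : H ≤ alternatingGroup (Fin (2 * m + 1)))
    (hN : pairsSub m ≤ normalizer (H : Set (Perm (Fin (2 * m + 1)))))
    (hj : ∀ j, ∃ σ ∈ H, σ ∈ hold j ∧ σ (pz m) ≠ pz m) :
    H = alternatingGroup (Fin (2 * m + 1)) := by
  have htop : H ⊔ pairsSub m = ⊤ := by
    refine top_of_swaps fun x hx => ?_
    obtain ⟨k, hk⟩ := (pt_cases x).resolve_left hx
    obtain ⟨σ, hσ, hh, hz⟩ := hj k
    have h1 := swap_of_cycle (H := H ⊔ pairsSub m) le_sup_right (mem_sup_left hσ) hh hz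
    rcases hk with rfl | rfl
    · exact h1
    · have h2 := mul_mem (mul_mem (mem_sup_right (tau_mem k)) h1) (inv_mem (mem_sup_right (tau_mem k)))
      rwa [← swap_apply_apply, tau_pz, show tau k (pa k) = pb k from swap_apply_left _ _] at h2
  haveI : H.Normal :=
    normalizer_eq_top_iff.1 (top_le_iff.1 (htop.ge.trans (sup_le le_normalizer hN)))
  refine le_antisymm hle ?_
  rw [← alternatingGroup.commutator_perm_eq (by rw [Nat.card_fin]; omega), _root_.commutator_def,
    commutator_le]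
  intro a _ b _
  obtain ⟨i, hi, u, hu, rfl⟩ := mem_sup_of_normal_left.1 (htop.ge (mem_top a))
  obtain ⟨i', hi', v, hv, rfl⟩ := mem_sup_of_normal_left.1 (htop.ge (mem_top b))
  rw [← QuotientGroup.eq_one_iff]
  show QuotientGroup.mk' H ⁅i * u, i' * v⁆ = 1
  have hq : ∀ x ∈ H, QuotientGroup.mk' H x = 1 := fun x hx => (QuotientGroup.eq_one_iff x).2 hx
  have huv : u * v = v * u := by
    have h1 := pairs_sq hu
    have h2 := pairs_sq hv
    have h3 := pairs_sq (mul_mem hu hv)
    rw [pow_two] at h1 h2 h3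
    rw [← inv_eq_of_mul_eq_one_right h3, mul_inv_rev, inv_eq_of_mul_eq_one_right h2,
      inv_eq_of_mul_eq_one_right h1]
  rw [map_commutatorElement, map_mul, map_mul, hq i hi, hq i' hi', one_mul, one_mul,
    ← map_commutatorElement, commutatorElement_eq_one_iff_mul_comm.2 huv, map_one]

/-- The stabiliser of the last point. -/
abbrev stab (m : ℕ) : Subgroup (Perm (Fin (2 * m + 1))) :=
  MulAction.stabilizer (Perm (Fin (2 * m + 1))) (pz m)

theorem mem_stab {σ : Perm (Fin (2 * m + 1))} : σ ∈ stab m ↔ σ (pz m) = pz m := Iff.rfl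

/-- Permutations of the first `2m` points. -/
noncomputable abbrev emb (m : ℕ) : Perm (Fin (2 * m)) →* Perm (Fin (2 * m + 1)) :=
  Perm.viaEmbeddingHom (Fin.castSuccEmb : Fin (2 * m) ↪ Fin (2 * m + 1))

theorem emb_pz (π : Perm (Fin (2 * m))) : emb m π (pz m) = pz m := by
  refine Perm.viaEmbedding_apply_of_notMem _ _ _ ?_
  rintro ⟨i, hi⟩
  have := congrArg Fin.val hi
  simp at this
  omega

theorem emb_cast (π : Perm (Fin (2 * m))) (i : Fin (2 * m)) :
    emb m π i.castSucc = (π i).castSucc := Perm.viaEmbedding_apply π Fin.castSuccEmb i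

theorem sign_emb (π : Perm (Fin (2 * m))) : Perm.sign (emb m π) = Perm.sign π := by
  rw [emb, Perm.viaEmbeddingHom_apply, Perm.viaEmbedding, Perm.sign_extendDomain]

theorem emb_range : (emb m).range = stab m := by
  refine le_antisymm ?_ fun σ hσ => ?_
  · rintro _ ⟨π, rfl⟩; exact emb_pz π
  have hne : ∀ i : Fin (2 * m), (σ i.castSucc).1 < 2 * m := by
    intro i
    rcases pt_cases (σ i.castSucc) with e | ⟨k, e | e⟩
    · have := congrArg Fin.val (σ.injective (e.trans (mem_stab.1 hσ).symm))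
      simp at this; omega
    · rw [e]; simp
    · rw [e]; simp; omega
  let π : Perm (Fin (2 * m)) := Equiv.ofBijective (fun i => ⟨(σ i.castSucc).1, hne i⟩)
    (Finite.injective_iff_bijective.1 fun a b h =>
      Fin.castSucc_injective _ (σ.injective (Fin.ext (by simpa using congrArg Fin.val h))))
  refine ⟨π, Equiv.ext fun x => ?_⟩
  rcases Nat.lt_or_ge x.1 (2 * m) with h | h
  · have hx : (⟨x.1, h⟩ : Fin (2 * m)).castSucc = x := rfl
    rw [← hx, emb_cast]; rfl
  · obtain rfl : x = pz m := Fin.ext (by have := x.2; simp; omega)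
    rw [emb_pz, mem_stab.1 hσ]

theorem stab_inf_alt : stab m ⊓ alternatingGroup (Fin (2 * m + 1)) =
    (alternatingGroup (Fin (2 * m))).map (emb m) := by
  ext σ
  constructor
  · rintro ⟨h1, h2⟩
    obtain ⟨π, rfl⟩ := emb_range.ge h1
    exact ⟨π, by
      rw [SetLike.mem_coe, Perm.mem_alternatingGroup, ← sign_emb]
      exact Perm.mem_alternatingGroup.1 h2, rfl⟩
  · rintro ⟨π, hπ, rfl⟩
    exact Subgroup.mem_inf.2 ⟨emb_pz π, by
      rw [Perm.mem_alternatingGroup, sign_emb]
      exact Perm.mem_alternatingGroup.1 hπ⟩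

theorem top_of_stab {H : Subgroup (Perm (Fin (2 * m + 1)))} (hs : stab m ≤ H)
    {h : Perm (Fin (2 * m + 1))} (hh : h ∈ H) (hz : h (pz m) ≠ pz m) : H = ⊤ := by
  refine eq_top_iff.2 fun σ _ => ?_
  by_cases hσ : σ (pz m) = pz m
  · exact hs hσ
  have hu : swap (h (pz m)) (σ (pz m)) ∈ H :=
    hs (mem_stab.2 (swap_apply_of_ne_of_ne hz.symm fun e => hσ e.symm))
  have h1 : (swap (h (pz m)) (σ (pz m)) * h)⁻¹ * σ ∈ H := hs (mem_stab.2 (by
    rw [Perm.mul_apply, Perm.inv_eq_iff_eq, Perm.mul_apply, swap_apply_left]))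
  have := mul_mem (mul_mem hu hh) h1
  rwa [mul_inv_cancel_left] at this

/-- A Sylow `2`-subgroup containing the pairs fixes the last point and is transitive on the
others when `2m` is a power of `2`. -/
theorem sylow_transitive {k : ℕ} (hk : 2 * m = 2 ^ k)
    (P : Sylow 2 (Perm (Fin (2 * m + 1)))) (hP : pairsSub m ≤ P) :
    (P : Subgroup (Perm (Fin (2 * m + 1)))) ≤ stab m ∧
      ∀ x y : Fin (2 * m + 1), x ≠ pz m → y ≠ pz m →
        ∃ t ∈ (P : Subgroup (Perm (Fin (2 * m + 1)))), t x = y := by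
  classical
  haveI : Fact (Nat.Prime 2) := ⟨Nat.prime_two⟩
  have hPs : (P : Subgroup (Perm (Fin (2 * m + 1)))) ≤ stab m := by
    obtain ⟨f, hf⟩ := P.isPGroup'.nonempty_fixed_point_of_prime_not_dvd_card (Fin (2 * m + 1))
      (by rw [Nat.card_fin]; omega)
    have hfz : f = pz m := by
      rcases pt_cases f with h | ⟨j, h | h⟩
      · exact h
      · exfalso
        have := hf ⟨tau j, hP (tau_mem j)⟩
        subst h
        exact pa_ne_pb ((show tau j (pa j) = pa j from this).symm.trans (swap_apply_left _ _))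
      · exfalso
        have := hf ⟨tau j, hP (tau_mem j)⟩
        subst h
        exact pb_ne_pa ((show tau j (pb j) = pb j from this).symm.trans (swap_apply_right _ _))
    intro t ht
    rw [mem_stab]
    subst hfz
    exact hf ⟨t, ht⟩
  refine ⟨hPs, fun x y hx hy => ?_⟩
  -- the corresponding Sylow subgroup on `2m` points
  set Q : Subgroup (Perm (Fin (2 * m))) := (P : Subgroup (Perm (Fin (2 * m + 1)))).comap (emb m)
    with hQ
  have hQc : Nat.card Q = 2 ^ (Nat.card (Perm (Fin (2 * m)))).factorization 2 := by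
    have h1 : Q.map (emb m) = (P : Subgroup (Perm (Fin (2 * m + 1)))) :=
      map_comap_eq_self (hPs.trans emb_range.ge)
    have hinj : Function.Injective (emb m) :=
      Perm.viaEmbeddingHom_injective (Fin.castSuccEmb : Fin (2 * m) ↪ Fin (2 * m + 1))
    rw [← card_map_of_injective hinj, h1,
      P.card_eq_multiplicity, Nat.card_perm, Nat.card_perm, Nat.card_fin, Nat.card_fin,
      Nat.factorial_succ, Nat.factorization_mul (by omega) (Nat.factorial_ne_zero _),
      Finsupp.add_apply, Nat.factorization_eq_zero_of_not_dvd (by omega), zero_add]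
  obtain ⟨x', rfl⟩ : ∃ x' : Fin (2 * m), x = x'.castSucc := by
    refine ⟨⟨x.1, ?_⟩, rfl⟩
    by_contra h; exact hx (Fin.ext (by have := x.2; simp; omega))
  obtain ⟨y', rfl⟩ : ∃ y' : Fin (2 * m), y = y'.castSucc := by
    refine ⟨⟨y.1, ?_⟩, rfl⟩
    by_contra h; exact hy (Fin.ext (by have := y.2; simp; omega))
  have horb : MulAction.orbit ↥Q x' = Set.univ := by
    set G0 := Perm (Fin (2 * m))
    set v := (Nat.card G0).factorization 2 with hv
    have hO : Nat.card (MulAction.orbit ↥Q x') * Nat.card (MulAction.stabilizer ↥Q x') = 2 ^ v := by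
      rw [← hQc, ← Nat.card_prod]
      exact Nat.card_congr (MulAction.orbitProdStabilizerEquivGroup ↥Q x')
    have hS : Nat.card (MulAction.stabilizer ↥Q x') ∣ Nat.card (MulAction.stabilizer G0 x') :=
      Subgroup.card_dvd_of_injective
        ((Q.subtype.comp (MulAction.stabilizer ↥Q x').subtype).codRestrict
          (MulAction.stabilizer G0 x') fun g => g.2)
        fun a b h => Subtype.ext (Subtype.ext (congrArg Subtype.val h :))
    have hG : 2 ^ k * Nat.card (MulAction.stabilizer G0 x') = Nat.card G0 := by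
      have := Nat.card_congr (MulAction.orbitProdStabilizerEquivGroup G0 x')
      rw [Nat.card_prod, MulAction.orbit_eq_univ, Nat.card_univ, Nat.card_fin] at this
      exact (congrArg (· * Nat.card (MulAction.stabilizer G0 x')) hk.symm).trans this
    obtain ⟨i, hiv, hi⟩ := (Nat.dvd_prime_pow Nat.prime_two).1 ⟨_, hO.symm⟩
    obtain ⟨l, hlv, hl⟩ := (Nat.dvd_prime_pow Nat.prime_two).1 (Dvd.intro_left _ hO)
    rw [hi, hl, ← pow_add] at hO
    have hil := Nat.pow_right_injective le_rfl hO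
    have h2 : 2 ^ (k + l) ∣ Nat.card G0 := by
      rw [pow_add, ← hG]; exact Nat.mul_dvd_mul_left _ (hl ▸ hS)
    have h3 := (Nat.Prime.pow_dvd_iff_le_factorization Nat.prime_two Nat.card_pos.ne').1 h2
    have h4 : 2 ^ k ≤ Nat.card (MulAction.orbit ↥Q x') := by
      rw [hi]; exact Nat.pow_le_pow_right two_pos (by omega)
    refine Set.eq_of_subset_of_ncard_le (Set.subset_univ _) ?_ (Set.toFinite _)
    rw [Set.ncard_univ, Nat.card_fin]
    exact (le_of_eq hk).trans h4
  obtain ⟨q, hq⟩ := (Set.eq_univ_iff_forall.1 horb y')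
  exact ⟨emb m q, q.2, (emb_cast _ _).trans (congrArg Fin.castSucc hq)⟩

end H80.PM.SP
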