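import Cfsg.Agent.H80.PM.Global
import Cfsg.Agent.H80.PM.SymPerm

/-!
The small blocks inside a symmetric component.
-/

set_option autoImplicit false
set_option linter.unusedSectionVars false
set_option linter.style.haveILetI false

open Subgroup
open scoped commutatorElement MatrixGroups Pointwise

namespace H80.PM

open H80.LCSS (modV cenV Data)
open H78.Block (modE facts_of_block)
open SP

variable {G : Type*} [Group G] [Finite G]

/-- A subgroup centralising `W` meets a linear body inside the core. -/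
theorem linBody_inf_cen {p : ℕ} [Fact p.Prime] {F : Type} [Field F] [Fintype F] {n : ℕ}
    {e B : Subgroup G} (h : H80.PU.LinBody p F n e B) :
    e ⊓ centralizer (Cfsg.omegaOneCenter p (Cfsg.pCoreOf p e) : Set G) ≤ Cfsg.pCoreOf p e := by
  haveI := H1.pCore_normal' p ↥e
  obtain ⟨-, -, -, ⟨iso⟩, hact, -⟩ := h
  obtain ⟨-, -, ρ, ψ, hρ, hψ, -, hact⟩ := hact
  set W := Cfsg.omegaOneCenter p (Cfsg.pCoreOf p e) with hW
  have hfix : ∀ g : ↥e, (g : G) ∈ centralizer (W : Set G) → ρ g = 1 := by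
    intro g hg
    have hv : ∀ v : Fin 2 → F, (ρ g : Matrix (Fin 2) (Fin 2) F).mulVec v = v := by
      intro v
      obtain ⟨u, hu⟩ := hψ (Multiplicative.ofAdd v)
      obtain ⟨w, hw, hwe⟩ := hact g u
      have hwu : w = u := Subtype.ext (by
        rw [hw, ← mem_centralizer_iff.1 hg u u.2, mul_inv_cancel_right])
      rw [hwu, hu] at hwe
      exact hwe.symm
    exact Subtype.ext (Matrix.ext_of_mulVec_single fun j => by
      rw [hv, Matrix.SpecialLinearGroup.coe_one, Matrix.one_mulVec])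
  have hρker : ρ.ker = Cfsg.pCore p ↥e := by
    refine (eq_of_le_of_card_ge (fun g hg => hfix g (mem_centralizer_iff.2 fun w hw =>
      ((H78.Block.omega_comm (E := e) ⟨g, hg, rfl⟩ hw).eq).symm)) ?_).symm
    have h1 := card_mul_index ρ.ker
    rw [index_ker, hρ] at h1
    have h2 := card_mul_index (Cfsg.pCore p ↥e)
    rw [index_eq_card, Nat.card_congr iso.toEquiv] at h2
    exact (Nat.eq_of_mul_eq_mul_right Nat.card_pos (h1.trans h2.symm)).le
  intro g hg
  exact ⟨⟨g, hg.1⟩, hρker.le (hfix ⟨g, hg.1⟩ hg.2), rfl⟩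

variable [Fact (Nat.Prime 2)] {T : Sylow 2 G} {M : Subgroup G} {m r : ℕ} {E : Fin r → Subgroup G}
  {π : Fin r → (↥(nJ 2 G) →* Equiv.Perm (Fin (2 * m + 1)))}

/-- The piece of the `j`-th pair in the `i`-th component. -/
def symPiece (π : Fin r → (↥(nJ 2 G) →* Equiv.Perm (Fin (2 * m + 1)))) (i : Fin r) (j : Fin m) :
    Subgroup G :=
  ((hold j).comap (π i) ⊓ ⨅ (l) (_ : l ≠ i), (pairsSub m).comap (π l)).map (nJ 2 G).subtype

theorem symPiece_le (i : Fin r) (j : Fin m) : symPiece π i j ≤ nJ 2 G := map_subtype_le _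

theorem mem_symPiece {i : Fin r} {j : Fin m} {g : ↥(nJ 2 G)} :
    (g : G) ∈ symPiece π i j ↔
      π i g ∈ hold j ∧ ∀ l, l ≠ i → π l g ∈ pairsSub m := by
  simp [symPiece, Subgroup.mem_map, Subgroup.mem_iInf]

/-- The restriction of a piece to its three points, through an isomorphism. -/
noncomputable def symMap
    (μ : Equiv.Perm (Fin 3) ≃* Matrix.ProjectiveSpecialLinearGroup (Fin 2) (ZMod 2))
    (π : Fin r → (↥(nJ 2 G) →* Equiv.Perm (Fin (2 * m + 1)))) (i : Fin r) (j : Fin m) :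
    ↥(symPiece π i j) →* Matrix.ProjectiveSpecialLinearGroup (Fin 2) (ZMod 2) :=
  μ.toMonoidHom.comp ((chi j).comp (((π i).comp (inclusion (symPiece_le i j))).codRestrict (hold j)
    fun g => ((mem_symPiece (g := ⟨(g : G), symPiece_le i j g.2⟩)).1 g.2).1))

theorem symMap_apply
    (μ : Equiv.Perm (Fin 3) ≃* Matrix.ProjectiveSpecialLinearGroup (Fin 2) (ZMod 2))
    (i : Fin r) (j : Fin m) (g : ↥(symPiece π i j))
    (h : π i ⟨g, symPiece_le i j g.2⟩ ∈ hold j) :
    symMap μ π i j g = μ (chi j ⟨π i ⟨g, symPiece_le i j g.2⟩, h⟩) := rfl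

/-- The coordinate of `T ∩ J(G) C` is a Sylow subgroup. -/
theorem exists_sylow_coord {K : Type} [Group K] {R : Subgroup K} {E' : Fin r → Subgroup G}
    {π' : Fin r → (↥(nJ 2 G) →* K)} (c : Comps 2 T R E' π') (i : Fin r) :
    ∃ P : Sylow 2 K, (P : Subgroup K) = ((T : Subgroup G).subgroupOf (nJ 2 G)).map (π' i) := by
  haveI hn : (nJ 2 G).Normal := Setting.nJ_normal
  obtain ⟨S, hS⟩ := H75.exists_sylow_inf_normal T (nJ 2 G)
  have hsurj : Function.Surjective (π' i) := fun k => by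
    obtain ⟨g, -, hg⟩ := c.surj i k
    exact ⟨g, hg⟩
  refine ⟨S.mapSurjective hsurj, ?_⟩
  rw [Sylow.coe_mapSurjective]
  congr 1
  apply map_injective (nJ 2 G).subtype_injective
  rw [hS, subgroupOf_map_subtype]

namespace Sym

variable (s : Setting 2 T M) (c : Comps 2 T (pairsSub m) E π) {k : ℕ} (hk : 2 * m = 2 ^ k)
include s c hk

theorem jT_le_T : jT 2 (T : Subgroup G) ≤ (T : Subgroup G) := s.jT_le_bT.trans s.bT_le_T

theorem pairs_le_sylow (i : Fin r) :
    pairsSub m ≤ ((T : Subgroup G).subgroupOf (nJ 2 G)).map (π i) := fun a ha => by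
  obtain ⟨u, hu, -, hua⟩ := c.exists_root i ha
  exact ⟨u, jT_le_T s c hk hu, hua⟩

/-- `T ∩ J(G) C` fixes the last point of a component and is transitive on the others. -/
theorem trans_T (i : Fin r) :
    (∀ t : ↥(nJ 2 G), (t : G) ∈ (T : Subgroup G) → π i t (pz m) = pz m) ∧
    ∀ x y : Fin (2 * m + 1), x ≠ pz m → y ≠ pz m →
      ∃ t : ↥(nJ 2 G), (t : G) ∈ (T : Subgroup G) ∧ π i t x = y := by
  obtain ⟨P, hP⟩ := exists_sylow_coord c i
  obtain ⟨h1, h2⟩ := sylow_transitive hk P (hP ▸ pairs_le_sylow s c hk i)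
  rw [hP] at h1 h2
  refine ⟨fun t ht => h1 ⟨t, ht, rfl⟩, fun x y hx hy => ?_⟩
  obtain ⟨_, ⟨t, ht, rfl⟩, he⟩ := h2 x y hx hy
  exact ⟨t, ht, he⟩

theorem pieceData (μ : Equiv.Perm (Fin 3) ≃* Matrix.ProjectiveSpecialLinearGroup (Fin 2) (ZMod 2))
    (hμ : μ (Equiv.swap 0 1) = H39.transl 1) (i : Fin r) (j : Fin m) :
    Piece 2 T M (ZMod 2) (symPiece π i j) (symMap μ π i j) := by
  refine ⟨symPiece_le i j, fun g hg => ?_, fun g hg => ?_, ?_, fun g hg => ?_, fun t => ?_,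
    fun R hRP hR hjR g hg => ?_, fun X hXP _ himg hXM => ?_⟩
  · exact (mem_symPiece (g := ⟨g, cen_le_nJ hg⟩)).2
      ⟨by rw [c.pi_cen (g := ⟨g, cen_le_nJ hg⟩) hg]; exact one_mem _,
        fun l _ => by rw [c.pi_cen (g := ⟨g, cen_le_nJ hg⟩) hg]; exact one_mem _⟩
  · exact (mem_symPiece (g := ⟨g, c.jT_le hg⟩)).2
      ⟨pairs_le_hold j (c.jT_mem i ⟨g, c.jT_le hg⟩ hg), fun l _ => c.jT_mem l ⟨g, c.jT_le hg⟩ hg⟩
  · intro σ
    obtain ⟨ρ, rfl⟩ := μ.surjective σ
    obtain ⟨⟨κ, hκ⟩, rfl⟩ := chi_surjective j ρ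
    obtain ⟨g, hg, rfl⟩ := c.surj i κ
    refine ⟨⟨g, mem_symPiece.2 ⟨hκ, fun l hl => by rw [c.pi_other hg hl]; exact one_mem _⟩⟩, rfl⟩
  · rw [symMap_apply μ i j g (by
      rw [c.pi_cen (g := ⟨(g : G), symPiece_le i j g.2⟩) hg]; exact one_mem _)]
    simp only [c.pi_cen (g := ⟨(g : G), symPiece_le i j g.2⟩) hg]
    exact (congrArg μ (map_one (chi j))).trans (map_one μ)
  · constructor
    · rintro ⟨g, hg, rfl⟩
      have hp := c.jT_mem i ⟨g, symPiece_le i j g.2⟩ hg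
      rw [symMap_apply μ i j g (pairs_le_hold j hp)]
      rcases chi_pairs (σ := ⟨_, pairs_le_hold j hp⟩) hp with e | e <;> rw [e]
      · exact ⟨0, by rw [map_one, H39.transl_zero]⟩
      · exact ⟨1, hμ⟩
    · rintro ⟨a, rfl⟩
      obtain ⟨u, hu, -, hua⟩ := c.exists_root i (a := if a = 0 then 1 else tau j) (by
        split_ifs; exacts [one_mem _, tau_mem j])
      have hup : (u : G) ∈ symPiece π i j := mem_symPiece.2
        ⟨pairs_le_hold j (c.jT_mem i u hu), fun l _ => c.jT_mem l u hu⟩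
      refine ⟨⟨u, hup⟩, hu, ?_⟩
      rw [symMap_apply (π := π) μ i j ⟨(u : G), hup⟩ (pairs_le_hold j (c.jT_mem i u hu))]
      have ha : a = 0 ∨ a = 1 := (show ∀ b : Fin 2, b = 0 ∨ b = 1 by decide) a
      rcases ha with rfl | rfl
      · rw [if_pos rfl] at hua
        simp only [Subtype.coe_eta, hua]
        rw [H39.transl_zero]
        exact (congrArg μ (map_one (chi j))).trans (map_one μ)
      · rw [if_neg one_ne_zero] at hua
        simp only [Subtype.coe_eta, hua]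
        rw [chi_tau, hμ]
  · -- a `2`-subgroup of the piece
    have hgn : g ∈ nJ 2 G := symPiece_le i j (hRP hg)
    refine c.mem_jTC (g := ⟨g, hgn⟩) fun l => ?_
    by_cases hl : l = i
    swap
    · exact ((mem_symPiece (g := ⟨g, hgn⟩)).1 (hRP hg)).2 l hl
    subst hl
    set R' := ((R.subgroupOf (symPiece π l j)).map
      ((chi j).comp (((π l).comp (inclusion (symPiece_le l j))).codRestrict (hold j)
        fun g => ((mem_symPiece (g := ⟨(g : G), symPiece_le l j g.2⟩)).1 g.2).1))) with hR'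
    have hR2 : IsPGroup 2 R' := (hR.comap_subtype).map _
    have h01 : Equiv.swap (0 : Fin 3) 1 ∈ R' := by
      obtain ⟨u, hu, -, hua⟩ := c.exists_root l (tau_mem j)
      have hup : (u : G) ∈ symPiece π l j := mem_symPiece.2
        ⟨pairs_le_hold j (c.jT_mem l u hu), fun q _ => c.jT_mem q u hu⟩
      refine ⟨⟨u, hup⟩, hjR hu, ?_⟩
      rw [← chi_tau j]
      exact congrArg (chi j) (Subtype.ext hua)
    have hle : R' ≤ zpowers (Equiv.swap (0 : Fin 3) 1) := by
      refine (eq_of_le_of_card_ge (zpowers_le.2 h01) ?_).ge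
      rw [Nat.card_zpowers, orderOf_eq_prime (p := 2) (by rw [pow_two, Equiv.swap_mul_self])
        (by decide)]
      obtain ⟨q, hq⟩ := IsPGroup.iff_card.1 hR2
      have hd := card_subgroup_dvd_card R'
      rw [hq, Nat.card_perm, Nat.card_fin] at hd
      rw [hq]
      rcases q with _ | _ | q
      · norm_num
      · norm_num
      · exfalso
        have h4 : 4 ∣ Nat.factorial 3 :=
          (show 4 ∣ 2 ^ (q + 1 + 1) from ⟨2 ^ q, by ring⟩).trans hd
        norm_num [Nat.factorial] at h4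
    obtain ⟨z, hz⟩ := hle ⟨⟨g, hRP hg⟩, hg, rfl⟩
    refine mem_pairs_of_chi (σ := ⟨π l ⟨g, hgn⟩, ((mem_symPiece (g := ⟨g, hgn⟩)).1 (hRP hg)).1⟩) ?_
    have hz' : chi j ⟨π l ⟨g, hgn⟩, ((mem_symPiece (g := ⟨g, hgn⟩)).1 (hRP hg)).1⟩ =
        Equiv.swap 0 1 ^ z := hz.symm
    rw [hz']
    rcases Int.even_or_odd z with ⟨q, rfl⟩ | ⟨q, rfl⟩
    · left; rw [← two_mul, _root_.zpow_mul, zpow_two, Equiv.swap_mul_self, one_zpow]
    · right; rw [zpow_add, _root_.zpow_mul, zpow_two, Equiv.swap_mul_self, one_zpow, one_mul, zpow_one]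
  · -- not inside `M`
    set H := ((M.subgroupOf (nJ 2 G))).map (π i) with hH
    refine c.not_top s pairs_normalClosure le_rfl i ?_
    have hTH : ∀ t : ↥(nJ 2 G), (t : G) ∈ (T : Subgroup G) → π i t ∈ H := fun t ht =>
      ⟨t, s.data.le_M ht, rfl⟩
    have hpH : pairsSub m ≤ H := fun a ha => by
      obtain ⟨u, hu, -, rfl⟩ := c.exists_root i ha
      exact hTH u (jT_le_T s c hk hu)
    obtain ⟨y, hy, hyσ⟩ := himg.ge (mem_top (μ (Equiv.swap 0 2)))
    have hmem := ((mem_symPiece (g := ⟨(y : G), symPiece_le i j y.2⟩)).1 y.2).1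
    rw [symMap_apply μ i j y hmem] at hyσ
    have hzm : π i ⟨y, symPiece_le i j y.2⟩ (pz m) ≠ pz m := by
      have h := chi_spec ⟨_, hmem⟩ 2
      rw [μ.injective hyσ, Equiv.swap_apply_right] at h
      exact fun e => pa_ne_pz (h.trans e)
    have h1 : Equiv.swap (pz m) (pa j) ∈ H := swap_of_cycle hpH
      ⟨⟨y, symPiece_le i j y.2⟩, hXM hy, rfl⟩ hmem hzm
    refine top_of_swaps fun x hx => ?_
    obtain ⟨t, ht, htx⟩ := (trans_T s c hk i).2 (pa j) x pa_ne_pz hx
    have h2 := mul_mem (mul_mem (hTH t ht) h1) (inv_mem (hTH t ht))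
    rwa [← Equiv.swap_apply_apply, (trans_T s c hk i).1 t ht, htx] at h2

end Sym

/-- The small block of the `j`-th pair of the `i`-th component. -/
structure SymBlk (T : Sylow 2 G) (E : Fin r → Subgroup G)
    (π : Fin r → (↥(nJ 2 G) →* Equiv.Perm (Fin (2 * m + 1)))) (x : G) (i : Fin r) (j : Fin m)
    (e : Subgroup G) : Prop where
  body : H80.PU.LinBody 2 (ZMod 2) 1 e (bT 2 (T : Subgroup G))
  block : Cfsg.IsBaumannBlock 2 (T : Subgroup G) e
  le : e ≤ E i
  le_L : e ≤ Setting.lGrp 2 (T : Subgroup G) x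
  bT_norm : bT 2 (T : Subgroup G) ≤ normalizer (e : Set G)
  hold : ∀ g : ↥(nJ 2 G), (g : G) ∈ e → π i g ∈ SP.hold j
  even : ∀ g : ↥(nJ 2 G), (g : G) ∈ e → π i g ∈ alternatingGroup (Fin (2 * m + 1))
  fix : ∀ g : ↥(nJ 2 G), (g : G) ∈ e → ∀ l, l ≠ j → π i g (pa l) = pa l ∧ π i g (pb l) = pb l
  moves : ∃ g : ↥(nJ 2 G), (g : G) ∈ e ∧ π i g (pz m) ≠ pz m
  shift : ∃ t : ↥(nJ 2 G), (t : G) ∈ bT 2 (T : Subgroup G) ∧ (t : G) ^ 2 = 1 ∧
    π i t (pa j) = pb j ∧ π i t ∈ pairsSub m ∧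
    ∀ b ∈ bT 2 (T : Subgroup G), ⁅b, (t : G)⁆ ∈ Cfsg.pCoreOf 2 e

namespace Sym

variable (s : Setting 2 T M) (c : Comps 2 T (pairsSub m) E π) {k : ℕ} (hk : 2 * m = 2 ^ k)
include s c hk

theorem exists_blk {x : G} (fr : Frame 2 T x) (i : Fin r) (j : Fin m) :
    ∃ e, SymBlk T E π x i j e := by
  obtain ⟨μ, hμ⟩ := exists_mu
  obtain ⟨X, e, hb⟩ := s.exists_block fr (n := 1) (by simp) (pieceData s c hk μ hμ i j)
  have hXn : X ≤ nJ 2 G := hb.le.trans (inf_le_right.trans (symPiece_le i j))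
  have hres := (facts_of_block hb.block).res
  have heX : e ≤ X := hb.sup ▸ le_sup_left
  have hen : e ≤ nJ 2 G := heX.trans hXn
  have hbp : bT 2 (T : Subgroup G) ≤ nJ 2 G := s.bT_le_nJ fr
  -- generators of odd order
  have hodd : ∀ {S : Subgroup ↥(nJ 2 G)},
      (∀ g : ↥(nJ 2 G), (g : G) ∈ e → (orderOf g).Coprime 2 → g ∈ S) →
      ∀ g : ↥(nJ 2 G), (g : G) ∈ e → g ∈ S := by
    intro S hS g hg
    have hle : e ≤ S.map (nJ 2 G).subtype := by
      conv_lhs => rw [← hres]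
      exact (closure_le _).2 fun a ha => ⟨⟨a, hen ha.1⟩,
        hS _ ha.1 (by rw [Subgroup.orderOf_mk]; exact ha.2), rfl⟩
    obtain ⟨g', hg', hgg⟩ := hle hg
    obtain rfl : g' = g := Subtype.ext hgg
    exact hg'
  have hpc : ∀ g : ↥(nJ 2 G), (g : G) ∈ e →
      π i g ∈ SP.hold j ∧ ∀ l, l ≠ i → π l g ∈ pairsSub m := fun g hg =>
    mem_symPiece.1 ((hb.le (heX hg)).2)
  refine ⟨e, hb.body, hb.block, fun a ha => ?_, heX.trans (hb.le.trans inf_le_left), ?_,
    fun g hg => (hpc g hg).1, ?_, ?_, ?_, ?_⟩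
  · refine (c.mem_iff i ⟨a, hen ha⟩).2 fun l hl => ?_
    have := hodd (S := (π l).ker) (fun g hg hgo => ?_) ⟨a, hen ha⟩ ha
    · exact this
    obtain ⟨q, hq⟩ := (pairs_isPGroup (m := m)) ⟨_, (hpc g hg).2 l hl⟩
    exact orderOf_eq_one_iff.1 (Nat.eq_one_of_dvd_coprimes (hgo.pow_right q) (orderOf_map_dvd _ g)
      (orderOf_dvd_of_pow_eq_one (by simpa using congrArg Subtype.val hq)))
  · rw [← hb.res]
    exact hb.bT_le.trans (le_normalizer.trans (H75.normalizer_le_normalizer_resOf _))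
  · intro g hg
    refine hodd (S := (alternatingGroup (Fin (2 * m + 1))).comap (π i)) (fun a _ hao => ?_) g hg
    rw [mem_comap, Equiv.Perm.mem_alternatingGroup]
    rcases Int.units_eq_one_or (Equiv.Perm.sign (π i a)) with h | h
    · exact h
    · exfalso
      have h1 : orderOf (Equiv.Perm.sign (π i a)) ∣ orderOf a :=
        orderOf_map_dvd ((Equiv.Perm.sign).comp (π i)) a
      rw [h, orderOf_eq_prime (p := 2) (by decide) (by decide)] at h1
      exact absurd (Nat.eq_one_of_dvd_coprimes hao h1 dvd_rfl) (by norm_num)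
  · intro g hg l hl
    let S : Subgroup ↥(nJ 2 G) :=
      (MulAction.stabilizer (Equiv.Perm (Fin (2 * m + 1))) (pa l) ⊓
        MulAction.stabilizer (Equiv.Perm (Fin (2 * m + 1))) (pb l)).comap (π i)
    refine hodd (S := S) (fun a ha hao => ?_) g hg
    rcases ((hpc a ha).1 l hl) with ⟨h1, h2⟩ | ⟨h1, h2⟩
    · exact ⟨h1, h2⟩
    · exfalso
      set σ := π i a with hσ
      have ho : Odd (orderOf σ) := by
        have := Nat.Coprime.coprime_dvd_left (orderOf_map_dvd (π i) a) hao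
        exact (Nat.coprime_two_right).1 this
      obtain ⟨q, hq⟩ := ho
      have h3 : ∀ n : ℕ, (σ ^ (2 * n)) (pa l) = pa l := by
        intro n
        induction n with
        | zero => rfl
        | succ n ih =>
          rw [Nat.mul_succ, pow_succ, pow_succ, Equiv.Perm.mul_apply, Equiv.Perm.mul_apply, h1, h2, ih]
      have h4 : (σ ^ orderOf σ) (pa l) = pb l := by
        rw [hq, pow_succ', Equiv.Perm.mul_apply, h3, h1]
      rw [pow_orderOf_eq_one] at h4
      exact pa_ne_pb h4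
  · by_contra hno
    push Not at hno
    obtain ⟨y, hy, hyσ⟩ := hb.surj.ge (mem_top (μ (Equiv.swap 0 2)))
    have hmem := ((mem_symPiece (g := ⟨(y : G), symPiece_le i j y.2⟩)).1 y.2).1
    rw [symMap_apply μ i j y hmem] at hyσ
    have h := chi_spec ⟨_, hmem⟩ 2
    rw [μ.injective hyσ, Equiv.swap_apply_right] at h
    refine pa_ne_pz (h.trans ?_)
    have hle : X ≤ ((stab m).comap (π i)).map (nJ 2 G).subtype := by
      rw [← hb.sup]
      refine sup_le (fun a ha => ⟨⟨a, hen ha⟩, hno ⟨a, hen ha⟩ ha, rfl⟩)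
        (fun b hb' => ⟨⟨b, hbp hb'⟩, pairs_pz ?_, rfl⟩)
      exact c.pi_mem (g := ⟨b, hbp hb'⟩) (s.bT_le fr hb') i
    obtain ⟨g', hg', hgg⟩ := hle hy
    obtain rfl : g' = ⟨(y : G), symPiece_le i j y.2⟩ := Subtype.ext hgg
    exact hg'
  · obtain ⟨t, htB, ht2, htψ, htc⟩ := hb.shift rfl
    have hp := c.pi_mem (g := ⟨(t : G), symPiece_le i j t.2⟩) (s.bT_le fr htB) i
    refine ⟨⟨t, symPiece_le i j t.2⟩, htB, ht2, ?_, hp, htc⟩
    rw [symMap_apply μ i j t (pairs_le_hold j hp)] at htψ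
    have h01 := (chi_pairs (σ := ⟨_, pairs_le_hold j hp⟩) hp).resolve_left fun e =>
      htψ (by rw [e, map_one])
    have h := chi_spec ⟨_, pairs_le_hold j hp⟩ 0
    rw [h01, Equiv.swap_apply_left] at h
    exact h.symm

end Sym

end H80.PM
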