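import Cfsg.Agent.H80.PM.SymBlock

/-!
The block structure for symmetric components.
-/

set_option autoImplicit false
set_option linter.unusedSectionVars false
set_option linter.style.haveILetI false

open Subgroup
open scoped commutatorElement MatrixGroups Pointwise

namespace H80.PM

open H80.LCSS (modV cenV Data)
open H78.Block (modE facts_of_block)
open SP

variable {G : Type*} [Group G] [Finite G] [Fact (Nat.Prime 2)] {T : Sylow 2 G} {M : Subgroup G}
  {m r : ℕ} {E : Fin r → Subgroup G} {π : Fin r → (↥(nJ 2 G) →* Equiv.Perm (Fin (2 * m + 1)))}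

namespace SymC

variable (s : Setting 2 T M) (c : Comps 2 T (pairsSub m) E π) {k : ℕ} (hk : 2 * m = 2 ^ k)
  (hm : 2 ≤ m) {x : G} (fr : Frame 2 T x) {ψ : ∀ i, ↥⁅modV 2 G, E i⁆ →*
    Multiplicative (Fin (2 * m + 1) → ZMod 2)} (hψ : ∀ i, Psi (E i) (π i) (ψ i))
  {e : Fin r → Fin m → Subgroup G} (hb : ∀ i j, SymBlk T E π x i j (e i j))
include s c hk hm fr hψ hb

omit fr hb in
theorem V_split (i : Fin r) {z : G} (hz : z ∈ modV 2 G) :
    ∃ a ∈ modV 2 G ⊓ centralizer (E i : Set G), ∃ v ∈ ⁅modV 2 G, E i⁆, z = a * v := by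
  haveI hV : (modV 2 G).Normal := Setting.modV_normal
  have hVn : ⁅modV 2 G, E i⁆ ≤ modV 2 G := commutator_le_left _ _
  have hle : modV 2 G ≤ (modV 2 G ⊓ centralizer (E i : Set G)) ⊔ ⁅modV 2 G, E i⁆ := by
    conv_lhs => rw [← c.split]
    refine sup_le (le_trans ?_ le_sup_left) (iSup_le fun j => ?_)
    · exact inf_le_inf_left _ (centralizer_le (SetLike.coe_subset_coe.2 (c.E_le i)))
    · by_cases hj : j = i
      · subst hj; exact le_sup_right
      · exact le_trans (le_inf (commutator_le_left _ _)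
          (commutator_eq_bot_iff_le_centralizer.1 (c.fix j i hj))) le_sup_left
  have hNle : modV 2 G ⊓ centralizer (E i : Set G) ≤ normalizer ((⁅modV 2 G, E i⁆ : Subgroup G) : Set G) :=
    H75.le_normalizer_of_conj fun a ha v hv => by
      rw [H10.comm_of_elem Setting.modV_elem ha.1 (hVn hv), mul_inv_cancel_right]
      exact hv
  obtain ⟨v, hv, a, ha, rfl⟩ := H1.exists_mul_of_mem_sup hNle
    (by rw [sup_comm] at hle; exact hle hz)
  exact ⟨a, ha, v, hv, H10.comm_of_elem Setting.modV_elem (hVn hv) ha.1⟩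

omit fr hb in
/-- The coordinates of `Ω₁(Z(T))` are constant outside the last point. -/
theorem omega_inv (i : Fin r) {a v : G} (ha : a ∈ modV 2 G ⊓ centralizer (E i : Set G))
    (hv : v ∈ ⁅modV 2 G, E i⁆) (hz : a * v ∈ Cfsg.omegaOneCenter 2 (T : Subgroup G))
    {q q' : Fin (2 * m + 1)} (hq : q ≠ pz m) (hq' : q' ≠ pz m) :
    Multiplicative.toAdd (ψ i ⟨v, hv⟩) q = Multiplicative.toAdd (ψ i ⟨v, hv⟩) q' := by
  obtain ⟨t, ht, htq⟩ := (Sym.trans_T s c hk i).2 q' q hq' hq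
  obtain ⟨w, hw, hwi⟩ := (hψ i).act t ⟨v, hv⟩
  have hVn : ⁅modV 2 G, E i⁆ ≤ modV 2 G := commutator_le_left _ _
  have hfix : (t : G) * (a * v) = (a * v) * t :=
    mem_centralizer_iff.1 (H80.LCSS.mem_omega.1 hz).2.1 t ht
  have hwC : (w : G) * v⁻¹ ∈ centralizer (E i : Set G) := by
    have hEN : nJ 2 G ≤ normalizer (centralizer (E i : Set G) : Set G) :=
      (c.E_normal_in i).trans (H75.normalizer_le_normalizer_centralizer _)
    have h1 : (t : G) * a * (t : G)⁻¹ ∈ centralizer (E i : Set G) :=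
      H75.conj_mem_of_mem_normalizer (hEN t.2) ha.2
    have h2 : (w : G) * v⁻¹ = ((t : G) * a * (t : G)⁻¹)⁻¹ * a := by
      rw [hw]
      show (t : G) * v * (t : G)⁻¹ * v⁻¹ = _
      have e1 : (t : G) * v * (t : G)⁻¹ = ((t : G) * a * (t : G)⁻¹)⁻¹ * (a * v) := by
        rw [eq_inv_mul_iff_mul_eq,
          show (t : G) * a * (t : G)⁻¹ * ((t : G) * v * (t : G)⁻¹) =
            (t : G) * (a * v) * (t : G)⁻¹ by group, hfix, mul_inv_cancel_right]
      rw [e1, mul_assoc, mul_inv_cancel_right]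
    rw [h2]
    exact mul_mem (inv_mem h1) ha.2
  have he : ψ i w = ψ i ⟨v, hv⟩ := by
    rw [← mul_inv_eq_one, ← map_inv, ← map_mul]
    exact ((hψ i).ker _).2 hwC
  have h3 := hwi q
  rw [he] at h3
  rw [h3, Equiv.Perm.inv_eq_iff_eq.2 htq.symm]

/-- An element of the block whose coordinate fixes the last point centralises `Ω₁(Z(T))` up to
an involution. -/
theorem sq_centralizes (i : Fin r) (g : ↥(nJ 2 G)) (hg : (g : G) ∈ ⨆ j, e i j)
    (hgs : π i g (pz m) = pz m) {z : G} (hz : z ∈ Cfsg.omegaOneCenter 2 (T : Subgroup G)) :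
    (g : G) ^ 2 * z = z * (g : G) ^ 2 := by
  haveI hV : (modV 2 G).Normal := Setting.modV_normal
  obtain ⟨a, ha, v, hv, rfl⟩ := V_split s c hk hm hψ i (s.data.omegaT_le hz)
  have hgE : (g : G) ∈ E i := SymB.sup_le_E s c hk hm fr (hb i) hg
  obtain ⟨w, hw, hwi⟩ := (hψ i).act g ⟨v, hv⟩
  have he : ψ i w = ψ i ⟨v, hv⟩ := by
    refine Multiplicative.toAdd.injective (funext fun q => ?_)
    rw [hwi q]
    by_cases hq : q = pz m
    · subst hq
      rw [Equiv.Perm.inv_eq_iff_eq.2 hgs.symm]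
    · refine omega_inv s c hk hm hψ i ha hv hz (fun h => hq ?_) hq
      rw [Equiv.Perm.inv_eq_iff_eq] at h
      rw [h, hgs]
  set d : G := (w : G) * v⁻¹ with hd
  have hdC : d ∈ centralizer (E i : Set G) := by
    have h1 : ψ i (w * ⟨v, hv⟩⁻¹) = 1 := by rw [map_mul, map_inv, he, mul_inv_cancel]
    exact ((hψ i).ker _).1 h1
  have hdg : d * (g : G) = g * d := (mem_centralizer_iff.1 hdC g hgE).symm
  have hVn : ⁅modV 2 G, E i⁆ ≤ modV 2 G := commutator_le_left _ _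
  have hd2 : d * d = 1 := by
    rw [← pow_two]
    exact Setting.modV_elem.2 d (mul_mem (hVn w.2) (inv_mem (hVn hv)))
  have hga : (g : G) * a = a * g := mem_centralizer_iff.1 ha.2 g hgE
  have hda : d * a = a * d :=
    H10.comm_of_elem Setting.modV_elem (mul_mem (hVn w.2) (inv_mem (hVn hv))) ha.1
  have h1 : (g : G) * (a * v) = d * (a * v) * g := by
    have e1 : d * v = (g : G) * v * (g : G)⁻¹ := by rw [hd, inv_mul_cancel_right, hw]
    calc (g : G) * (a * v) = a * ((g : G) * v * (g : G)⁻¹) * g := by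
          rw [← mul_assoc, hga]; group
      _ = d * (a * v) * g := by rw [← e1, ← mul_assoc a, ← hda, mul_assoc d]
  calc (g : G) ^ 2 * (a * v) = g * (g * (a * v)) := by rw [pow_two, mul_assoc]
    _ = (g * d) * (a * v) * g := by rw [h1]; group
    _ = d * (g * (a * v)) * g := by rw [← hdg]; group
    _ = (d * d) * (a * v) * (g * g) := by rw [h1]; group
    _ = a * v * (g : G) ^ 2 := by rw [hd2, one_mul, pow_two]

theorem lower (i : Fin r) (g : ↥(nJ 2 G)) (hg : (g : G) ∈ ⨆ j, e i j)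
    (hgs : π i g ∈ stab m) : (g : G) ∈ Cfsg.cStarOf 2 (T : Subgroup G) := by
  refine mem_sup_left (mem_centralizer_iff.2 fun z hz => ?_)
  set D := ((((⨆ j, e i j) ⊓ centralizer ({z} : Set G) : Subgroup G)).subgroupOf (nJ 2 G)).map
    (π i) with hD
  have hA : alternatingGroup (Fin (2 * m)) ≤ D.comap (emb m) := by
    rw [← Equiv.Perm.closure_three_cycles_eq_alternating, closure_le]
    intro τ hτ
    have h3 : τ ^ 3 = 1 := by rw [← hτ.orderOf]; exact pow_orderOf_eq_one τ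
    have hev : emb m (τ ^ 2) ∈ alternatingGroup (Fin (2 * m + 1)) := by
      rw [Equiv.Perm.mem_alternatingGroup, sign_emb, map_pow, hτ.sign, one_pow]
    obtain ⟨h, hh, hhe⟩ := SymB.exists_lift s c hk hm fr (hb i) hev
    refine ⟨h ^ 2, Subgroup.mem_inf.2 ⟨?_, ?_⟩, ?_⟩
    · exact pow_mem hh 2
    · exact mem_centralizer_singleton_iff.2 (sq_centralizes s c hk hm fr hψ hb i h hh
        (hhe ▸ emb_pz _) hz)
    · rw [map_pow, hhe, ← map_pow, ← pow_mul, pow_succ τ 3, h3, one_mul]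
  have hmem : π i g ∈ (alternatingGroup (Fin (2 * m))).map (emb m) := by
    rw [← stab_inf_alt]
    exact ⟨hgs, SymB.image_alt s c hk hm fr (hb i) g hg⟩
  obtain ⟨τ, hτ, hτg⟩ := hmem
  obtain ⟨h, hh, hhe⟩ := hA hτ
  have hrest : ((h⁻¹ * g : ↥(nJ 2 G)) : G) ∈ cenV 2 G := by
    refine (c.ker _).1 fun l => ?_
    rw [map_mul, map_inv]
    by_cases hl : l = i
    · subst hl; rw [hhe, hτg, inv_mul_cancel]
    · rw [c.pi_other (SymB.sup_le_E s c hk hm fr (hb i) hh.1) hl,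
        c.pi_other (SymB.sup_le_E s c hk hm fr (hb i) hg) hl, inv_one, one_mul]
  have h2 : (g : G) ∈ centralizer ({z} : Set G) := by
    have := mul_mem (show (h : G) ∈ centralizer ({z} : Set G) from hh.2)
      (centralizer_le (Set.singleton_subset_iff.2 (s.data.omegaT_le hz)) hrest)
    simpa using this
  exact (mem_centralizer_singleton_iff.1 h2).symm

theorem upper (i : Fin r) (g : ↥(nJ 2 G)) (hg : (g : G) ∈ M) : π i g ∈ stab m := by
  have hJM : jT 2 (T : Subgroup G) ≤ M := s.jT_le_bT.trans (s.bT_le_T.trans s.data.le_M)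
  have htau : tau (⟨0, by omega⟩ : Fin m) ∈ (M.subgroupOf (nJ 2 G)).map (π i) := by
    obtain ⟨u, hu, -, hua⟩ := c.exists_root i (tau_mem (⟨0, by omega⟩ : Fin m))
    exact ⟨u, hJM hu, hua⟩
  have hev : ∀ σ ∈ stab m, σ ∈ alternatingGroup (Fin (2 * m + 1)) →
      σ ∈ (M.subgroupOf (nJ 2 G)).map (π i) := fun σ hσ hσA => by
    obtain ⟨h, hh, rfl⟩ := SymB.exists_lift s c hk hm fr (hb i) hσA
    exact ⟨h, s.cStar_le (lower s c hk hm fr hψ hb i h hh hσ), rfl⟩
  have hst : stab m ≤ (M.subgroupOf (nJ 2 G)).map (π i) := by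
    intro σ hσ
    rcases Int.units_eq_one_or (Equiv.Perm.sign σ) with h | h
    · exact hev σ hσ (Equiv.Perm.mem_alternatingGroup.2 h)
    · have h1 := hev (σ * tau ⟨0, by omega⟩) (mul_mem hσ (mem_stab.2 (tau_pz _))) (by
        rw [Equiv.Perm.mem_alternatingGroup, map_mul, h, Equiv.Perm.sign_swap pa_ne_pb]; rfl)
      have := mul_mem h1 htau
      rwa [mul_assoc, tau_sq, mul_one] at this
  by_contra hn
  exact c.not_top s pairs_normalClosure le_rfl i (top_of_stab hst ⟨g, hg, rfl⟩ hn)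

theorem members : Members 2 T M E π (stab m) (fun i => ⨆ j, e i j) :=
  ⟨fun i => (SymB.isBlock s c hk hm fr (hb i) (hψ i)).1,
    fun i => SymB.sup_le_E s c hk hm fr (hb i),
    fun i => SymB.bT_norm_sup s c hk hm fr (hb i),
    fun i => SymB.gen s c hk hm fr (hb i),
    fun i g hg hgs => lower s c hk hm fr hψ hb i g hg hgs,
    fun i g hg => upper s c hk hm fr hψ hb i g hg⟩

theorem iso_star (i : Fin r) :
    Nonempty (↥(((Cfsg.cStarOf 2 (T : Subgroup G) ⊓ ⨆ j, e i j).subgroupOf (⨆ j, e i j)).map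
        (QuotientGroup.mk' (Cfsg.pCore 2 ↥(⨆ j, e i j)))) ≃*
      ↥(alternatingGroup (Fin (2 * m)))) := by
  have hEn : (⨆ j, e i j) ≤ nJ 2 G := (SymB.sup_le_E s c hk hm fr (hb i)).trans (c.E_le i)
  haveI := H1.pCore_normal' 2 ↥(⨆ j, e i j)
  set θ := SymB.th hEn i π with hθ
  have hθk : θ.ker = Cfsg.pCore 2 ↥(⨆ j, e i j) := by
    apply map_injective (⨆ j, e i j).subtype_injective
    show θ.ker.map (⨆ j, e i j).subtype = Cfsg.pCoreOf 2 (⨆ j, e i j)
    rw [SymB.pCore_sup s c hk hm fr (hb i) (hψ i),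
      ← SymB.inf_cen_eq s c hk hm fr (hb i) (hψ i)]
    ext g
    constructor
    · rintro ⟨g, hg, rfl⟩
      exact ⟨g.2, (SymB.th_ker s c hk hm fr (hb i) g).1 hg⟩
    · exact fun hg => ⟨⟨g, hg.1⟩, (SymB.th_ker s c hk hm fr (hb i) ⟨g, hg.1⟩).2 hg.2, rfl⟩
  set φ := QuotientGroup.lift (Cfsg.pCore 2 ↥(⨆ j, e i j)) θ hθk.ge with hφ
  have hφi : Function.Injective φ := by
    rw [← MonoidHom.ker_eq_bot_iff, hφ, QuotientGroup.ker_lift, hθk, QuotientGroup.map_mk'_self]
  have hS : ((((Cfsg.cStarOf 2 (T : Subgroup G) ⊓ ⨆ j, e i j).subgroupOf (⨆ j, e i j)).map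
      (QuotientGroup.mk' (Cfsg.pCore 2 ↥(⨆ j, e i j))))).map φ =
      (alternatingGroup (Fin (2 * m))).map (emb m) := by
    rw [Subgroup.map_map, show φ.comp (QuotientGroup.mk' _) = θ from MonoidHom.ext fun _ => rfl,
      ← stab_inf_alt]
    ext σ
    constructor
    · rintro ⟨g, hg, rfl⟩
      exact ⟨upper s c hk hm fr hψ hb i ⟨g, hEn g.2⟩ (s.cStar_le hg.1),
        SymB.image_alt s c hk hm fr (hb i) ⟨g, hEn g.2⟩ g.2⟩
    · rintro ⟨h1, h2⟩
      obtain ⟨g, hg, rfl⟩ := SymB.exists_lift s c hk hm fr (hb i) h2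
      exact ⟨⟨g, hg⟩, ⟨lower s c hk hm fr hψ hb i g hg h1, hg⟩, rfl⟩
  exact ⟨((Subgroup.equivMapOfInjective _ φ hφi).trans (MulEquiv.subgroupCongr hS)).trans
    (Subgroup.equivMapOfInjective _ (emb m) (Equiv.Perm.viaEmbeddingHom_injective _)).symm⟩

theorem alt_degree (i : Fin r) (m' : ℕ)
    (h : Nonempty (↥(⨆ j, e i j) ⧸ Cfsg.pCore 2 ↥(⨆ j, e i j) ≃*
      ↥(alternatingGroup (Fin (2 * m' + 1))))) : ∃ n : ℕ, 2 * m' + 1 = 2 ^ n + 1 := by
  obtain ⟨α⟩ := h
  obtain ⟨β⟩ := (SymB.isBlock s c hk hm fr (hb i) (hψ i)).2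
  have hc := Nat.card_congr (α.symm.trans β).toEquiv
  haveI : Nontrivial (Fin (2 * m + 1)) := Fin.nontrivial_iff_two_le.2 (by omega)
  have h1 := two_mul_nat_card_alternatingGroup (α := Fin (2 * m + 1))
  rw [← hc, Nat.card_perm, Nat.card_fin] at h1
  rcases Nat.eq_zero_or_pos m' with rfl | hm'
  · haveI : Subsingleton (Equiv.Perm (Fin (2 * 0 + 1))) := by
      haveI : Subsingleton (Fin (2 * 0 + 1)) := inferInstanceAs (Subsingleton (Fin 1))
      infer_instance
    rw [Nat.card_of_subsingleton (1 : ↥(alternatingGroup (Fin (2 * 0 + 1))))] at h1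
    have := Nat.self_le_factorial (2 * m + 1)
    omega
  haveI : Nontrivial (Fin (2 * m' + 1)) := Fin.nontrivial_iff_two_le.2 (by omega)
  rw [two_mul_nat_card_alternatingGroup, Nat.card_perm, Nat.card_fin,
    Nat.factorial_inj (by omega)] at h1
  exact ⟨k, by omega⟩

end SymC

/-- The symmetric case. -/
theorem symmetric_case (s : Setting 2 T M) (c : Comps 2 T (pairsSub m) E π) {k : ℕ}
    (hk : 2 * m = 2 ^ k) (hm : 2 ≤ m) (hP : ∀ i, PermOn 2 (E i) (π i)) {x : G}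
    (fr : Frame 2 T x) :
    ∃ 𝓑 : Set (Subgroup G), Cfsg.HasBaumannBlockStructure 2 (T : Subgroup G) 𝓑 ∧
      (∀ E ∈ 𝓑, ∀ m : ℕ, Nonempty (↥E ⧸ Cfsg.pCore 2 ↥E ≃* ↥(alternatingGroup (Fin (2 * m + 1)))) →
        ∃ n : ℕ, 2 * m + 1 = 2 ^ n + 1) ∧
      Cfsg.cStarOf 2 (T : Subgroup G) =
        (Cfsg.cStarOf 2 (T : Subgroup G) ⊓ sSup 𝓑) ⊔ (T : Subgroup G) := by
  choose ψ hψ using fun i => exists_psi (hP i)
  choose e hb using fun i j => Sym.exists_blk s c hk fr i j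
  exact (SymC.members s c hk hm fr hψ hb).structure_of_clauses s c
    (fun i => Or.inr (Or.inl ⟨rfl, m, (SymB.isBlock s c hk hm fr (hb i) (hψ i)).2,
      SymC.iso_star s c hk hm fr hψ hb i⟩))
    (SymC.alt_degree s c hk hm fr hψ hb)

end H80.PM
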