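import Cfsg.Agent.H80.PM.Linear
import Cfsg.Agent.H80.PM.Sym
import Cfsg.Agent.H75.PMComps.Result

/-!
Pushing up for `p`-minimal groups.
-/

set_option autoImplicit false
set_option linter.unusedSectionVars false
set_option linter.style.haveILetI false

open Subgroup

namespace H80.PM

open H80.LCSS (modV cenV Data)

variable {G : Type*} [Group G] [Finite G] {p : ℕ} [Fact p.Prime]

/-- `J(T)` lies in `B(T)`. -/
theorem jT_le_baumann (T : Subgroup G) : jT p T ≤ bT p T := by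
  rw [jT, H11.thompsonSubgroupOf_eq]
  exact sSup_le fun A hA => H78.Block.maxEl_le_baumann hA

/-- `J(T)` is characteristic in `B(T)`. -/
theorem jT_char_baumann (T : Subgroup G) :
    ((jT p T).subgroupOf (bT p T)).Characteristic := by
  have h : (jT p T).subgroupOf (bT p T) = Cfsg.thompsonSubgroup p (bT p T) := by
    apply map_injective (bT p T).subtype_injective
    rw [map_subgroupOf_eq_of_le (jT_le_baumann T)]
    show jT p T = Cfsg.thompsonSubgroupOf p (bT p T)
    rw [jT, H11.thompsonSubgroupOf_eq, H11.thompsonSubgroupOf_eq]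
    have hBT : bT p T ≤ T := inf_le_left
    refine le_antisymm (sSup_le fun A hA => le_sSup ⟨H78.Block.maxEl_le_baumann hA, hA.2.1,
      fun B hB hBel => hA.2.2 B (hB.trans hBT) hBel⟩) (sSup_le fun A hA => ?_)
    obtain ⟨A₀, hA₀⟩ := H11.maxFam_nonempty (H11.replProp_elem (G := G) p).bot T
    exact le_sSup ⟨hA.1.trans hBT, hA.2.1, fun B hB hBel =>
      (hA₀.2.2 B hB hBel).trans (hA.2.2 A₀ (H78.Block.maxEl_le_baumann hA₀) hA₀.2.1)⟩
  rw [h]
  exact H10.thompsonSubgroup_characteristic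

/-- The hypotheses give `C**(G,T) ≠ G`. -/
theorem cStarStar_ne_top (hmin : Cfsg.IsPMinimal p G) (T : Sylow p G)
    (hchar : ∀ C : Subgroup G, C ≤ bT p (T : Subgroup G) → C ≠ ⊥ →
      (C.subgroupOf (bT p (T : Subgroup G))).Characteristic → ¬ C.Normal)
    (hz : ¬ (Cfsg.omegaOneCenter p (T : Subgroup G)).Normal) :
    Cfsg.cStarStarOf p (T : Subgroup G) ≠ ⊤ := by
  obtain ⟨hn, M, ⟨hM, hTM⟩, hu⟩ := hmin T
  have huniq : ∀ H : Subgroup G, (T : Subgroup G) ≤ H → H ≠ ⊤ → H ≤ M := fun H hTH hH => by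
    obtain ⟨M₁, hM₁, hle⟩ := H75.exists_coatom_ge hH
    obtain rfl := hu M₁ ⟨hM₁, hTH.trans hle⟩
    exact hle
  have hC : centralizer (Cfsg.omegaOneCenter p (T : Subgroup G) : Set G) ≤ M := by
    refine huniq _ (fun t ht => mem_centralizer_iff.2 fun z hz' =>
      (mem_centralizer_iff.1 (H80.LCSS.mem_omega.1 hz').2.1 t ht).symm) fun h => hz ?_
    refine ⟨fun z hz' g => ?_⟩
    rw [(mem_centralizer_iff.1 (h.ge (mem_top g)) z hz').symm, mul_inv_cancel_right]
    exact hz'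
  have hne : jT p (T : Subgroup G) ≠ ⊥ := by
    refine H1.thompsonSubgroupOf_ne_bot' T.isPGroup' fun h => hn ?_
    rw [h]
    infer_instance
  have hN : normalizer (jT p (T : Subgroup G) : Set G) ≤ M := by
    refine huniq _ (le_normalizer.trans (H1.normalizer_le_normalizer_thompsonSubgroupOf p _))
      fun h => hchar _ (jT_le_baumann _) hne (jT_char_baumann _) (normalizer_eq_top_iff.1 h)
  exact fun h => hM.1 (top_le_iff.1 (h.ge.trans (sup_le hC hN)))

/-- Pushing up for `p`-minimal groups. -/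
theorem pushing_up (hmin : Cfsg.IsPMinimal p G)
    (hG : centralizer (Cfsg.pCore p G : Set G) ≤ Cfsg.pCore p G) (T : Sylow p G)
    (hchar : ∀ C : Subgroup G, C ≤ bT p (T : Subgroup G) → C ≠ ⊥ →
      (C.subgroupOf (bT p (T : Subgroup G))).Characteristic → ¬ C.Normal)
    (hz : ¬ (Cfsg.omegaOneCenter p (T : Subgroup G)).Normal) :
    ∃ 𝓑 : Set (Subgroup G), Cfsg.HasBaumannBlockStructure p (T : Subgroup G) 𝓑 ∧
      (∀ E ∈ 𝓑, ∀ m : ℕ, Nonempty (↥E ⧸ Cfsg.pCore p ↥E ≃* ↥(alternatingGroup (Fin (2 * m + 1)))) →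
        ∃ n : ℕ, 2 * m + 1 = 2 ^ n + 1) ∧
      Cfsg.cStarOf p (T : Subgroup G) =
        (Cfsg.cStarOf p (T : Subgroup G) ⊓ sSup 𝓑) ⊔ (T : Subgroup G) := by
  have hne := cStarStar_ne_top hmin T hchar hz
  obtain ⟨M, d⟩ := H80.LCSS.exists_data hmin hG T hne
  have s : Setting p T M := ⟨hmin, d, hne, hchar⟩
  rcases H75.PMC.hasComps hmin hG T hne with
    ⟨F, _, _, n, r, E, π, -, hF, c, -, x, fr⟩ | ⟨rfl, k, m, r, E, π, hk2, hkm, c, hP, x, fr⟩
  · exact linear_case s c hF fr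
  · have h4 : 2 ^ 2 ≤ 2 ^ k := Nat.pow_le_pow_right (by norm_num) hk2
    exact symmetric_case s c (k := k) (by omega) (by norm_num at h4; omega) hP fr

end H80.PM
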