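import Cfsg.Agent.H80.PM.Frame
import Cfsg.Agent.H80.PM.Transport
import Cfsg.Agent.H78.PMin.CStarStar
import Cfsg.Agent.H78.BlockBasic
import Cfsg.Agent.H78.CDLattice

/-!
Baumann's argument in a `p`-minimal group: a group `L` covering `J(G)` in which `B(T)` contains the
intersection with `O_p(G)`.
-/

set_option autoImplicit false
set_option linter.unusedSectionVars false
set_option linter.style.haveILetI false

open Subgroup
open scoped commutatorElement MatrixGroups Pointwise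

namespace H80.PM

open H80.LCSS (modV cenV Data)
open H78.Block (maxEl baumann_eq' maxEl_le_baumann)

variable {G : Type*} [Group G] [Finite G] {p : ℕ} [Fact p.Prime] {T : Sylow p G} {M : Subgroup G}

/-- `B(T)`. -/
abbrev bT (p : ℕ) {G : Type*} [Group G] (T : Subgroup G) : Subgroup G :=
  Cfsg.baumannSubgroupOf p T

/-- `Ω₁(Z(J(T)))`. -/
abbrev yT (p : ℕ) {G : Type*} [Group G] (T : Subgroup G) : Subgroup G :=
  sInf (H78.Block.maxEl p T)

/-- `Ω₁(Z(J(O_p(G))))`. -/
abbrev vOne (p : ℕ) {G : Type*} [Group G] (T : Subgroup G) : Subgroup G :=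
  sInf {A | A ∈ H78.Block.maxEl p T ∧ A ≤ Cfsg.pCore p G}

/-- The hypotheses of the pushing up theorem. -/
structure Setting (p : ℕ) {G : Type*} [Group G] [Finite G] [Fact p.Prime] (T : Sylow p G)
    (M : Subgroup G) : Prop where
  minimal : Cfsg.IsPMinimal p G
  data : Data p T M
  proper : Cfsg.cStarStarOf p (T : Subgroup G) ≠ ⊤
  nochar : ∀ C : Subgroup G, C ≤ bT p (T : Subgroup G) → C ≠ ⊥ →
    (C.subgroupOf (bT p (T : Subgroup G))).Characteristic → ¬ C.Normal

namespace Setting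

variable (s : Setting p T M)
include s

theorem core_le_T : Cfsg.pCore p G ≤ (T : Subgroup G) := H1.pCore_le_sylow T

omit s in
theorem modV_elem : Cfsg.IsElementaryAbelian p (modV p G) := H80.LCSS.omega_elem _

omit s in
theorem modV_le_core : modV p G ≤ Cfsg.pCore p G := fun _ hv => (H80.LCSS.mem_omega.1 hv).1

omit s in
theorem modV_normal : (modV p G).Normal := H80.LCSS.omega_normal' (H1.pCore_normal' p G)

omit s in
theorem modV_core_comm {v q : G} (hv : v ∈ modV p G) (hq : q ∈ Cfsg.pCore p G) : q * v = v * q :=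
  mem_centralizer_iff.1 (H80.LCSS.mem_omega.1 hv).2.1 q hq

theorem modV_le_cenV : modV p G ≤ cenV p G :=
  modV_le_core.trans s.data.core_le_cenV

theorem mem_max {A : Subgroup G} (hA : A ∈ maxEl p (T : Subgroup G)) :
    A ∈ Cfsg.maxElementaryAbelianSubgroups p G :=
  H10.mem_maxElementary_iff.2 (H10.maxFam_sylow T hA)

/-- No over-offenders. -/
theorem exact_card {A : Subgroup G} (hA : A ∈ maxEl p (T : Subgroup G)) :
    Nat.card A * Nat.card ↥(A ⊓ modV p G) ≤ Nat.card ↥(A ⊓ cenV p G) * Nat.card (modV p G) := by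
  have h : H78.PMin.CSS.Hyp p T := ⟨s.minimal, s.data.charp, s.proper⟩
  obtain ⟨M', A₀, c, -⟩ := h.exists_ctx
  haveI : (H78.PMin.CSS.W p G).Normal := inferInstance
  have h1 := c.exact_of (map_le_range (H10.toModel (H78.PMin.CSS.W p G)) A)
    (H10.isElementaryAbelian_map hA.2.1 _)
  rw [H10.card_modelV] at h1
  have h2 := H10.card_fixed_model (V := H78.PMin.CSS.W p G) A
  have h3 := H10.card_map_model (V := H78.PMin.CSS.W p G) A
  have h4 := H10.inf_centralizer_of_max (modV_elem (p := p) (G := G)) (s.mem_max hA)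
  have h5 : Nat.card ↥(A.map (H10.toModel (H78.PMin.CSS.W p G))) * Nat.card ↥(A ⊓ modV p G) ≤
      Nat.card (modV p G) := by
    have e : Nat.card ↥(A ⊓ modV p G) =
        Nat.card ↥(modV p G ⊓ centralizer (A : Set G)) := by rw [h4, inf_comm]
    rw [e, ← h2]
    exact h1
  calc Nat.card A * Nat.card ↥(A ⊓ modV p G)
      = Nat.card ↥(A.map (H10.toModel (H78.PMin.CSS.W p G))) * Nat.card ↥(A ⊓ modV p G) *
          Nat.card ↥(A ⊓ cenV p G) := by rw [← h3]; ring
    _ ≤ Nat.card (modV p G) * Nat.card ↥(A ⊓ cenV p G) := Nat.mul_le_mul_right _ h5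
    _ = _ := mul_comm _ _

/-- `(A ∩ C) V` is again of largest order, inside `O_p(G)`. -/
theorem star_mem {A : Subgroup G} (hA : A ∈ maxEl p (T : Subgroup G)) :
    (A ⊓ cenV p G) ⊔ modV p G ∈ maxEl p (T : Subgroup G) ∧
      (A ⊓ cenV p G) ⊔ modV p G ≤ Cfsg.pCore p G := by
  have hQ : (A ⊓ cenV p G) ⊔ modV p G ≤ Cfsg.pCore p G :=
    sup_le ((inf_le_inf_right _ hA.1).trans s.data.inf_cenV_le) modV_le_core
  refine ⟨⟨hQ.trans s.core_le_T, ?_, fun B hB hBel => (hA.2.2 B hB hBel).trans ?_⟩, hQ⟩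
  · exact H10.elementaryAbelian_sup (H10.elementaryAbelian_of_le hA.2.1 inf_le_left) modV_elem
      fun a ha v hv => (mem_centralizer_iff.1 ha.2 v hv).symm
  · have h1 := H10.card_mul_card_inf
      (le_top.trans (normalizer_eq_top_iff.2 (modV_normal (p := p) (G := G))).ge :
        A ⊓ cenV p G ≤ normalizer (modV p G : Set G))
    refine Nat.le_of_mul_le_mul_right ?_ (Nat.card_pos (α := ↥(A ⊓ modV p G)))
    refine (s.exact_card hA).trans ?_
    rw [← h1]
    refine Nat.mul_le_mul_left _ ?_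
    exact card_le_of_le (inf_le_inf_right _ inf_le_left)

theorem V_le_max {A : Subgroup G} (hA : A ∈ maxEl p (T : Subgroup G))
    (hAQ : A ≤ Cfsg.pCore p G) : modV p G ≤ A := fun v hv =>
  H11.mem_of_commute_maxFam_elem hA (s.core_le_T (modV_le_core hv)) (modV_elem.2 v hv)
    fun a ha => modV_core_comm hv (hAQ ha)

theorem V_le_vOne : modV p G ≤ vOne p (T : Subgroup G) := le_sInf fun _ hA => s.V_le_max hA.1 hA.2

theorem yT_le_vOne : yT p (T : Subgroup G) ≤ vOne p (T : Subgroup G) :=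
  sInf_le_sInf fun _ hA => hA.1

/-- `V₁ ≤ (A ∩ V₁) V`. -/
theorem vOne_le {A : Subgroup G} (hA : A ∈ maxEl p (T : Subgroup G)) :
    vOne p (T : Subgroup G) ≤ (A ⊓ vOne p (T : Subgroup G)) ⊔ modV p G := by
  intro v hv
  obtain ⟨a, ha, w, hw, rfl⟩ := H1.exists_mul_of_mem_sup
    (fun x hx => centralizer_le_normalizer _ (mem_centralizer_iff.2 fun y hy =>
      (mem_centralizer_iff.1 hy.2 x hx).symm) :
      modV p G ≤ normalizer ((A ⊓ cenV p G : Subgroup G) : Set G))
    ((sInf_le (s.star_mem hA) : vOne p (T : Subgroup G) ≤ _) hv)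
  refine mul_mem (mem_sup_left ⟨ha.1, ?_⟩) (mem_sup_right hw)
  have := mul_mem hv (inv_mem (s.V_le_vOne hw))
  rwa [mul_inv_cancel_right] at this

theorem vOne_normal : (vOne p (T : Subgroup G)).Normal := by
  refine ⟨fun v hv g => mem_sInf.2 fun A hA => ?_⟩
  have hA' : A.map (MulAut.conj g⁻¹).toMonoidHom ∈
      {A | A ∈ maxEl p (T : Subgroup G) ∧ A ≤ Cfsg.pCore p G} := by
    have hQ : A.map (MulAut.conj g⁻¹).toMonoidHom ≤ Cfsg.pCore p G := by
      rintro _ ⟨a, ha, rfl⟩
      exact (H1.pCore_normal' p G).conj_mem a (hA.2 ha) _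
    refine ⟨⟨hQ.trans s.core_le_T, (H11.replProp_elem p).mapEquiv A _ hA.1.2.1,
      fun B hB hBel => ?_⟩, hQ⟩
    rw [card_map_of_injective (MulAut.conj g⁻¹).injective]
    exact hA.1.2.2 B hB hBel
  obtain ⟨a, ha, he⟩ := mem_sInf.1 hv _ hA'
  rw [← he]
  simpa [MulAut.conj_apply, mul_assoc] using ha

theorem jT_le_J : jT p (T : Subgroup G) ≤ Cfsg.thompsonSubgroup p G := by
  rw [jT, H11.thompsonSubgroupOf_eq, H10.thompsonSubgroup_eq]
  exact sSup_le_sSup fun A hA => H10.maxFam_sylow T hA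

/-- `J(G)` centralises `V₁ / V`. -/
theorem comm_vOne {v g : G} (hv : v ∈ vOne p (T : Subgroup G))
    (hg : g ∈ Cfsg.thompsonSubgroup p G) : ⁅v, g⁆ ∈ modV p G := by
  haveI := s.vOne_normal
  haveI := modV_normal (p := p) (G := G)
  haveI hn := H80.PU.fixMod_normal (vOne p (T : Subgroup G)) (modV p G)
  set K := H80.PU.fixMod (vOne p (T : Subgroup G)) (modV p G)
  have hle : Cfsg.thompsonSubgroup p G ≤ K := by
    rw [H10.thompsonSubgroup_eq]
    refine sSup_le fun A hA => ?_
    obtain ⟨P, hP⟩ := (H10.isPGroup_of_elem hA.2.1).exists_le_sylow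
    obtain ⟨k, hk⟩ := MulAction.exists_smul_eq G T P
    have hA' : A.map (MulAut.conj k⁻¹).toMonoidHom ∈ maxEl p (T : Subgroup G) := by
      refine ⟨?_, (H11.replProp_elem p).mapEquiv A _ hA.2.1, fun B _ hBel => ?_⟩
      · rintro _ ⟨a, ha, rfl⟩
        have h1 := hP ha
        rw [← hk, Sylow.coe_subgroup_smul, Subgroup.mem_pointwise_smul_iff_inv_smul_mem] at h1
        simpa [MulAut.smul_def, mul_assoc] using h1
      · rw [card_map_of_injective (MulAut.conj k⁻¹).injective]
        exact hA.2.2 B le_top hBel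
    intro a ha
    have ha' : k⁻¹ * a * k ∈ K := by
      refine H80.PU.mem_fixMod.2 fun v hv => ?_
      have hnorm : modV p G ≤ normalizer
          ((A.map (MulAut.conj k⁻¹).toMonoidHom ⊓ vOne p (T : Subgroup G) : Subgroup G) : Set G) :=
        fun x hx => centralizer_le_normalizer _ (mem_centralizer_iff.2 fun y hy =>
          H10.comm_of_elem (s.star_mem hA').1.2.1 ((sInf_le (s.star_mem hA') :
            vOne p (T : Subgroup G) ≤ _) hy.2) (mem_sup_right hx))
      obtain ⟨b, hb, w, hw, rfl⟩ := H1.exists_mul_of_mem_sup hnorm (s.vOne_le hA' hv)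
      have hmem : k⁻¹ * a * k ∈ A.map (MulAut.conj k⁻¹).toMonoidHom :=
        ⟨a, ha, by simp [mul_assoc]⟩
      have hcomm := H10.comm_of_elem hA'.2.1 hb.1 hmem
      have e : ⁅b * w, k⁻¹ * a * k⁆ =
          b * ⁅w, k⁻¹ * a * k⁆ * b⁻¹ * ⁅b, k⁻¹ * a * k⁆ := by
        simp only [commutatorElement_def]; group
      rw [e, commutatorElement_eq_one_iff_mul_comm.2 hcomm, mul_one]
      refine Normal.conj_mem inferInstance _ ?_ b
      rw [commutatorElement_def, mul_assoc w, mul_assoc]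
      exact mul_mem hw (Normal.conj_mem inferInstance _ (inv_mem hw) _)
    have := hn.conj_mem _ ha' k
    simpa [mul_assoc] using this
  exact H80.PU.mem_fixMod.1 (hle hg) v hv

theorem J_sup_T : Cfsg.thompsonSubgroup p G ⊔ (T : Subgroup G) = ⊤ := by
  by_contra h
  haveI : (Cfsg.thompsonSubgroup p G).Normal :=
    haveI := H10.thompsonSubgroup_characteristic (p := p) (G := G)
    inferInstance
  have hJ : Cfsg.thompsonSubgroup p G ≤ M := le_sup_left.trans (s.data.uniq _ le_sup_right h)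
  obtain ⟨A, hAT, hA, hAC⟩ := s.data.exists_moving
  refine hAC ((le_inf hAT ?_).trans ((s.data.inf_le_core inferInstance hJ).trans s.data.core_le_cenV))
  rw [H10.thompsonSubgroup_eq]
  exact le_sSup (H10.mem_maxElementary_iff.1 hA)

/-- `W* = V Y`. -/
abbrev wStar (p : ℕ) {G : Type*} [Group G] (T : Subgroup G) : Subgroup G := modV p G ⊔ yT p T

theorem wStar_normal : (wStar p (T : Subgroup G)).Normal := by
  refine normalizer_eq_top_iff.1 (top_le_iff.1 (s.J_sup_T.ge.trans (sup_le ?_ ?_)))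
  · refine H75.le_normalizer_of_conj fun g hg w hw => ?_
    have hwV : w ∈ vOne p (T : Subgroup G) := sup_le s.V_le_vOne s.yT_le_vOne hw
    have h1 := mul_mem (inv_mem (mem_sup_left (s.comm_vOne hwV hg) : _ ∈ wStar p (T : Subgroup G))) hw
    rwa [show ⁅w, g⁆⁻¹ * w = g * w * g⁻¹ by simp only [commutatorElement_def]; group] at h1
  · refine (le_inf ?_ ?_).trans (H75.normalizer_inf_le_normalizer_sup _ _)
    · exact le_top.trans (normalizer_eq_top_iff.2 (modV_normal (p := p) (G := G))).ge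
    · exact le_normalizer.trans
        (H11.normalizer_le_normalizer_sInf_maxFam (H11.replProp_elem p) _)

theorem bT_le_T : bT p (T : Subgroup G) ≤ (T : Subgroup G) := inf_le_left

theorem jT_le_bT : jT p (T : Subgroup G) ≤ bT p (T : Subgroup G) := by
  rw [jT, H11.thompsonSubgroupOf_eq]
  exact sSup_le fun A hA => maxEl_le_baumann hA

theorem yT_le_T : yT p (T : Subgroup G) ≤ (T : Subgroup G) :=
  H11.sInf_maxFam_le (H11.replProp_elem p) _

theorem V_inf_Y : modV p G ⊓ yT p (T : Subgroup G) = fixJ p (T : Subgroup G) := by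
  apply le_antisymm
  · refine inf_le_inf_left _ fun y hy => mem_centralizer_iff.2 fun j hj => ?_
    have hle : jT p (T : Subgroup G) ≤ centralizer ({y} : Set G) := by
      rw [jT, H11.thompsonSubgroupOf_eq]
      exact sSup_le fun A hA a ha => mem_centralizer_singleton_iff.2
        (H10.comm_of_elem hA.2.1 ha (mem_sInf.1 hy A hA))
    exact mem_centralizer_singleton_iff.1 (hle hj)
  · intro v hv
    refine ⟨hv.1, mem_sInf.2 fun A hA => ?_⟩
    refine H11.mem_of_commute_maxFam_elem hA (s.core_le_T (modV_le_core hv.1))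
      (modV_elem.2 v hv.1) fun a ha => mem_centralizer_iff.1 hv.2 a ?_
    show a ∈ jT p (T : Subgroup G)
    rw [jT, H11.thompsonSubgroupOf_eq]
    exact le_sSup hA ha

theorem core_inf_bT : Cfsg.pCore p G ⊓ bT p (T : Subgroup G) =
    Cfsg.pCore p G ⊓ centralizer (wStar p (T : Subgroup G) : Set G) := by
  rw [bT, baumann_eq']
  refine le_antisymm (fun q hq => ⟨hq.1, ?_⟩) fun q hq => ⟨hq.1, s.core_le_T hq.1,
    centralizer_le (SetLike.coe_subset_coe.2 le_sup_right) hq.2⟩
  rw [H78.centralizer_sup_eq]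
  exact ⟨mem_centralizer_iff.2 fun v hv => (modV_core_comm hv hq.1).symm, hq.2.2⟩

theorem core_inf_bT_normal : (Cfsg.pCore p G ⊓ bT p (T : Subgroup G)).Normal := by
  rw [s.core_inf_bT]
  haveI := H1.pCore_normal' p G
  haveI := s.wStar_normal
  infer_instance

variable {x : G} (fr : Frame p T x)
include fr

/-- `L = ⟨B, B^x⟩`. -/
abbrev lGrp (p : ℕ) {G : Type*} [Group G] (T : Subgroup G) (x : G) : Subgroup G :=
  bT p T ⊔ (bT p T).map (MulAut.conj x).toMonoidHom

theorem bT_le : bT p (T : Subgroup G) ≤ jT p (T : Subgroup G) ⊔ cenV p G := by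
  intro t ht
  refine fr.fixed t (s.bT_le_T ht) ?_
  rw [← s.V_inf_Y]
  rw [bT, baumann_eq'] at ht
  exact centralizer_le (SetLike.coe_subset_coe.2 inf_le_right) ht.2

theorem bT_le_nJ : bT p (T : Subgroup G) ≤ nJ p G :=
  (s.bT_le fr).trans (sup_le_sup_right s.jT_le_J _)

omit s fr in
theorem nJ_normal : (nJ p G).Normal := by
  haveI := H80.LCSS.Data.cenV_normal (p := p) (G := G)
  haveI := H10.thompsonSubgroup_characteristic (p := p) (G := G)
  infer_instance

theorem lGrp_le : lGrp p (T : Subgroup G) x ≤ nJ p G :=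
  sup_le (s.bT_le_nJ fr) (map_le_iff_le_comap.2 fun b hb =>
    nJ_normal.conj_mem b (s.bT_le_nJ fr hb) x)

theorem nJ_le_lGrp : nJ p G ≤ lGrp p (T : Subgroup G) x ⊔ cenV p G :=
  fr.gen.trans (sup_le_sup_right (sup_le_sup s.jT_le_bT (map_mono s.jT_le_bT)) _)

/-- `W* = V (Y ∩ Y^x)`. -/
theorem wStar_le : wStar p (T : Subgroup G) ≤ modV p G ⊔
    (yT p (T : Subgroup G) ⊓ (yT p (T : Subgroup G)).map (MulAut.conj x).toMonoidHom) := by
  haveI hWn := s.wStar_normal
  haveI hVn := modV_normal (p := p) (G := G)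
  set Y := yT p (T : Subgroup G) with hY
  set Yx := Y.map (MulAut.conj x).toMonoidHom with hYx
  set V := modV p G with hV
  set D := V ⊓ Y with hD
  set Dx := D.map (MulAut.conj x).toMonoidHom with hDx
  have hDx' : Dx = V ⊓ Yx := by
    rw [hDx, hD, map_inf _ _ _ (MulAut.conj x).injective]
    exact congrArg (· ⊓ Yx) (hVn.map_conj_eq _ x)
  have hVY : Y ≤ normalizer (V : Set G) := le_top.trans (normalizer_eq_top_iff.2 hVn).ge
  have hYW : Y ≤ normalizer (wStar p (T : Subgroup G) : Set G) :=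
    le_top.trans (normalizer_eq_top_iff.2 hWn).ge
  -- sizes
  have h1 : Nat.card (wStar p (T : Subgroup G)) * Nat.card D = Nat.card V * Nat.card Y := by
    have := H10.card_mul_card_inf (le_top.trans (normalizer_eq_top_iff.2 hVn).ge : Y ≤ _)
    rw [sup_comm, inf_comm, mul_comm (Nat.card Y)] at this
    exact this
  have hYxW : Yx ≤ wStar p (T : Subgroup G) := map_le_iff_le_comap.2 fun y hy =>
    hWn.conj_mem y (mem_sup_right hy) x
  have h2 : Nat.card Y * Nat.card Yx ≤
      Nat.card (wStar p (T : Subgroup G)) * Nat.card ↥(Y ⊓ Yx) :=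
    (H78.card_mul_le_sup_inf Y Yx).trans
      (Nat.mul_le_mul_right _ (card_le_of_le (sup_le le_sup_right hYxW)))
  have hYc : Nat.card Yx = Nat.card Y := card_map_of_injective (MulAut.conj x).injective
  rw [hYc] at h2
  have h3 : Nat.card ↥(D ⊔ Dx) * Nat.card ↥(D ⊓ Dx) = Nat.card D * Nat.card D := by
    have hn : D ≤ normalizer (Dx : Set G) := fun d hd =>
      centralizer_le_normalizer _ (mem_centralizer_iff.2 fun e he =>
        H10.comm_of_elem modV_elem (show e ∈ V from (hDx'.le he).1) hd.1)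
    rw [H10.card_mul_card_inf hn, hDx, card_map_of_injective (MulAut.conj x).injective]
  have hcov : D ⊔ Dx = V := by
    have h := fr.cover
    rw [← s.V_inf_Y] at h
    exact h
  rw [hcov] at h3
  have hinf : D ⊓ (Y ⊓ Yx) = D ⊓ Dx := by
    rw [hDx', hD]
    refine le_antisymm (fun a ha => ⟨ha.1, ha.1.1, ha.2.2⟩) fun a ha => ⟨ha.1, ha.1.2, ha.2.2⟩
  have hDn : D ≤ normalizer ((Y ⊓ Yx : Subgroup G) : Set G) := fun d hd =>
    centralizer_le_normalizer _ (mem_centralizer_iff.2 fun e he => by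
      obtain ⟨A, hA⟩ := H11.maxFam_nonempty (H11.replProp_elem (G := G) p).bot (T : Subgroup G)
      exact H10.comm_of_elem hA.2.1 (mem_sInf.1 he.1 A hA) (mem_sInf.1 hd.2 A hA))
  have h4 := H10.card_mul_card_inf hDn
  rw [hinf] at h4
  have hle : D ⊔ (Y ⊓ Yx) ≤ Y := sup_le inf_le_right inf_le_left
  have heq : D ⊔ (Y ⊓ Yx) = Y := by
    refine eq_of_le_of_card_ge hle ?_
    have hY0 : 0 < Nat.card Y := Nat.card_pos
    have hDD : 0 < Nat.card D := Nat.card_pos
    have hI0 : 0 < Nat.card ↥(D ⊓ Dx) := Nat.card_pos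
    have h5 : Nat.card Y * Nat.card D ≤ Nat.card V * Nat.card ↥(Y ⊓ Yx) := by
      refine Nat.le_of_mul_le_mul_left ?_ hY0
      calc Nat.card Y * (Nat.card Y * Nat.card D)
          ≤ Nat.card (wStar p (T : Subgroup G)) * Nat.card ↥(Y ⊓ Yx) * Nat.card D := by
            rw [← mul_assoc]; exact Nat.mul_le_mul_right _ h2
        _ = Nat.card (wStar p (T : Subgroup G)) * Nat.card D * Nat.card ↥(Y ⊓ Yx) := by ring
        _ = _ := by rw [h1]; ring
    refine Nat.le_of_mul_le_mul_right ?_ (Nat.mul_pos hDD hI0)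
    calc Nat.card Y * (Nat.card D * Nat.card ↥(D ⊓ Dx))
        = Nat.card Y * Nat.card D * Nat.card ↥(D ⊓ Dx) := by ring
      _ ≤ Nat.card V * Nat.card ↥(Y ⊓ Yx) * Nat.card ↥(D ⊓ Dx) := Nat.mul_le_mul_right _ h5
      _ = (Nat.card V * Nat.card ↥(D ⊓ Dx)) * Nat.card ↥(Y ⊓ Yx) := by ring
      _ = Nat.card D * (Nat.card D * Nat.card ↥(Y ⊓ Yx)) := by rw [h3]; ring
      _ = _ := by rw [← h4]; ring
  refine sup_le le_sup_left ?_
  calc Y = D ⊔ (Y ⊓ Yx) := heq.symm
    _ ≤ _ := sup_le (inf_le_left.trans le_sup_left) le_sup_right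

theorem lGrp_inf_core : lGrp p (T : Subgroup G) x ⊓ Cfsg.pCore p G ≤ bT p (T : Subgroup G) := by
  intro q hq
  have hcent : lGrp p (T : Subgroup G) x ≤ centralizer
      ((yT p (T : Subgroup G) ⊓ (yT p (T : Subgroup G)).map (MulAut.conj x).toMonoidHom :
        Subgroup G) : Set G) := by
    refine sup_le (fun b hb => mem_centralizer_iff.2 fun y hy => ?_) ?_
    · rw [bT, baumann_eq'] at hb
      exact mem_centralizer_iff.1 hb.2 y hy.1
    · rintro _ ⟨b, hb, rfl⟩
      refine mem_centralizer_iff.2 fun y hy => ?_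
      obtain ⟨y', hy', rfl⟩ := hy.2
      rw [SetLike.mem_coe, bT, baumann_eq'] at hb
      rw [← map_mul, ← map_mul, mem_centralizer_iff.1 hb.2 y' hy']
  have h2 : q ∈ Cfsg.pCore p G ⊓ centralizer (wStar p (T : Subgroup G) : Set G) := by
    refine ⟨hq.2, centralizer_le (SetLike.coe_subset_coe.2 (s.wStar_le fr)) ?_⟩
    rw [H78.centralizer_sup_eq]
    exact ⟨mem_centralizer_iff.2 fun v hv => (modV_core_comm hv hq.2).symm, hcent hq.1⟩
  rw [← s.core_inf_bT] at h2
  exact h2.2

/-- `p`-elements of `L ∩ C` lie in `B(T)`. -/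
theorem pgroup_le_bT {R : Subgroup G} (hR : IsPGroup p R)
    (hRL : R ≤ lGrp p (T : Subgroup G) x) (hRC : R ≤ cenV p G) : R ≤ bT p (T : Subgroup G) := by
  obtain ⟨P, hP⟩ := hR.exists_le_sylow
  obtain ⟨k, hk⟩ := MulAction.exists_smul_eq G T P
  intro a ha
  refine s.lGrp_inf_core fr ⟨hRL ha, ?_⟩
  have h1 := hP ha
  rw [← hk, Sylow.coe_subgroup_smul, Subgroup.mem_pointwise_smul_iff_inv_smul_mem] at h1
  have h2 : k⁻¹ * a * k ∈ (T : Subgroup G) := by simpa [MulAut.smul_def, mul_assoc] using h1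
  have h3 : k⁻¹ * a * k ∈ cenV p G := by
    simpa using H80.LCSS.Data.cenV_normal.conj_mem a (hRC ha) k⁻¹
  have h4 := (H1.pCore_normal' p G).conj_mem _ (s.data.inf_cenV_le ⟨h2, h3⟩) k
  simpa [mul_assoc] using h4

end Setting

end H80.PM
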