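import Cfsg.Agent.H80.PM.Frame
import Cfsg.Agent.H98.SL2Hom

/-!
The components of `J(G) C_G(V)` modulo `C_G(V)` as coordinates.
-/

set_option autoImplicit false
set_option linter.unusedSectionVars false

open Subgroup
open scoped commutatorElement MatrixGroups

namespace H80.PM

open H80.LCSS (modV cenV)

variable {G : Type*} [Group G] [Finite G] {p : ℕ} [Fact p.Prime]

/-- The coordinates of `J(G) C_G(V)` in copies of `K`, with `J(T)` the product of copies of `R`. -/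
structure Comps (p : ℕ) {G : Type*} [Group G] (T : Sylow p G) {K : Type} [Group K] (R : Subgroup K)
    {r : ℕ} (E : Fin r → Subgroup G) (π : Fin r → (↥(nJ p G) →* K)) : Prop where
  pos : 1 ≤ r
  cen_le : ∀ i, cenV p G ≤ E i
  sup : (⨆ i, E i) = nJ p G
  mem_iff : ∀ i (g : ↥(nJ p G)), (g : G) ∈ E i ↔ ∀ j, j ≠ i → π j g = 1
  ker : ∀ g : ↥(nJ p G), (∀ i, π i g = 1) ↔ (g : G) ∈ cenV p G
  surj : ∀ i k, ∃ g : ↥(nJ p G), (g : G) ∈ E i ∧ π i g = k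
  conj : ∀ i j, ∃ t ∈ (T : Subgroup G), (E i).map (MulAut.conj t).toMonoidHom = E j
  perm : ∀ t ∈ (T : Subgroup G), ∀ i, ∃ j, (E i).map (MulAut.conj t).toMonoidHom = E j
  fix : ∀ i j, i ≠ j → ⁅⁅modV p G, E i⁆, E j⁆ = ⊥
  split : (modV p G ⊓ centralizer ((nJ p G : Subgroup G) : Set G)) ⊔ (⨆ i, ⁅modV p G, E i⁆) =
    modV p G
  jT_le : Cfsg.thompsonSubgroupOf p (T : Subgroup G) ≤ nJ p G
  jT_mem : ∀ i (g : ↥(nJ p G)), (g : G) ∈ Cfsg.thompsonSubgroupOf p (T : Subgroup G) → π i g ∈ R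
  jT_prod : ∀ a : Fin r → K, (∀ i, a i ∈ R) → ∃ g : ↥(nJ p G),
    (g : G) ∈ Cfsg.thompsonSubgroupOf p (T : Subgroup G) ∧ ∀ i, π i g = a i

/-- The natural module of a special linear component. -/
def NatOn (p : ℕ) {G : Type*} [Group G] (F : Type) [Field F] (E : Subgroup G)
    (π : ↥(nJ p G) →* SL(2, F)) : Prop :=
  ∃ ψ : ↥⁅modV p G, E⁆ →* Multiplicative (Fin 2 → F), Function.Surjective ψ ∧
    (∀ u : ↥⁅modV p G, E⁆, ψ u = 1 ↔ (u : G) ∈ centralizer (E : Set G)) ∧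
    ∀ (g : ↥(nJ p G)) (u : ↥⁅modV p G, E⁆), ∃ w : ↥⁅modV p G, E⁆,
      (w : G) = (g : G) * (u : G) * (g : G)⁻¹ ∧ Multiplicative.toAdd (ψ w) =
        (π g : Matrix (Fin 2) (Fin 2) F).mulVec (Multiplicative.toAdd (ψ u))

/-- The even permutation module of a symmetric component. -/
def PermOn (p : ℕ) {G : Type*} [Group G] {m : ℕ} (E : Subgroup G)
    (π : ↥(nJ p G) →* Equiv.Perm (Fin (2 * m + 1))) : Prop :=
  ∃ ψ : ↥⁅modV p G, E⁆ →* Multiplicative (Fin (2 * m + 1) → ZMod 2),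
    (∀ u, ∑ i, Multiplicative.toAdd (ψ u) i = 0) ∧
    (∀ v : Fin (2 * m + 1) → ZMod 2, ∑ i, v i = 0 → ∃ u, Multiplicative.toAdd (ψ u) = v) ∧
    (∀ u : ↥⁅modV p G, E⁆, ψ u = 1 ↔ (u : G) ∈ centralizer (E : Set G)) ∧
    ∀ (g : ↥(nJ p G)) (u : ↥⁅modV p G, E⁆), ∃ w : ↥⁅modV p G, E⁆,
      (w : G) = (g : G) * (u : G) * (g : G)⁻¹ ∧
        ∀ i, Multiplicative.toAdd (ψ w) i = Multiplicative.toAdd (ψ u) ((π g)⁻¹ i)

/-- The upper unitriangular matrices. -/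
def upperSub (F : Type) [Field F] : Subgroup SL(2, F) :=
  closure (Set.range (H98.uu : F → SL(2, F)))

/-- The group generated by the transpositions `(2j, 2j+1)`. -/
def pairsSub (m : ℕ) : Subgroup (Equiv.Perm (Fin (2 * m + 1))) :=
  closure {σ | ∃ j : Fin m, σ = Equiv.swap ⟨2 * j.1, by omega⟩ ⟨2 * j.1 + 1, by omega⟩}

/-- What is needed of the local `C**(G,T)`-theorem. -/
def HasComps (p : ℕ) {G : Type*} [Group G] (T : Sylow p G) : Prop :=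
  (∃ (F : Type) (_ : Field F) (_ : Fintype F) (n r : ℕ) (E : Fin r → Subgroup G)
      (π : Fin r → (↥(nJ p G) →* SL(2, F))), 1 ≤ n ∧ Fintype.card F = p ^ n ∧
      Comps p T (upperSub F) E π ∧ (∀ i, NatOn p F (E i) (π i)) ∧ ∃ x, Frame p T x) ∨
    (p = 2 ∧ ∃ (k m r : ℕ) (E : Fin r → Subgroup G)
      (π : Fin r → (↥(nJ p G) →* Equiv.Perm (Fin (2 * m + 1)))), 2 ≤ k ∧ 2 * m + 1 = 2 ^ k + 1 ∧
      Comps p T (pairsSub m) E π ∧ (∀ i, PermOn p (E i) (π i)) ∧ ∃ x, Frame p T x)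

end H80.PM
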