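import Cfsg.Agent.H80.PM.Baumann
import Cfsg.Agent.H80.PM.Comps

/-!
First consequences of a system of coordinates on `J(G) C_G(V)`.
-/

set_option autoImplicit false
set_option linter.unusedSectionVars false
set_option linter.style.haveILetI false

open Subgroup
open scoped commutatorElement MatrixGroups Pointwise

namespace H80.PM

open H80.LCSS (modV cenV Data)
open Setting (lGrp)

variable {G : Type*} [Group G] [Finite G] {p : ℕ} [Fact p.Prime] {T : Sylow p G} {M : Subgroup G}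
  {K : Type} [Group K] {R : Subgroup K} {r : ℕ} {E : Fin r → Subgroup G}
  {π : Fin r → (↥(nJ p G) →* K)}

omit [Finite G] [Fact p.Prime] in
theorem cen_le_nJ : cenV p G ≤ nJ p G := le_sup_right

/-- The elements of largest order in a `p`-group containing `J(T)` lie in `J(T)`. -/
theorem maxFam_le_jT {P : Subgroup G} (hP : IsPGroup p P) (hJP : jT p (T : Subgroup G) ≤ P)
    {A : Subgroup G} (hAP : A ≤ P) (hA : A ∈ H11.maxFam (H10.elemP p) (⊤ : Subgroup G)) :
    A ≤ jT p (T : Subgroup G) := by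
  obtain ⟨T₁, hT₁⟩ := hP.exists_le_sylow
  obtain ⟨k, hk⟩ := MulAction.exists_smul_eq G T T₁
  have hle : jT p (T : Subgroup G) ≤ jT p (T₁ : Subgroup G) := by
    rw [jT, jT, H11.thompsonSubgroupOf_eq, H11.thompsonSubgroupOf_eq]
    refine sSup_le fun B hB => le_sSup ⟨?_, hB.2.1, fun C _ hCel =>
      (H10.maxFam_sylow T hB).2.2 C le_top hCel⟩
    refine le_trans ?_ (hJP.trans hT₁)
    rw [jT, H11.thompsonSubgroupOf_eq]
    exact le_sSup hB
  have hcard : Nat.card (jT p (T₁ : Subgroup G)) = Nat.card (jT p (T : Subgroup G)) := by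
    rw [← hk]
    show Nat.card (Cfsg.thompsonSubgroupOf p ((T : Subgroup G).map (MulAut.conj k).toMonoidHom)) = _
    rw [← H1.map_thompsonSubgroupOf p _ _ (by
      rw [(MonoidHom.ker_eq_bot_iff _).2 (MulAut.conj k).injective]; exact disjoint_bot_right)]
    exact card_map_of_injective (MulAut.conj k).injective
  rw [eq_of_le_of_card_ge hle hcard.le, jT, H11.thompsonSubgroupOf_eq]
  exact le_sSup ⟨hAP.trans hT₁, hA.2.1, fun C _ hCel => hA.2.2 C le_top hCel⟩

/-- `J(T)` is characteristic in `B(T)`. -/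
theorem jT_char (s : Setting p T M) :
    ((jT p (T : Subgroup G)).subgroupOf (bT p (T : Subgroup G))).Characteristic := by
  have h : (jT p (T : Subgroup G)).subgroupOf (bT p (T : Subgroup G)) =
      Cfsg.thompsonSubgroup p (bT p (T : Subgroup G)) := by
    apply map_injective (bT p (T : Subgroup G)).subtype_injective
    rw [map_subgroupOf_eq_of_le s.jT_le_bT]
    show jT p (T : Subgroup G) = Cfsg.thompsonSubgroupOf p (bT p (T : Subgroup G))
    rw [jT, H11.thompsonSubgroupOf_eq, H11.thompsonSubgroupOf_eq]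
    refine le_antisymm (sSup_le fun A hA => le_sSup ⟨H78.Block.maxEl_le_baumann hA, hA.2.1,
      fun B hB hBel => hA.2.2 B (hB.trans s.bT_le_T) hBel⟩) (sSup_le fun A hA => ?_)
    obtain ⟨A₀, hA₀⟩ := H11.maxFam_nonempty (H11.replProp_elem (G := G) p).bot (T : Subgroup G)
    exact le_sSup ⟨hA.1.trans s.bT_le_T, hA.2.1, fun B hB hBel =>
      (hA₀.2.2 B hB hBel).trans (hA.2.2 A₀ (H78.Block.maxEl_le_baumann hA₀) hA₀.2.1)⟩
  rw [h]
  exact H10.thompsonSubgroup_characteristic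

theorem jT_ne_bot (s : Setting p T M) : jT p (T : Subgroup G) ≠ ⊥ := by
  refine H1.thompsonSubgroupOf_ne_bot' T.isPGroup' fun h => s.data.coatom.1 (top_le_iff.1 ?_)
  refine le_trans ?_ s.data.norm_le
  rw [H11.thompsonSubgroupOf_eq]
  have : sSup (H11.maxFam (H10.elemP p) (T : Subgroup G)) = ⊥ :=
    eq_bot_iff.2 (sSup_le fun A hA => hA.1.trans h.le)
  rw [this, normalizer_eq_top]

namespace Comps

variable (c : Comps p T R E π)
include c

theorem E_le (i : Fin r) : E i ≤ nJ p G := c.sup ▸ le_iSup E i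

theorem pi_cen {g : ↥(nJ p G)} (hg : (g : G) ∈ cenV p G) (i : Fin r) : π i g = 1 :=
  (c.ker g).2 hg i

theorem pi_other {g : ↥(nJ p G)} {i j : Fin r} (hg : (g : G) ∈ E i) (hij : j ≠ i) : π j g = 1 :=
  (c.mem_iff i g).1 hg j hij

theorem jTC_le : jT p (T : Subgroup G) ⊔ cenV p G ≤ nJ p G := sup_le c.jT_le cen_le_nJ

theorem E_normal_in (i : Fin r) : nJ p G ≤ normalizer (E i : Set G) := by
  refine H75.le_normalizer_of_conj fun g hg e he => ?_
  refine (c.mem_iff i ⟨g * e * g⁻¹, mul_mem (mul_mem hg (c.E_le i he)) (inv_mem hg)⟩).2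
    fun j hj => ?_
  have h : (⟨g * e * g⁻¹, mul_mem (mul_mem hg (c.E_le i he)) (inv_mem hg)⟩ : ↥(nJ p G)) =
      ⟨g, hg⟩ * ⟨e, c.E_le i he⟩ * ⟨g, hg⟩⁻¹ := Subtype.ext rfl
  rw [h, map_mul, map_mul, c.pi_other (g := ⟨e, c.E_le i he⟩) he hj, mul_one, map_inv,
    mul_inv_cancel]

/-- An element with all coordinates in `R` lies in `J(T) C`. -/
theorem mem_jTC {g : ↥(nJ p G)} (h : ∀ i, π i g ∈ R) :
    (g : G) ∈ jT p (T : Subgroup G) ⊔ cenV p G := by
  obtain ⟨u, hu, hua⟩ := c.jT_prod (fun i => π i g) h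
  have h1 : ((u⁻¹ * g : ↥(nJ p G)) : G) ∈ cenV p G := (c.ker _).1 fun i => by
    rw [map_mul, map_inv, hua i, inv_mul_cancel]
  have := mul_mem (mem_sup_left hu : _ ∈ jT p (T : Subgroup G) ⊔ cenV p G) (mem_sup_right h1)
  rwa [Subgroup.coe_mul, Subgroup.coe_inv, mul_inv_cancel_left] at this

theorem pi_mem {g : ↥(nJ p G)} (hg : (g : G) ∈ jT p (T : Subgroup G) ⊔ cenV p G) (i : Fin r) :
    π i g ∈ R := by
  haveI hCn : (cenV p G).Normal := Data.cenV_normal
  obtain ⟨a, ha, j, hj, hgj⟩ := H1.exists_mul_of_mem_sup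
    (le_top.trans (normalizer_eq_top_iff.2 hCn).ge :
      jT p (T : Subgroup G) ≤ normalizer (cenV p G : Set G))
    (by rw [sup_comm]; exact hg : (g : G) ∈ cenV p G ⊔ jT p (T : Subgroup G))
  have : g = ⟨a, cen_le_nJ ha⟩ * ⟨j, c.jT_le hj⟩ := Subtype.ext hgj
  rw [this, map_mul, c.pi_cen (g := ⟨a, cen_le_nJ ha⟩) ha, one_mul]
  exact c.jT_mem i ⟨j, c.jT_le hj⟩ hj

/-- Every element of `R` is a coordinate of an element of `J(T) ∩ E_i`. -/
theorem exists_root (i : Fin r) {a : K} (ha : a ∈ R) :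
    ∃ u : ↥(nJ p G), (u : G) ∈ jT p (T : Subgroup G) ∧ (u : G) ∈ E i ∧ π i u = a := by
  classical
  obtain ⟨u, hu, hua⟩ := c.jT_prod (Pi.mulSingle i a) fun j => by
    by_cases h : j = i
    · subst h; simpa using ha
    · rw [Pi.mulSingle_eq_of_ne h]; exact one_mem R
  refine ⟨u, hu, (c.mem_iff i u).2 fun j hj => ?_, ?_⟩
  · rw [hua j, Pi.mulSingle_eq_of_ne hj]
  · rw [hua i, Pi.mulSingle_eq_same]

/-- A subgroup of `M` has no full coordinate. -/
theorem not_top (s : Setting p T M) (hgen : normalClosure (R : Set K) = ⊤) {X : Subgroup G}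
    (hX : X ≤ M) (i : Fin r) : (X.subgroupOf (nJ p G)).map (π i) ≠ ⊤ := by
  intro htop
  have hJM : jT p (T : Subgroup G) ≤ M := s.jT_le_bT.trans (s.bT_le_T.trans s.data.le_M)
  -- the coordinates of `M ∩ E_i`
  set Ki := ((M ⊓ E i).subgroupOf (nJ p G)).map (π i) with hKi
  have hnorm : Ki.Normal := by
    refine ⟨fun k hk l => ?_⟩
    obtain ⟨g, hg, rfl⟩ := Subgroup.mem_map.1 hk
    obtain ⟨x, hx, rfl⟩ := Subgroup.mem_map.1 (htop.ge (mem_top l))
    refine Subgroup.mem_map.2 ⟨x * g * x⁻¹, ⟨?_, ?_⟩, by simp⟩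
    · show (x : G) * g * (x : G)⁻¹ ∈ M
      exact mul_mem (mul_mem (hX hx) hg.1) (inv_mem (hX hx))
    · show (x : G) * g * (x : G)⁻¹ ∈ E i
      exact H75.conj_mem_of_mem_normalizer (c.E_normal_in i x.2) hg.2
  have hKtop : Ki = ⊤ := by
    refine top_le_iff.1 (hgen.ge.trans (normalClosure_le_normal fun a ha => ?_))
    obtain ⟨u, hu, huE, rfl⟩ := c.exists_root i ha
    exact mem_map_of_mem _ ⟨hJM hu, huE⟩
  have hEi : E i ≤ M := by
    intro e he
    obtain ⟨g, hg, hge⟩ := Subgroup.mem_map.1 (hKtop.ge (mem_top (π i ⟨e, c.E_le i he⟩)))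
    have h1 : ((g⁻¹ * ⟨e, c.E_le i he⟩ : ↥(nJ p G)) : G) ∈ cenV p G := by
      refine (c.ker _).1 fun j => ?_
      rw [map_mul, map_inv]
      by_cases hj : j = i
      · subst hj; rw [hge, inv_mul_cancel]
      · rw [c.pi_other hg.2 hj, c.pi_other (g := ⟨e, c.E_le i he⟩) he hj, inv_one, one_mul]
    have := mul_mem hg.1 (s.data.cenV_le h1)
    simpa using this
  have hall : nJ p G ≤ M := by
    rw [← c.sup]
    refine iSup_le fun j => ?_
    obtain ⟨t, ht, htE⟩ := c.conj i j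
    rw [← htE]
    rintro _ ⟨e, he, rfl⟩
    exact mul_mem (mul_mem (s.data.le_M ht) (hEi he)) (inv_mem (s.data.le_M ht))
  exact s.data.coatom.1 (top_le_iff.1 (s.J_sup_T.ge.trans
    (sup_le (le_sup_left.trans hall) s.data.le_M)))

/-- Elements normalising `J(T)` modulo `C` lie in `C*(G,T)`. -/
theorem mem_cStar (s : Setting p T M) {g : ↥(nJ p G)}
    (h : ∀ i, π i g ∈ normalizer (R : Set K)) : (g : G) ∈ Cfsg.cStarOf p (T : Subgroup G) := by
  set D := jT p (T : Subgroup G) ⊔ cenV p G with hD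
  have hgD : (g : G) ∈ normalizer (D : Set G) := by
    rw [← inv_mem_iff]
    refine (H75.le_normalizer_of_conj ?_ : zpowers (g : G) ≤ normalizer (D : Set G))
      (inv_mem (mem_zpowers _))
    rintro x ⟨k, rfl⟩ d hd
    have hd' : d ∈ nJ p G := c.jTC_le hd
    have hxd : (g : G) ^ k * d * ((g : G) ^ k)⁻¹ =
        ((g ^ k * ⟨d, hd'⟩ * (g ^ k)⁻¹ : ↥(nJ p G)) : G) := by simp
    show (g : G) ^ k * d * ((g : G) ^ k)⁻¹ ∈ D
    rw [hxd]
    refine c.mem_jTC fun i => ?_
    rw [map_mul, map_mul, map_inv, map_zpow]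
    exact H75.conj_mem_of_mem_normalizer (zpow_mem (h i) k) (c.pi_mem (g := ⟨d, hd'⟩) hd i)
  have hC : cenV p G ≤ Cfsg.cStarOf p (T : Subgroup G) :=
    (centralizer_le (SetLike.coe_subset_coe.2 s.data.omegaT_le)).trans le_sup_left
  have hTC : (T : Subgroup G) ≤ Cfsg.cStarOf p (T : Subgroup G) := fun t ht =>
    mem_sup_left (mem_centralizer_iff.2 fun z hz =>
      (mem_centralizer_iff.1 (H80.LCSS.mem_omega.1 hz).2.1 t ht).symm)
  have hJD : jT p (T : Subgroup G) ≤ D := le_sup_left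
  have hDS : D ≤ Cfsg.cStarOf p (T : Subgroup G) :=
    sup_le ((s.jT_le_bT.trans s.bT_le_T).trans hTC) hC
  have hJT : jT p (T : Subgroup G) ≤ (T : Subgroup G) := s.jT_le_bT.trans s.bT_le_T
  obtain ⟨P, hP⟩ := ((T.isPGroup'.to_le hJT).comap_subtype (K := D)).exists_le_sylow
  have hJP : jT p (T : Subgroup G) ≤ (P : Subgroup ↥D).map D.subtype := by
    rw [← map_subgroupOf_eq_of_le hJD]
    exact map_mono hP
  obtain ⟨P₂, hP₂⟩ := (((T.isPGroup'.to_le hJT).comap_subtype (K := D)).map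
    (D.normalizerMonoidHom ⟨(g : G), hgD⟩).toMonoidHom).exists_le_sylow
  obtain ⟨d, hd⟩ := MulAction.exists_smul_eq ↥D P P₂
  have hgJ : (d : G)⁻¹ * g ∈ normalizer (jT p (T : Subgroup G) : Set G) := by
    refine mem_normalizer_iff_map_conj_eq.2 (eq_of_le_of_card_ge ?_
      (card_map_of_injective (MulAut.conj _).injective).ge)
    rw [map_le_iff_le_comap, jT, H11.thompsonSubgroupOf_eq]
    refine sSup_le fun A hA => ?_
    rw [← map_le_iff_le_comap, ← H11.thompsonSubgroupOf_eq]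
    refine maxFam_le_jT (P.isPGroup'.map D.subtype) hJP ?_ ⟨le_top,
      (H11.replProp_elem p).mapEquiv A _ hA.2.1, fun B _ hBel => ?_⟩
    · rintro _ ⟨a, ha, rfl⟩
      have haJ : a ∈ jT p (T : Subgroup G) := by
        rw [jT, H11.thompsonSubgroupOf_eq]; exact le_sSup hA ha
      have h2 : D.normalizerMonoidHom ⟨(g : G), hgD⟩ ⟨a, hJD haJ⟩ ∈ (P₂ : Subgroup ↥D) :=
        hP₂ (mem_map_of_mem _ haJ)
      rw [← hd, Sylow.coe_subgroup_smul, Subgroup.mem_pointwise_smul_iff_inv_smul_mem] at h2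
      refine ⟨_, h2, ?_⟩
      simp [MulAut.smul_def, mul_assoc]
    · rw [card_map_of_injective (MulAut.conj _).injective]
      exact (H10.maxFam_sylow T hA).2.2 B le_top hBel
  have hnorm : normalizer (jT p (T : Subgroup G) : Set G) ≤ Cfsg.cStarOf p (T : Subgroup G) := by
    refine le_trans ?_ le_sup_right
    refine le_iSup_of_le ⟨jT p (T : Subgroup G), s.jT_le_bT, ?_, jT_char s⟩ le_rfl
    exact jT_ne_bot s
  have := mul_mem (hDS d.2) (hnorm hgJ)
  rwa [mul_inv_cancel_left] at this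

end Comps

end H80.PM
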