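import Cfsg.Agent.H80.LCSS.Group
import Cfsg.Agent.H80.PU.TwoBody

/-!
The interface between the local `C**(G,T)`-theorem and the Baumann argument for `p`-minimal groups.
-/

set_option autoImplicit false
set_option linter.unusedSectionVars false

open Subgroup
open scoped commutatorElement MatrixGroups

namespace H80.PM

open H80.LCSS (modV cenV)

variable {G : Type*} [Group G] [Finite G] {p : ℕ} [Fact p.Prime]

/-- `J(T)`. -/
abbrev jT (p : ℕ) {G : Type*} [Group G] (T : Subgroup G) : Subgroup G :=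
  Cfsg.thompsonSubgroupOf p T

/-- `J(G) C_G(V)`. -/
abbrev nJ (p : ℕ) (G : Type*) [Group G] : Subgroup G :=
  Cfsg.thompsonSubgroup p G ⊔ cenV p G

/-- The fixed points of `J(T)` in `V`. -/
abbrev fixJ (p : ℕ) {G : Type*} [Group G] (T : Subgroup G) : Subgroup G :=
  modV p G ⊓ centralizer (jT p T : Set G)

/-- What the Baumann argument needs to know about the action of `J(G)` on `V`. -/
structure Frame (p : ℕ) {G : Type*} [Group G] (T : Sylow p G) (x : G) : Prop where
  cover : fixJ p (T : Subgroup G) ⊔ (fixJ p (T : Subgroup G)).map (MulAut.conj x).toMonoidHom =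
    modV p G
  x_mem : x ∈ nJ p G
  gen : nJ p G ≤ jT p (T : Subgroup G) ⊔ (jT p (T : Subgroup G)).map (MulAut.conj x).toMonoidHom ⊔
    cenV p G
  fixed : ∀ t ∈ (T : Subgroup G), t ∈ centralizer (fixJ p (T : Subgroup G) : Set G) →
    t ∈ jT p (T : Subgroup G) ⊔ cenV p G

/-- A piece: a subgroup of `J(G) C_G(V)` with a map onto `PSL₂(F)`. -/
structure Piece (p : ℕ) {G : Type*} [Group G] (T : Sylow p G) (M : Subgroup G) (F : Type) [Field F]
    [Fintype F] (P : Subgroup G) (ψ : ↥P →* Matrix.ProjectiveSpecialLinearGroup (Fin 2) F) :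
    Prop where
  le : P ≤ nJ p G
  cen_le : cenV p G ≤ P
  jT_le : jT p (T : Subgroup G) ≤ P
  surj : Function.Surjective ψ
  ker : ∀ c : ↥P, (c : G) ∈ cenV p G → ψ c = 1
  upper : ∀ s, s ∈ ((jT p (T : Subgroup G)).subgroupOf P).map ψ ↔ ∃ a, s = H39.transl a
  pgroup : ∀ R : Subgroup G, R ≤ P → IsPGroup p R → jT p (T : Subgroup G) ≤ R →
    R ≤ jT p (T : Subgroup G) ⊔ cenV p G
  out : ∀ X : Subgroup G, X ≤ P → jT p (T : Subgroup G) ≤ X → (X.subgroupOf P).map ψ = ⊤ → ¬ X ≤ M

end H80.PM
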