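import Cfsg.Agent.H80.PM.CompsBasic
import Cfsg.Agent.H78.BlockInBaumann
import Cfsg.Agent.H78.BlockCentralizer
import Cfsg.Agent.H78.BlockSubnormal
import Cfsg.Agent.H78.BlockMap
import Cfsg.Agent.H80.PM.Piece

/-!
One block in each component: the block structure of a `p`-minimal group.
-/

set_option autoImplicit false
set_option linter.unusedSectionVars false
set_option linter.style.haveILetI false

open Subgroup
open scoped commutatorElement MatrixGroups Pointwise

namespace H80.PM

open H80.LCSS (modV cenV Data)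
open H78.Block (modE facts_of_block)

variable {G : Type*} [Group G] [Finite G] {p : ℕ} [Fact p.Prime] {T : Sylow p G} {M : Subgroup G}
  {K : Type} [Group K] {R : Subgroup K} {r : ℕ} {E : Fin r → Subgroup G}
  {π : Fin r → (↥(nJ p G) →* K)}

omit [Finite G] [Fact p.Prime] in
theorem map_conj_of_mem {A : Subgroup G} {g : G} (hg : g ∈ normalizer (A : Set G)) :
    A.map (MulAut.conj g).toMonoidHom = A := mem_normalizer_iff_map_conj_eq.1 hg

omit [Finite G] [Fact p.Prime] in
theorem mem_normalizer_of_map_conj {A : Subgroup G} {g : G}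
    (hg : A.map (MulAut.conj g).toMonoidHom = A) : g ∈ normalizer (A : Set G) :=
  mem_normalizer_iff_map_conj_eq.2 hg

namespace Setting

variable (s : Setting p T M)
include s

theorem T_le_normalizer_bT :
    (T : Subgroup G) ≤ normalizer (bT p (T : Subgroup G) : Set G) :=
  H78.Block.le_normalizer_baumann T T.isPGroup' (s.bT_le_T.trans le_normalizer)

theorem T_le_cStar : (T : Subgroup G) ≤ Cfsg.cStarOf p (T : Subgroup G) := fun t ht =>
  mem_sup_left (mem_centralizer_iff.2 fun z hz =>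
    (mem_centralizer_iff.1 (H80.LCSS.mem_omega.1 hz).2.1 t ht).symm)

theorem bT_le_cStar : bT p (T : Subgroup G) ≤ Cfsg.cStarOf p (T : Subgroup G) :=
  s.bT_le_T.trans s.T_le_cStar

theorem cen_le_cStar : cenV p G ≤ Cfsg.cStarOf p (T : Subgroup G) :=
  (centralizer_le (SetLike.coe_subset_coe.2 s.data.omegaT_le)).trans le_sup_left

theorem cStar_le : Cfsg.cStarOf p (T : Subgroup G) ≤ M := by
  refine sup_le s.data.cent_le (iSup_le fun C => ?_)
  obtain ⟨hCB, hC0, hCc⟩ := C.2
  haveI := hCc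
  refine s.data.uniq _ ?_ fun h => s.nochar C.1 hCB hC0 hCc (normalizer_eq_top_iff.1 h)
  refine s.T_le_normalizer_bT.trans ((H75.normalizer_le_normalizer_map_characteristic _
    (C.1.subgroupOf (bT p (T : Subgroup G)))).trans ?_)
  rw [map_subgroupOf_eq_of_le hCB]

end Setting

/-- One block in each component. -/
structure Members (p : ℕ) {G : Type*} [Group G] [Finite G] (T : Sylow p G) (M : Subgroup G)
    {K : Type} [Group K] {r : ℕ} (E : Fin r → Subgroup G) (π : Fin r → (↥(nJ p G) →* K))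
    (St : Subgroup K) (e : Fin r → Subgroup G) : Prop where
  block : ∀ i, Cfsg.IsBaumannBlock p (T : Subgroup G) (e i)
  le : ∀ i, e i ≤ E i
  bT_norm : ∀ i, bT p (T : Subgroup G) ≤ normalizer (e i : Set G)
  gen : ∀ i, E i ≤ e i ⊔ jT p (T : Subgroup G) ⊔ cenV p G
  lower : ∀ i (g : ↥(nJ p G)), (g : G) ∈ e i → π i g ∈ St →
    (g : G) ∈ Cfsg.cStarOf p (T : Subgroup G)
  upper : ∀ i (g : ↥(nJ p G)), (g : G) ∈ M → π i g ∈ St

namespace Members

variable {St : Subgroup K} {e : Fin r → Subgroup G} (s : Setting p T M) (c : Comps p T R E π)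
  (hm : Members p T M E π St e)
include s c hm

omit c in
theorem modE_le_modV (i : Fin r) : modE p (e i) ≤ modV p G :=
  (facts_of_block (hm.block i)).mod_le_omega s.data.charp
    (H78.Block.pCore_le_normalizer (hm.block i))

omit c in
theorem modE_le (i : Fin r) : modE p (e i) ≤ ⁅modV p G, E i⁆ := by
  have hf := facts_of_block (hm.block i)
  have heN : e i ≤ normalizer (modE p (e i) : Set G) := H1.right_le_normalizer_commutator
  have heV : e i ≤ normalizer ((⁅modV p G, E i⁆ : Subgroup G) : Set G) :=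
    (hm.le i).trans H1.right_le_normalizer_commutator
  by_cases hX : modE p (e i) ⊓ ⁅modV p G, E i⁆ ≤ centralizer (e i : Set G)
  · refine absurd (fun w hw => ?_) hf.not_mod_le_centralizer
    refine mem_centralizer_iff.2 fun a ha => (hf.commute_of_fixed (a := w)
      (P := modE p (e i)) ?_ (fun b hb => ?_) (fun b hb => hX ⟨?_, ?_⟩) a ha).eq
    · exact (T.isPGroup'.to_le (s.core_le_T)).to_le ((hm.modE_le_modV s i).trans
        Setting.modV_le_core)
    · show b * w * b⁻¹ * w⁻¹ ∈ modE p (e i)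
      exact mul_mem (H75.conj_mem_of_mem_normalizer (heN hb) hw) (inv_mem hw)
    · show b * w * b⁻¹ * w⁻¹ ∈ modE p (e i)
      exact mul_mem (H75.conj_mem_of_mem_normalizer (heN hb) hw) (inv_mem hw)
    · rw [commutator_comm]
      exact commutator_mem_commutator (hm.le i hb) (hm.modE_le_modV s i hw)
  · exact (hf.mod_min (inf_le_left.trans hf.mod_le)
      ((le_inf heN heV).trans (H75.normalizer_inf_le_normalizer_inf _ _)) hX).trans inf_le_right

theorem nJ_le_normalizer (i : Fin r) : nJ p G ≤ normalizer (e i : Set G) := by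
  have hC : cenV p G ≤ normalizer (e i : Set G) :=
    (centralizer_le (SetLike.coe_subset_coe.2 (hm.modE_le_modV s i))).trans
      (H78.Block.centralizer_modE_le_normalizer s.data.charp (hm.block i))
  rw [← c.sup]
  refine iSup_le fun j => ?_
  by_cases hj : j = i
  · subst hj
    exact (hm.gen j).trans (sup_le (sup_le le_normalizer
      (s.jT_le_bT.trans (hm.bT_norm j))) hC)
  · refine le_trans ?_ (H78.Block.centralizer_modE_le_normalizer s.data.charp (hm.block i))
    refine le_trans (le_centralizer_iff.1 (commutator_eq_bot_iff_le_centralizer.1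
      (c.fix i j (Ne.symm hj)))) (centralizer_le (SetLike.coe_subset_coe.2 (hm.modE_le s i)))

theorem isSubnormal (i : Fin r) : (e i).IsSubnormal :=
  .step _ (nJ p G) ((hm.le i).trans (c.E_le i)) Setting.nJ_normal.isSubnormal
    (normal_subgroupOf_of_le_normalizer (hm.nJ_le_normalizer s c i))

theorem conj_mem (t : G) (ht : t ∈ (T : Subgroup G)) (i : Fin r) :
    ∃ j, (E i).map (MulAut.conj t).toMonoidHom = E j ∧
      (e i).map (MulAut.conj t).toMonoidHom = e j := by
  obtain ⟨j, hj⟩ := c.perm t ht i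
  refine ⟨j, hj, ?_⟩
  set f := MulAut.conj t with hf
  have hfT : (T : Subgroup G).map f.toMonoidHom = (T : Subgroup G) :=
    map_conj_of_mem (le_normalizer ht)
  have hblk : Cfsg.IsBaumannBlock p (T : Subgroup G) ((e i).map f.toMonoidHom) := by
    have := H78.Block.isBaumannBlock_map f (hm.block i)
    rwa [hfT] at this
  have hsub : ((e i).map f.toMonoidHom).IsSubnormal :=
    (hm.isSubnormal s c i).map f.surjective
  refine (H78.Block.eq_or_commute_of_subnormal s.data.charp ⟨T, hblk⟩ ⟨T, hm.block j⟩ hsub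
    (hm.isSubnormal s c j)).resolve_right fun hcom => ?_
  set e' := (e i).map f.toMonoidHom with he'
  set U := modE p e' with hU
  have hf' := facts_of_block hblk
  have hUV : U ≤ modV p G := hf'.mod_le_omega s.data.charp (H78.Block.pCore_le_normalizer hblk)
  have he'j : e' ≤ e j ⊔ jT p (T : Subgroup G) ⊔ cenV p G :=
    ((map_mono (hm.le i)).trans hj.le).trans (hm.gen j)
  have hUN : e' ≤ normalizer (U : Set G) := H1.right_le_normalizer_commutator
  have hB' : bT p (T : Subgroup G) ≤ normalizer (e' : Set G) := by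
    intro b hb
    refine mem_normalizer_of_map_conj ?_
    have hb' : t⁻¹ * b * t ∈ bT p (T : Subgroup G) := by
      have := H75.conj_mem_of_mem_normalizer (s.T_le_normalizer_bT (inv_mem ht)) hb
      simpa using this
    rw [he', hf, H78.Block.map_conj_map, show b * t = t * (t⁻¹ * b * t) by group,
      ← H78.Block.map_conj_map, map_conj_of_mem (hm.bT_norm i hb')]
  -- everything acts on `U` as a `p`-group
  set Z := centralizer (U : Set G) with hZ
  have hjN : jT p (T : Subgroup G) ≤ normalizer (Z : Set G) := by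
    refine le_trans ?_ (H75.normalizer_le_normalizer_centralizer U)
    refine (s.jT_le_bT.trans hB').trans ?_
    refine le_trans ?_ (le_of_eq rfl)
    intro g hg
    refine mem_normalizer_of_map_conj ?_
    rw [hU, modE, map_commutator, H78.Block.map_omegaOneCenter, H78.Block.map_pCoreOf,
      map_conj_of_mem hg]
  have hle : e' ≤ Z ⊔ jT p (T : Subgroup G) := by
    refine he'j.trans (sup_le (sup_le ?_ le_sup_right) ?_)
    · refine le_trans ?_ le_sup_left
      refine (le_centralizer_iff.1 (commutator_eq_bot_iff_le_centralizer.1 hcom)).trans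
        (centralizer_le (SetLike.coe_subset_coe.2 (hf'.mod_le.trans ?_)))
      exact (H78.Block.omega_le_core e').trans (H75.pCoreOf_le e')
    · exact le_trans (centralizer_le (SetLike.coe_subset_coe.2 hUV)) le_sup_left
  have hres : e' ≤ Z := by
    rw [← hf'.res]
    exact (H75.resOf_mono hle).trans (H75.resOf_le_of_sup (sup_le le_normalizer hjN)
      (T.isPGroup'.to_le (s.jT_le_bT.trans s.bT_le_T)) rfl)
  exact hf'.not_mod_le_centralizer (le_centralizer_iff.1 hres)

theorem not_le_cen (i : Fin r) : ¬ e i ≤ cenV p G := fun h =>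
  (facts_of_block (hm.block i)).not_mod_le_centralizer (le_centralizer_iff.1 (h.trans
    (centralizer_le (SetLike.coe_subset_coe.2 (hm.modE_le_modV s i)))))

theorem injective {i j : Fin r} (h : e i = e j) : i = j := by
  by_contra hne
  refine hm.not_le_cen s c i fun g hg => ?_
  have hgn : g ∈ nJ p G := c.E_le i (hm.le i hg)
  refine (c.ker ⟨g, hgn⟩).1 fun k => ?_
  by_cases hk : k = i
  · exact c.pi_other (g := ⟨g, hgn⟩) (hm.le j (h ▸ hg)) (hk ▸ hne)
  · exact c.pi_other (g := ⟨g, hgn⟩) (hm.le i hg) hk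

theorem comm {i j : Fin r} (h : i ≠ j) : ⁅e i, e j⁆ = ⊥ :=
  (H78.Block.eq_or_commute_of_subnormal s.data.charp ⟨T, hm.block i⟩ ⟨T, hm.block j⟩
    (hm.isSubnormal s c i) (hm.isSubnormal s c j)).resolve_left fun he => h (hm.injective s c he)

theorem conj_all (g : G) (i : Fin r) : ∃ j, (e i).map (MulAut.conj g).toMonoidHom = e j := by
  haveI hn : (nJ p G).Normal := Setting.nJ_normal
  obtain ⟨n, hn', t, ht, rfl⟩ := H1.exists_mul_of_mem_sup
    (le_top.trans (normalizer_eq_top_iff.2 hn).ge : (T : Subgroup G) ≤ _)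
    (show g ∈ nJ p G ⊔ (T : Subgroup G) from
      (s.J_sup_T.ge.trans (sup_le_sup_right le_sup_left _)) (mem_top g))
  obtain ⟨j, -, hj⟩ := hm.conj_mem s c t ht i
  refine ⟨j, ?_⟩
  rw [← H78.Block.map_conj_map, hj, map_conj_of_mem (hm.nJ_le_normalizer s c j hn')]

theorem sup_normal : (⨆ i, e i).Normal := by
  refine ⟨fun x hx g => ?_⟩
  have h : (⨆ i, e i).map (MulAut.conj g).toMonoidHom ≤ ⨆ i, e i := by
    rw [Subgroup.map_iSup]
    refine iSup_le fun i => ?_
    obtain ⟨j, hj⟩ := hm.conj_all s c g i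
    exact hj.le.trans (le_iSup e j)
  exact h ⟨x, hx, rfl⟩

theorem sup_top : (⨆ i, e i) ⊔ (T : Subgroup G) = ⊤ := by
  by_contra h
  haveI := hm.sup_normal s c
  have hM := s.data.uniq _ le_sup_right h
  have hnJ : nJ p G ≤ M := by
    rw [← c.sup]
    refine iSup_le fun i => (hm.gen i).trans (sup_le (sup_le ?_ ?_) s.data.cenV_le)
    · exact ((le_iSup e i).trans le_sup_left).trans hM
    · exact s.jT_le_bT.trans (s.bT_le_T.trans s.data.le_M)
  exact s.data.coatom.1 (top_le_iff.1 (s.J_sup_T.ge.trans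
    (sup_le (le_sup_left.trans hnJ) s.data.le_M)))

/-- The elements of `e_i ∩ C*(G,T)`. -/
theorem mem_cStar_iff (i : Fin r) (g : ↥(nJ p G)) (hg : (g : G) ∈ e i) :
    (g : G) ∈ Cfsg.cStarOf p (T : Subgroup G) ↔ π i g ∈ St :=
  ⟨fun h => hm.upper i g (s.cStar_le h), hm.lower i g hg⟩

theorem cStar_inf_sup : Cfsg.cStarOf p (T : Subgroup G) ⊓ (⨆ i, e i) =
    ⨆ i, (Cfsg.cStarOf p (T : Subgroup G) ⊓ e i) := by
  classical
  refine le_antisymm ?_ (iSup_le fun i => inf_le_inf_left _ (le_iSup e i))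
  have key : ∀ S : Finset (Fin r), ∀ x : ↥(nJ p G), (x : G) ∈ S.sup e →
      (∀ i ∈ S, π i x ∈ St) → (x : G) ∈ ⨆ i, (Cfsg.cStarOf p (T : Subgroup G) ⊓ e i) := by
    intro S
    induction S using Finset.induction with
    | empty =>
      intro x hx _
      rw [Finset.sup_empty, Subgroup.mem_bot] at hx
      rw [hx]; exact one_mem _
    | insert a S ha ih =>
      intro x hx hSt
      rw [Finset.sup_insert] at hx
      have hSnJ : S.sup e ≤ nJ p G := Finset.sup_le fun j _ => (hm.le j).trans (c.E_le j)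
      obtain ⟨y, hy, z, hz, hxyz⟩ := H1.exists_mul_of_mem_sup
        (hSnJ.trans (hm.nJ_le_normalizer s c a)) hx
      have hyn : y ∈ nJ p G := c.E_le a (hm.le a hy)
      have hx' : x = ⟨y, hyn⟩ * ⟨z, hSnJ hz⟩ := Subtype.ext hxyz
      have hza : π a ⟨z, hSnJ hz⟩ = 1 := by
        have hle : S.sup e ≤ ((π a).ker).map (nJ p G).subtype := Finset.sup_le fun j hj g hg =>
          ⟨⟨g, c.E_le j (hm.le j hg)⟩,
            c.pi_other (g := ⟨g, c.E_le j (hm.le j hg)⟩) (hm.le j hg)
              (fun h => ha (h ▸ hj)), rfl⟩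
        obtain ⟨z', hz', hzz⟩ := hle hz
        obtain rfl : z' = ⟨z, hSnJ hz⟩ := Subtype.ext hzz
        exact hz'
      have hya : π a ⟨y, hyn⟩ ∈ St := by
        have := hSt a (Finset.mem_insert_self a S)
        rwa [hx', map_mul, hza, mul_one] at this
      rw [hxyz]
      refine mul_mem (mem_iSup_of_mem a ⟨(hm.mem_cStar_iff s c a ⟨y, hyn⟩ hy).2 hya, hy⟩)
        (ih ⟨z, hSnJ hz⟩ hz fun i hi => ?_)
      have := hSt i (Finset.mem_insert_of_mem hi)
      rwa [hx', map_mul, c.pi_other (g := ⟨y, hyn⟩) (hm.le a hy)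
        (fun h => ha (h ▸ hi)), one_mul] at this
  intro x hx
  have hxn : x ∈ nJ p G := (iSup_le fun i => (hm.le i).trans (c.E_le i)) hx.2
  exact key Finset.univ ⟨x, hxn⟩ (by rw [Finset.sup_univ_eq_iSup]; exact hx.2)
    fun i _ => hm.upper i ⟨x, hxn⟩ (s.cStar_le hx.1)

theorem block_in_member {F : Subgroup G} (hF : Cfsg.IsBaumannBlock p (T : Subgroup G) F) :
    ∃ i, F ≤ e i := by
  by_contra hno
  push Not at hno
  have hf := facts_of_block hF
  haveI := hm.sup_normal s c
  set N := ⨆ i, e i with hN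
  have hFN : F ≤ N := by
    rw [← hf.res]
    exact (H75.resOf_mono le_top).trans (H75.resOf_le_of_sup
      (le_top.trans (normalizer_eq_top_iff.2 inferInstance).ge) T.isPGroup' (hm.sup_top s c))
  have hFC : F ≤ centralizer (N : Set G) := le_centralizer_iff.1 (iSup_le fun i => by
    have := (H78.Block.le_or_commute s.data.charp (hm.block i) (hm.isSubnormal s c i) hF
      ).resolve_left (hno i)
    exact le_centralizer_iff.1 (commutator_eq_bot_iff_le_centralizer.1 this))
  have hbot : F = ⊥ := by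
    rw [← hf.res, eq_bot_iff]
    refine (closure_le _).2 fun y hy => ?_
    obtain ⟨hyF, hyo⟩ := hy
    have hyQ : y ∈ centralizer (Cfsg.pCore p G : Set G) := by
      refine mem_centralizer_iff.2 fun q hq => (comm_eq_of_coprime (p := p)
        (H1.isPGroup_pCore p G) hyo ?_ ?_).symm
      · exact mul_mem ((H1.pCore_normal' p G).conj_mem q hq _) (inv_mem hq)
      · haveI : (centralizer (N : Set G)).Normal := Subgroup.normal_centralizer ..
        have hz : y * q * y⁻¹ * q⁻¹ ∈ N := by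
          rw [show y * q * y⁻¹ * q⁻¹ = y * (q * y⁻¹ * q⁻¹) by group]
          exact mul_mem (hFN hyF) (Normal.conj_mem inferInstance _ (inv_mem (hFN hyF)) q)
        exact (mem_centralizer_iff.1 (hFC hyF) _ hz).symm
    obtain ⟨k, hk⟩ := H1.isPGroup_pCore p G ⟨y, s.data.charp hyQ⟩
    exact orderOf_eq_one_iff.1 (Nat.eq_one_of_dvd_coprimes (hyo.pow_right k) dvd_rfl
      (orderOf_dvd_of_pow_eq_one (by simpa using congrArg Subtype.val hk)))
  exact hf.omega (by rw [hbot, commutator_bot_left])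

/-- The block structure. -/
theorem structure_of_clauses
    (hcl : ∀ i,
      (∃ (F : Type) (_ : Field F) (_ : Fintype F) (m : ℕ), 3 < p ^ m ∧ Fintype.card F = p ^ m ∧
          Nonempty (↥(e i) ⧸ Cfsg.pCore p ↥(e i) ≃* Matrix.SpecialLinearGroup (Fin 2) F) ∧
          Cfsg.cStarOf p (T : Subgroup G) ⊓ e i =
            e i ⊓ normalizer (((T : Subgroup G) ⊓ e i : Subgroup G) : Set G)) ∨
      (p = 2 ∧ ∃ m : ℕ,
          Nonempty (↥(e i) ⧸ Cfsg.pCore p ↥(e i) ≃* ↥(alternatingGroup (Fin (2 * m + 1)))) ∧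
          Nonempty (↥(((Cfsg.cStarOf p (T : Subgroup G) ⊓ e i).subgroupOf (e i)).map
            (QuotientGroup.mk' (Cfsg.pCore p ↥(e i)))) ≃* ↥(alternatingGroup (Fin (2 * m))))) ∨
      (p = 3 ∧
          Nonempty (↥(e i) ⧸ Cfsg.pCore p ↥(e i) ≃*
            ↥(commutator (Matrix.SpecialLinearGroup (Fin 2) (ZMod 3)))) ∧
          ((Cfsg.cStarOf p (T : Subgroup G) ⊓ e i).subgroupOf (e i)).map
            (QuotientGroup.mk' (Cfsg.pCore p ↥(e i))) =
              Subgroup.center (↥(e i) ⧸ Cfsg.pCore p ↥(e i))))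
    (halt : ∀ i, ∀ m : ℕ,
      Nonempty (↥(e i) ⧸ Cfsg.pCore p ↥(e i) ≃* ↥(alternatingGroup (Fin (2 * m + 1)))) →
        ∃ n : ℕ, 2 * m + 1 = 2 ^ n + 1) :
    ∃ 𝓑 : Set (Subgroup G), Cfsg.HasBaumannBlockStructure p (T : Subgroup G) 𝓑 ∧
      (∀ E ∈ 𝓑, ∀ m : ℕ, Nonempty (↥E ⧸ Cfsg.pCore p ↥E ≃* ↥(alternatingGroup (Fin (2 * m + 1)))) →
        ∃ n : ℕ, 2 * m + 1 = 2 ^ n + 1) ∧
      Cfsg.cStarOf p (T : Subgroup G) =
        (Cfsg.cStarOf p (T : Subgroup G) ⊓ sSup 𝓑) ⊔ (T : Subgroup G) := by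
  refine ⟨Set.range e, ⟨?_, ?_, ?_, ?_, ?_, ?_, ?_⟩, ?_, ?_⟩
  · rintro _ ⟨i, rfl⟩
    exact hm.block i
  · rintro _ ⟨i, rfl⟩ g
    obtain ⟨j, hj⟩ := hm.conj_all s c g i
    exact ⟨j, hj.symm⟩
  · rintro _ ⟨i, rfl⟩ _ ⟨j, rfl⟩ hne
    exact hm.comm s c fun h => hne (congrArg e h)
  · rw [sSup_range]
    exact top_le_iff.1 ((hm.sup_top s c).ge.trans (sup_le le_sup_right
      (s.T_le_cStar.trans le_sup_left)))
  · intro F hF _
    obtain ⟨i, hi⟩ := hm.block_in_member s c hF
    exact ⟨e i, ⟨i, rfl⟩, hi⟩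
  · rw [sSup_range, hm.cStar_inf_sup s c, iSup_range]
  · rintro _ ⟨i, rfl⟩
    exact hcl i
  · rintro _ ⟨i, rfl⟩
    exact halt i
  · rw [sSup_range]
    haveI := hm.sup_normal s c
    refine le_antisymm (fun g hg => ?_) (sup_le inf_le_left s.T_le_cStar)
    obtain ⟨n, hn, t, ht, rfl⟩ := H1.exists_mul_of_mem_sup
      (le_top.trans (normalizer_eq_top_iff.2 (hm.sup_normal s c)).ge : (T : Subgroup G) ≤ _)
      (show g ∈ (⨆ i, e i) ⊔ (T : Subgroup G) by rw [hm.sup_top s c]; exact mem_top g)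
    refine mul_mem (mem_sup_left ⟨?_, hn⟩) (mem_sup_right ht)
    have := mul_mem hg (inv_mem (s.T_le_cStar ht))
    rwa [mul_inv_cancel_right] at this

end Members

end H80.PM
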