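import Cfsg.Agent.H80.PM.Global
import Cfsg.Agent.H80.PM.SL2Facts

/-!
Linear components: blocks and the clauses of the block structure.
-/

set_option autoImplicit false
set_option linter.unusedSectionVars false
set_option linter.style.haveILetI false

open Subgroup
open scoped commutatorElement MatrixGroups Pointwise

namespace H80.PM

open H80.LCSS (modV cenV Data)
open H78.Block (modE facts_of_block)
open SL2F

variable {G : Type*} [Group G] [Finite G] {p : ℕ} [Fact p.Prime] {T : Sylow p G} {M : Subgroup G}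
  {F : Type} [Field F] [Fintype F] {n r : ℕ} {E : Fin r → Subgroup G}
  {π : Fin r → (↥(nJ p G) →* SL(2, F))}

/-- The piece of the `i`-th component. -/
def linPiece (π : Fin r → (↥(nJ p G) →* SL(2, F))) (i : Fin r) : Subgroup G :=
  (⨅ (j) (_ : j ≠ i), (upperSub F).comap (π j)).map (nJ p G).subtype

theorem linPiece_le (i : Fin r) : linPiece π i ≤ nJ p G := map_subtype_le _

theorem mem_linPiece {i : Fin r} {g : ↥(nJ p G)} :
    (g : G) ∈ linPiece π i ↔ ∀ j, j ≠ i → π j g ∈ upperSub F := by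
  simp [linPiece, Subgroup.mem_map, Subgroup.mem_iInf]

/-- The map of a piece to `PSL₂`. -/
noncomputable def linMap (π : Fin r → (↥(nJ p G) →* SL(2, F))) (i : Fin r) :
    ↥(linPiece π i) →* Matrix.ProjectiveSpecialLinearGroup (Fin 2) F :=
  H39.proj.comp ((π i).comp (inclusion (linPiece_le i)))

theorem linMap_apply (i : Fin r) (g : ↥(linPiece π i)) :
    linMap π i g = H39.proj (π i ⟨g, linPiece_le i g.2⟩) := rfl

namespace Lin

variable (s : Setting p T M) (c : Comps p T (upperSub F) E π) (hF : Fintype.card F = p ^ n)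
include s c hF

theorem charP : CharP F p := charP_of_card_eq_prime_pow hF

theorem pieceData (i : Fin r) : Piece p T M F (linPiece π i) (linMap π i) := by
  haveI := charP s c hF
  have hU : normalClosure (upperSub F : Set SL(2, F)) = ⊤ := upper_normalClosure
  refine ⟨linPiece_le i, fun g hg => ?_, fun g hg => ?_, ?_, fun g hg => ?_, fun t => ?_,
    fun R hRP hR hjR g hg => ?_, fun X hXP _ himg hXM => c.not_top s hU hXM i ?_⟩
  · exact (mem_linPiece (g := ⟨g, cen_le_nJ hg⟩)).2 fun j _ => by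
      rw [c.pi_cen (g := ⟨g, cen_le_nJ hg⟩) hg]; exact one_mem _
  · exact (mem_linPiece (g := ⟨g, c.jT_le hg⟩)).2 fun j _ => c.jT_mem j ⟨g, c.jT_le hg⟩ hg
  · intro σ
    obtain ⟨k, rfl⟩ := H39.proj_surjective σ
    obtain ⟨g, hg, hgk⟩ := c.surj i k
    refine ⟨⟨g, mem_linPiece.2 fun j hj => by rw [c.pi_other hg hj]; exact one_mem _⟩, ?_⟩
    rw [linMap_apply, ← hgk]
  · rw [linMap_apply, c.pi_cen (g := ⟨(g : G), linPiece_le i g.2⟩) hg, map_one]
  · constructor
    · rintro ⟨g, hg, rfl⟩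
      obtain ⟨a, ha⟩ := mem_upper.1 (c.jT_mem i ⟨g, linPiece_le i g.2⟩ hg)
      exact ⟨a, by rw [linMap_apply, ha, proj_uu]⟩
    · rintro ⟨a, rfl⟩
      obtain ⟨u, hu, -, hua⟩ := c.exists_root i (mem_upper.2 ⟨a, rfl⟩ : H98.uu a ∈ upperSub F)
      refine ⟨⟨u, mem_linPiece.2 fun j _ => c.jT_mem j u hu⟩, hu, ?_⟩
      rw [linMap_apply, ← proj_uu, ← hua]
  · set R' := (R.subgroupOf (nJ p G)).map (π i) with hR'
    have h1 : IsPGroup p R' := (hR.comap_subtype).map _
    have h2 : upperSub F ≤ R' := fun a ha => by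
      obtain ⟨u, hu, -, hua⟩ := c.exists_root i ha
      exact ⟨u, hjR hu, hua⟩
    have hgn : g ∈ nJ p G := linPiece_le i (hRP hg)
    refine c.mem_jTC (g := ⟨g, hgn⟩) fun j => ?_
    by_cases hj : j = i
    · subst hj
      rw [← upper_maximal h1 h2]
      exact ⟨⟨g, hgn⟩, hg, rfl⟩
    · exact (mem_linPiece (g := ⟨g, hgn⟩)).1 (hRP hg) j hj
  · refine eq_top_of_proj (eq_top_iff.2 fun σ _ => ?_)
    obtain ⟨g, hg, rfl⟩ := himg.ge (mem_top σ)
    exact ⟨π i ⟨g, linPiece_le i g.2⟩, ⟨⟨g, linPiece_le i g.2⟩, hg, rfl⟩, rfl⟩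

theorem exists_family {x : G} (fr : Frame p T x) : ∃ e : Fin r → Subgroup G,
    (∀ i, H80.PU.LinBody p F n (e i) (bT p (T : Subgroup G))) ∧
      Members p T M E π (normalizer (upperSub F : Set SL(2, F))) e := by
  haveI := charP s c hF
  choose X e hb using fun i => s.exists_block fr hF (pieceData s c hF i)
  have hle : ∀ i, e i ≤ E i := by
    intro i
    rw [← (hb i).res]
    refine (closure_le _).2 fun g hg => ?_
    obtain ⟨hgX, hgo⟩ := hg
    have hgP : g ∈ linPiece π i := ((hb i).le hgX).2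
    refine (c.mem_iff i ⟨g, linPiece_le i hgP⟩).2 fun j hj => ?_
    have hu := (mem_linPiece (g := ⟨g, linPiece_le i hgP⟩)).1 hgP j hj
    obtain ⟨k, hk⟩ := (upper_pgroup (F := F) (p := p)) ⟨_, hu⟩
    refine orderOf_eq_one_iff.1 (Nat.eq_one_of_dvd_coprimes (hgo.pow_right k)
      ((orderOf_map_dvd (π j) _).trans (dvd_of_eq (Subgroup.orderOf_mk _ _))) ?_)
    exact orderOf_dvd_of_pow_eq_one (by simpa using congrArg Subtype.val hk)
  refine ⟨e, fun i => (hb i).body, fun i => (hb i).block, hle, fun i => ?_, fun i g hg => ?_,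
    fun i g hg hgi => ?_, fun i g hg => ?_⟩
  · rw [← (hb i).res]
    exact (hb i).bT_le.trans (le_normalizer.trans (H75.normalizer_le_normalizer_resOf _))
  · -- generation
    have hgn : g ∈ nJ p G := c.E_le i hg
    obtain ⟨y, hy, hyσ⟩ := (hb i).surj.ge (mem_top (H39.proj (π i ⟨g, hgn⟩)))
    have htop : ((X i).subgroupOf (nJ p G)).map (π i) = ⊤ := by
      refine eq_top_of_proj (eq_top_iff.2 fun σ _ => ?_)
      obtain ⟨z, hz, rfl⟩ := (hb i).surj.ge (mem_top σ)
      exact ⟨π i ⟨z, linPiece_le i z.2⟩, ⟨⟨z, linPiece_le i z.2⟩, hz, rfl⟩, rfl⟩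
    obtain ⟨z, hz, hzg⟩ := htop.ge (mem_top (π i ⟨g, hgn⟩))
    have hzX : (z : G) ∈ X i := hz
    have hrest : ((z⁻¹ * ⟨g, hgn⟩ : ↥(nJ p G)) : G) ∈ jT p (T : Subgroup G) ⊔ cenV p G := by
      refine c.mem_jTC fun j => ?_
      rw [map_mul, map_inv]
      by_cases hj : j = i
      · subst hj; rw [hzg, inv_mul_cancel]; exact one_mem _
      · rw [c.pi_other (g := ⟨g, hgn⟩) hg hj, mul_one, inv_mem_iff]
        exact (mem_linPiece (g := z)).1 ((hb i).le hzX).2 j hj
    have hXle : X i ≤ e i ⊔ jT p (T : Subgroup G) ⊔ cenV p G := by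
      rw [← (hb i).sup]
      exact sup_le (le_sup_left.trans le_sup_left)
        ((s.bT_le fr).trans (sup_le (le_sup_right.trans le_sup_left) le_sup_right))
    have := mul_mem (hXle hzX)
      ((sup_le (le_sup_right.trans le_sup_left) le_sup_right :
        jT p (T : Subgroup G) ⊔ cenV p G ≤ e i ⊔ jT p (T : Subgroup G) ⊔ cenV p G) hrest)
    simpa using this
  · refine c.mem_cStar s fun j => ?_
    by_cases hj : j = i
    · subst hj; exact hgi
    · rw [c.pi_other (hle i hg) hj]; exact one_mem _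
  · by_contra hn
    refine c.not_top s (upper_normalClosure (F := F)) le_rfl i
      (eq_top_of_not_le (fun a ha => ?_) fun h => hn (h ⟨g, hg, rfl⟩))
    obtain ⟨u, hu, -, rfl⟩ := c.exists_root i ha
    exact ⟨u, (s.jT_le_bT.trans (s.bT_le_T.trans s.data.le_M)) hu, rfl⟩

variable {e : Fin r → Subgroup G} (hm : Members p T M E π (normalizer (upperSub F : Set SL(2, F))) e)
  (hbody : ∀ i, H80.PU.LinBody p F n (e i) (bT p (T : Subgroup G)))
include hm hbody

/-- The coordinate of `e_i`. -/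
noncomputable def theta (i : Fin r) : ↥(e i) →* SL(2, F) :=
  (π i).comp (inclusion ((hm.le i).trans (c.E_le i)))

omit s hF hbody in
theorem theta_apply (i : Fin r) (g : ↥(e i)) :
    theta c hm i g = π i ⟨g, c.E_le i (hm.le i g.2)⟩ := rfl

theorem theta_ker (i : Fin r) : (theta c hm i).ker = Cfsg.pCore p ↥(e i) := by
  haveI := H1.pCore_normal' p ↥(e i)
  have hf := facts_of_block (hm.block i)
  obtain ⟨-, -, -, ⟨iso⟩, hact, -⟩ := hbody i
  obtain ⟨-, -, ρ, ψ, hρ, hψ, hker, hact⟩ := hact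
  set W := Cfsg.omegaOneCenter p (Cfsg.pCoreOf p (e i)) with hW
  have hfix : ∀ g : ↥(e i), (g : G) ∈ centralizer (W : Set G) → ρ g = 1 := by
    intro g hg
    have hv : ∀ v : Fin 2 → F, (ρ g : Matrix (Fin 2) (Fin 2) F).mulVec v = v := by
      intro v
      obtain ⟨u, hu⟩ := hψ (Multiplicative.ofAdd v)
      obtain ⟨w, hw, hwe⟩ := hact g u
      have hwu : w = u := Subtype.ext (by
        rw [hw, ← mem_centralizer_iff.1 hg u u.2, mul_inv_cancel_right])
      rw [hwu, hu] at hwe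
      exact hwe.symm
    exact Subtype.ext (Matrix.ext_of_mulVec_single fun j => by
      rw [hv, Matrix.SpecialLinearGroup.coe_one, Matrix.one_mulVec])
  have hρker : ρ.ker = Cfsg.pCore p ↥(e i) := by
    refine (eq_of_le_of_card_ge (fun g hg => hfix g (mem_centralizer_iff.2 fun w hw =>
      ((H78.Block.omega_comm (E := e i) ⟨g, hg, rfl⟩ hw).eq).symm)) ?_).symm
    have h1 := card_mul_index ρ.ker
    rw [index_ker, hρ] at h1
    have h2 := card_mul_index (Cfsg.pCore p ↥(e i))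
    rw [index_eq_card, Nat.card_congr iso.toEquiv] at h2
    exact (Nat.eq_of_mul_eq_mul_right Nat.card_pos (h1.trans h2.symm)).le
  apply le_antisymm
  · intro g hg
    rw [← hρker]
    refine hfix g ?_
    have hgC : (g : G) ∈ cenV p G := (c.ker ⟨g, c.E_le i (hm.le i g.2)⟩).1 fun j => by
      by_cases hj : j = i
      · subst hj; exact hg
      · exact c.pi_other (g := ⟨g, c.E_le i (hm.le i g.2)⟩) (hm.le i g.2) hj
    refine mem_centralizer_iff.2 fun w hw => ?_
    rw [SetLike.mem_coe, hW, ← hf.mod_sup] at hw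
    refine (?_ : modE p (e i) ⊔ (W ⊓ centralizer (e i : Set G)) ≤
      centralizer ({(g : G)} : Set G)) hw |> fun h => mem_centralizer_singleton_iff.1 h
    refine sup_le (fun v hv => mem_centralizer_singleton_iff.2
      (mem_centralizer_iff.1 hgC v (hm.modE_le_modV s i hv)))
      fun v hv => mem_centralizer_singleton_iff.2 ((mem_centralizer_iff.1 hv.2 g g.2).symm)
  · intro g hg
    refine c.pi_cen (g := ⟨g, c.E_le i (hm.le i g.2)⟩) ?_ i
    exact s.data.core_le_cenV (H75.pCoreOf_le_of_subnormal (hm.isSubnormal s c i)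
      (show (g : G) ∈ Cfsg.pCoreOf p (e i) from ⟨g, hg, rfl⟩))

theorem theta_range (i : Fin r) : (theta c hm i).range = commutator SL(2, F) := by
  haveI := charP s c hF
  refine eq_commutator ?_ ?_ ?_
  · refine H75.le_normalizer_of_conj fun a ha k hk => ?_
    obtain ⟨u, hu, -, rfl⟩ := c.exists_root i ha
    obtain ⟨g, rfl⟩ := hk
    refine ⟨⟨_, H75.conj_mem_of_mem_normalizer (hm.nJ_le_normalizer s c i u.2) g.2⟩, ?_⟩
    rw [theta_apply, theta_apply, ← map_inv, ← map_mul, ← map_mul]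
    rfl
  · refine eq_top_iff.2 fun k _ => ?_
    obtain ⟨g, hg, rfl⟩ := c.surj i k
    have hle : e i ⊔ jT p (T : Subgroup G) ⊔ cenV p G ≤
        (((theta c hm i).range ⊔ upperSub F).comap (π i)).map (nJ p G).subtype := by
      refine sup_le (sup_le (fun a ha => ?_) fun a ha => ?_) fun a ha => ?_
      · exact ⟨⟨a, c.E_le i (hm.le i ha)⟩, mem_sup_left ⟨⟨a, ha⟩, rfl⟩, rfl⟩
      · exact ⟨⟨a, c.jT_le ha⟩, mem_sup_right (c.jT_mem i ⟨a, c.jT_le ha⟩ ha), rfl⟩
      · refine ⟨⟨a, cen_le_nJ ha⟩, ?_, rfl⟩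
        rw [SetLike.mem_coe, Subgroup.mem_comap, c.pi_cen (g := ⟨a, cen_le_nJ ha⟩) ha]; exact one_mem _
    obtain ⟨g', hg', hgg⟩ := hle (hm.gen i hg)
    obtain rfl : g' = g := Subtype.ext hgg
    exact hg'
  · have hres := (facts_of_block (hm.block i)).res
    rintro _ ⟨g, rfl⟩
    have hle : e i ≤ (((commutator SL(2, F)).comap (theta c hm i))).map (e i).subtype := by
      conv_lhs => rw [← hres]
      refine (closure_le _).2 fun a ha => ⟨⟨a, ha.1⟩, coprime_mem_commutator (p := p) ?_, rfl⟩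
      exact ha.2.coprime_dvd_left ((orderOf_map_dvd _ _).trans (dvd_of_eq (Subgroup.orderOf_mk _ _)))
    obtain ⟨g', hg', hgg⟩ := hle g.2
    obtain rfl : g' = g := Subtype.ext hgg
    exact hg'

/-- `e_i / O_p(e_i)` is the derived group of `SL₂(F)`, through the coordinate. -/
theorem exists_iso (i : Fin r) : ∃ φ : ↥(e i) ⧸ Cfsg.pCore p ↥(e i) ≃* ↥(commutator SL(2, F)),
    ∀ g : ↥(e i), (φ (QuotientGroup.mk g) : SL(2, F)) = theta c hm i g := by
  haveI := H1.pCore_normal' p ↥(e i)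
  refine ⟨(QuotientGroup.quotientMulEquivOfEq (theta_ker s c hF hm hbody i).symm).trans
    ((QuotientGroup.quotientKerEquivRange _).trans
      (MulEquiv.subgroupCongr (theta_range s c hF hm hbody i))), fun g => rfl⟩

theorem mem_inf_iff (i : Fin r) (g : ↥(e i)) :
    (g : G) ∈ Cfsg.cStarOf p (T : Subgroup G) ⊓ e i ↔
      theta c hm i g ∈ normalizer (upperSub F : Set SL(2, F)) :=
  ⟨fun h => (hm.mem_cStar_iff s c i ⟨g, c.E_le i (hm.le i g.2)⟩ g.2).1 h.1,
    fun h => ⟨(hm.mem_cStar_iff s c i ⟨g, c.E_le i (hm.le i g.2)⟩ g.2).2 h, g.2⟩⟩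

theorem sylow_eq (i : Fin r) (g : ↥(e i)) :
    (g : G) ∈ (T : Subgroup G) ↔ theta c hm i g ∈ upperSub F := by
  haveI := charP s c hF
  have hJT : jT p (T : Subgroup G) ≤ (T : Subgroup G) := s.jT_le_bT.trans s.bT_le_T
  constructor
  · intro hg
    have h1 : IsPGroup p (((T : Subgroup G).subgroupOf (nJ p G)).map (π i)) :=
      (T.isPGroup'.comap_subtype).map _
    have h2 : upperSub F ≤ ((T : Subgroup G).subgroupOf (nJ p G)).map (π i) := fun a ha => by
      obtain ⟨u, hu, -, hua⟩ := c.exists_root i ha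
      exact ⟨u, hJT hu, hua⟩
    rw [← upper_maximal h1 h2]
    exact ⟨⟨g, c.E_le i (hm.le i g.2)⟩, hg, rfl⟩
  · intro hg
    haveI := (Data.cenV_normal : (cenV p G).Normal)
    set D := jT p (T : Subgroup G) ⊔ cenV p G with hD
    set R := ((upperSub F).comap (theta c hm i)).map (e i).subtype with hR
    have hRD : R ≤ D := by
      rintro _ ⟨a, ha, rfl⟩
      refine c.mem_jTC (g := ⟨a, c.E_le i (hm.le i a.2)⟩) fun j => ?_
      by_cases hj : j = i
      · subst hj; exact ha
      · rw [c.pi_other (g := ⟨a, c.E_le i (hm.le i a.2)⟩) (hm.le i a.2) hj]; exact one_mem _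
    have hRp : IsPGroup p R := by
      refine IsPGroup.map (IsPGroup.comap_of_ker_isPGroup upper_pgroup _ ?_) _
      rw [theta_ker s c hF hm hbody i]
      exact H1.isPGroup_pCore p _
    have hDR : D ≤ normalizer (R : Set G) := by
      refine H75.le_normalizer_of_conj fun d hd a ha => ?_
      have hae : a ∈ e i := map_subtype_le _ ha
      have hdn : d ∈ nJ p G := c.jTC_le hd
      have hce := H75.conj_mem_of_mem_normalizer (hm.nJ_le_normalizer s c i hdn) hae
      refine ⟨⟨_, hce⟩, ?_, rfl⟩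
      obtain ⟨a', ha', rfl⟩ := ha
      show π i ⟨d * a' * d⁻¹, _⟩ ∈ upperSub F
      rw [show (⟨d * a' * d⁻¹, _⟩ : ↥(nJ p G)) =
        ⟨d, hdn⟩ * ⟨a', c.E_le i (hm.le i a'.2)⟩ * ⟨d, hdn⟩⁻¹ from Subtype.ext rfl, map_mul,
        map_mul, map_inv]
      exact mul_mem (mul_mem (c.pi_mem (g := ⟨d, hdn⟩) hd i) ha')
        (inv_mem (c.pi_mem (g := ⟨d, hdn⟩) hd i))
    have hTD : (T : Subgroup G) ≤ normalizer (D : Set G) := by
      refine (le_inf ?_ ?_).trans (H75.normalizer_inf_le_normalizer_sup _ _)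
      · exact le_normalizer.trans (H1.normalizer_le_normalizer_thompsonSubgroupOf p (T : Subgroup G))
      · exact le_top.trans (normalizer_eq_top_iff.2 inferInstance).ge
    obtain ⟨P, hP⟩ := H75.exists_sylow_inf_of_normalized T (K := (T : Subgroup G) ⊔ D) (C := D)
      le_sup_left le_sup_right (sup_le hTD le_normalizer)
    have hPR : IsPGroup p ↥(R ⊔ ((T : Subgroup G) ⊓ D)) :=
      hRp.to_sup_of_normal_left' (T.isPGroup'.to_le inf_le_left) (inf_le_right.trans hDR)
    have h3 := P.is_maximal' (hPR.comap_subtype (K := D)) (by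
      rw [hP]; exact fun a ha => mem_sup_right ha)
    have h4 : (⟨g, hRD ⟨g, hg, rfl⟩⟩ : ↥D) ∈ (P : Subgroup ↥D) :=
      h3 ▸ (mem_sup_left ⟨g, hg, rfl⟩ : (g : G) ∈ R ⊔ ((T : Subgroup G) ⊓ D))
    rw [hP] at h4
    exact h4.1

theorem clause (i : Fin r) :
    (∃ (F : Type) (_ : Field F) (_ : Fintype F) (m : ℕ), 3 < p ^ m ∧ Fintype.card F = p ^ m ∧
        Nonempty (↥(e i) ⧸ Cfsg.pCore p ↥(e i) ≃* Matrix.SpecialLinearGroup (Fin 2) F) ∧
        Cfsg.cStarOf p (T : Subgroup G) ⊓ e i =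
          e i ⊓ normalizer (((T : Subgroup G) ⊓ e i : Subgroup G) : Set G)) ∨
    (p = 2 ∧ ∃ m : ℕ,
        Nonempty (↥(e i) ⧸ Cfsg.pCore p ↥(e i) ≃* ↥(alternatingGroup (Fin (2 * m + 1)))) ∧
        Nonempty (↥(((Cfsg.cStarOf p (T : Subgroup G) ⊓ e i).subgroupOf (e i)).map
          (QuotientGroup.mk' (Cfsg.pCore p ↥(e i)))) ≃* ↥(alternatingGroup (Fin (2 * m))))) ∨
    (p = 3 ∧
        Nonempty (↥(e i) ⧸ Cfsg.pCore p ↥(e i) ≃*
          ↥(commutator (Matrix.SpecialLinearGroup (Fin 2) (ZMod 3)))) ∧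
        ((Cfsg.cStarOf p (T : Subgroup G) ⊓ e i).subgroupOf (e i)).map
          (QuotientGroup.mk' (Cfsg.pCore p ↥(e i))) =
            Subgroup.center (↥(e i) ⧸ Cfsg.pCore p ↥(e i))) := by
  classical
  haveI := charP s c hF
  haveI := H1.pCore_normal' p ↥(e i)
  obtain ⟨φ, hφ⟩ := exists_iso s c hF hm hbody i
  have hiff := mem_inf_iff s c hF hm hbody i
  rcases Nat.lt_or_ge 3 (Fintype.card F) with h4 | h3
  · -- `q > 3`
    have htop := H39.SL2_perfect' (F := F) h4
    refine Or.inl ⟨F, inferInstance, inferInstance, n, hF ▸ h4, hF,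
      ⟨φ.trans ((MulEquiv.subgroupCongr htop).trans Subgroup.topEquiv)⟩, ?_⟩
    have hsurj : Function.Surjective (theta c hm i) := MonoidHom.range_eq_top.1
      ((theta_range s c hF hm hbody i).trans htop)
    ext g
    constructor
    · intro hg
      refine ⟨hg.2, ?_⟩
      refine mem_normalizer_iff.2 fun a => ?_
      have hN := (hiff ⟨g, hg.2⟩).1 hg
      constructor
      · rintro ⟨haT, hae⟩
        have hce : g * a * g⁻¹ ∈ e i := mul_mem (mul_mem hg.2 hae) (inv_mem hg.2)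
        refine ⟨(sylow_eq s c hF hm hbody i ⟨_, hce⟩).2 ?_, hce⟩
        rw [show (⟨g * a * g⁻¹, hce⟩ : ↥(e i)) = ⟨g, hg.2⟩ * ⟨a, hae⟩ * ⟨g, hg.2⟩⁻¹ from
          Subtype.ext rfl, map_mul, map_mul, map_inv]
        exact H75.conj_mem_of_mem_normalizer hN ((sylow_eq s c hF hm hbody i ⟨a, hae⟩).1 haT)
      · rintro ⟨haT, hce⟩
        have hae : a ∈ e i := by
          have hge : g ∈ e i := hg.2
          have hce' : g * a * g⁻¹ ∈ e i := hce
          simpa [mul_assoc] using mul_mem (mul_mem (inv_mem hge) hce') hge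
        refine ⟨(sylow_eq s c hF hm hbody i ⟨a, hae⟩).2 ?_, hae⟩
        have h1 := (sylow_eq s c hF hm hbody i ⟨_, hce⟩).1 haT
        rw [show (⟨g * a * g⁻¹, hce⟩ : ↥(e i)) = ⟨g, hg.2⟩ * ⟨a, hae⟩ * ⟨g, hg.2⟩⁻¹ from
          Subtype.ext rfl, map_mul, map_mul, map_inv] at h1
        exact (mem_normalizer_iff.1 hN _).2 h1
    · rintro ⟨hge, hgN⟩
      refine (hiff ⟨g, hge⟩).2 (mem_normalizer_iff_map_conj_eq.2 (eq_of_le_of_card_ge ?_
        (card_map_of_injective (MulAut.conj _).injective).ge))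
      rintro _ ⟨σ, hσ, rfl⟩
      obtain ⟨a, rfl⟩ := hsurj σ
      have h1 := H75.conj_mem_of_mem_normalizer hgN
        (⟨(sylow_eq s c hF hm hbody i a).2 hσ, a.2⟩ : (a : G) ∈ (T : Subgroup G) ⊓ e i)
      have h2 := (sylow_eq s c hF hm hbody i ⟨_, h1.2⟩).1 h1.1
      rw [show (⟨g * a * g⁻¹, h1.2⟩ : ↥(e i)) = ⟨g, hge⟩ * a * ⟨g, hge⟩⁻¹ from
        Subtype.ext rfl, map_mul, map_mul, map_inv] at h2
      exact h2
  · have hn1 : 1 ≤ n := by
      rcases Nat.eq_zero_or_pos n with rfl | h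
      · have := Fintype.one_lt_card (α := F); rw [hF, pow_zero] at this; omega
      · exact h
    have hp2 := (Fact.out : p.Prime).two_le
    have hpn : p ≤ p ^ n := Nat.le_self_pow (by omega) p
    have hn : n = 1 := by
      by_contra hne
      have : p ^ 2 ≤ p ^ n := Nat.pow_le_pow_right (by omega) (by omega)
      nlinarith [hF ▸ h3]
    subst hn
    rw [pow_one] at hF hpn
    rcases (show p = 2 ∨ p = 3 by omega) with rfl | rfl
    · -- `q = 2`
      refine Or.inr (Or.inl ⟨rfl, 1, ?_, ?_⟩)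
      · have h3c : Nat.card (commutator SL(2, F)) = 3 := SL2F.card_commutator_two hF
        have hA : Nat.card (alternatingGroup (Fin 3)) = 3 := by
          rw [nat_card_alternatingGroup]; simp [Nat.factorial]
        haveI := Fact.mk (show Nat.Prime 3 by norm_num)
        exact ⟨φ.trans (mulEquivOfPrimeCardEq h3c hA)⟩
      · have hbot : ((Cfsg.cStarOf 2 (T : Subgroup G) ⊓ e i).subgroupOf (e i)).map
            (QuotientGroup.mk' (Cfsg.pCore 2 ↥(e i))) = ⊥ := by
          rw [eq_bot_iff]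
          rintro _ ⟨g, hg, rfl⟩
          refine Subgroup.mem_bot.2 (φ.injective (Subtype.ext ?_))
          rw [map_one]
          show (φ (QuotientGroup.mk g) : SL(2, F)) = 1
          rw [hφ]
          exact SL2F.commutator_inf_borel_two hF
            (hφ g ▸ (φ (QuotientGroup.mk g)).2) (normalizer_iff.1 ((hiff g).1 hg))
        rw [hbot]
        haveI : Subsingleton (alternatingGroup (Fin (2 * 1))) := by
          refine Finite.card_le_one_iff_subsingleton.1 ?_
          rw [nat_card_alternatingGroup]; simp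
        haveI : Unique ↥(alternatingGroup (Fin (2 * 1))) := uniqueOfSubsingleton 1
        exact ⟨MulEquiv.ofUnique⟩
    · -- `q = 3`
      refine Or.inr (Or.inr ⟨rfl, ?_, ?_⟩)
      · let ε : SL(2, F) ≃* SL(2, ZMod 3) :=
          (H37.slCongr (ZMod.ringEquivOfPrime F Fact.out hF)).symm
        have hε : (commutator SL(2, F)).map ε.toMonoidHom = commutator SL(2, ZMod 3) := by
          rw [_root_.commutator_def, _root_.commutator_def, Subgroup.map_commutator,
            Subgroup.map_top_of_surjective ε.toMonoidHom ε.surjective]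
        exact ⟨φ.trans ((ε.subgroupMap _).trans (MulEquiv.subgroupCongr hε))⟩
      · ext x
        constructor
        · rintro ⟨g, hg, rfl⟩
          refine Subgroup.mem_center_iff.2 fun y => φ.injective (Subtype.ext ?_)
          rw [map_mul, map_mul, Subgroup.coe_mul, Subgroup.coe_mul, QuotientGroup.mk'_apply, hφ]
          rcases commutator_inf_borel hF (hφ g ▸ (φ (QuotientGroup.mk g)).2)
            (normalizer_iff.1 ((hiff g).1 hg)) with h | h <;> rw [h] <;> simp
        · intro hx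
          obtain ⟨g, rfl⟩ := QuotientGroup.mk_surjective x
          refine ⟨g, (hiff g).2 (normalizer_iff.2 (center_commutator hF fun σ hσ => ?_)), rfl⟩
          obtain ⟨y, hy⟩ := φ.surjective ⟨σ, hσ⟩
          have := congrArg (fun z => (φ z : SL(2, F))) (Subgroup.mem_center_iff.1 hx y)
          simpa [map_mul, hy, hφ] using this

theorem alt_degree (i : Fin r) (m : ℕ)
    (h : Nonempty (↥(e i) ⧸ Cfsg.pCore p ↥(e i) ≃* ↥(alternatingGroup (Fin (2 * m + 1))))) :
    ∃ k : ℕ, 2 * m + 1 = 2 ^ k + 1 := by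
  haveI := charP s c hF
  obtain ⟨φ, hφ⟩ := exists_iso s c hF hm hbody i
  obtain ⟨α⟩ := h
  have β := φ.symm.trans α
  rcases Nat.eq_zero_or_pos m with rfl | hm0
  · exfalso
    haveI : Subsingleton (Fin (2 * 0 + 1)) := inferInstanceAs (Subsingleton (Fin 1))
    refine hm.not_le_cen s c i fun g hg => (c.ker ⟨g, c.E_le i (hm.le i hg)⟩).1 fun j => ?_
    by_cases hj : j = i
    · subst hj
      have := α.injective.subsingleton
      have h1 := hφ ⟨g, hg⟩
      rw [Subsingleton.elim (QuotientGroup.mk (⟨g, hg⟩ : ↥(e j))) 1, map_one] at h1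
      exact h1.symm
    · exact c.pi_other (g := ⟨g, c.E_le i (hm.le i hg)⟩) (hm.le i hg) hj
  rcases Nat.lt_or_ge m 3 with h3 | h3
  · rcases (show m = 1 ∨ m = 2 by omega) with rfl | rfl
    · exact ⟨1, by norm_num⟩
    · exact ⟨2, by norm_num⟩
  exact (SL2F.not_iso_alternating (p := p) h3 β).elim

end Lin

end H80.PM

namespace H80.PM

variable {G : Type*} [Group G] [Finite G] {p : ℕ} [Fact p.Prime] {T : Sylow p G} {M : Subgroup G}

/-- The linear case. -/
theorem linear_case {F : Type} [Field F] [Fintype F] {n r : ℕ} {E : Fin r → Subgroup G}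
    {π : Fin r → (↥(nJ p G) →* SL(2, F))} (s : Setting p T M)
    (c : Comps p T (upperSub F) E π) (hF : Fintype.card F = p ^ n) {x : G} (fr : Frame p T x) :
    ∃ 𝓑 : Set (Subgroup G), Cfsg.HasBaumannBlockStructure p (T : Subgroup G) 𝓑 ∧
      (∀ E ∈ 𝓑, ∀ m : ℕ, Nonempty (↥E ⧸ Cfsg.pCore p ↥E ≃* ↥(alternatingGroup (Fin (2 * m + 1)))) →
        ∃ n : ℕ, 2 * m + 1 = 2 ^ n + 1) ∧
      Cfsg.cStarOf p (T : Subgroup G) =
        (Cfsg.cStarOf p (T : Subgroup G) ⊓ sSup 𝓑) ⊔ (T : Subgroup G) := by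
  obtain ⟨e, hbody, hm⟩ := Lin.exists_family s c hF fr
  exact hm.structure_of_clauses s c (Lin.clause s c hF hm hbody) (Lin.alt_degree s c hF hm hbody)

end H80.PM
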