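import Cfsg.Agent.S0892
import Cfsg.Agent.H61.AltStemRel

/-!
A perfect central extension of an alternating group in which a double transposition lifts to an
involution is trivial.
-/

set_option autoImplicit false
set_option linter.unusedSectionVars false
set_option linter.style.haveILetI false

open Equiv Subgroup
open scoped commutatorElement

namespace H80.PM.SC

variable {α : Type*} [DecidableEq α] [Fintype α]

/-- The three-cycle `(p q a)`. -/
def cy (p q a : α) : Perm α := swap p a * swap p q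

theorem cy_mul {p q a b : α} (hpq : p ≠ q) (hap : a ≠ p) (haq : a ≠ q) (hbp : b ≠ p) (hbq : b ≠ q)
    (hab : a ≠ b) : cy p q a * cy p q b = swap p a * swap q b := by
  rw [cy, cy, mul_assoc]
  congr 1
  ext x
  simp only [Perm.mul_apply, swap_apply_def]
  split_ifs <;> simp_all

theorem cy_cube {p q a : α} (hpq : p ≠ q) (hap : a ≠ p) (haq : a ≠ q) : cy p q a ^ 3 = 1 := by
  rw [← (Perm.isThreeCycle_swap_mul_swap_same hap.symm hpq haq).orderOf]
  exact pow_orderOf_eq_one _

theorem cy_even {p q a : α} (hpq : p ≠ q) (hap : a ≠ p) : cy p q a ∈ alternatingGroup α := by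
  rw [Perm.mem_alternatingGroup, cy, map_mul, Perm.sign_swap hap.symm, Perm.sign_swap hpq]
  rfl

/-- An even permutation moving four distinct points to four distinct points, up to exchanging the
first two. -/
theorem exists_move {a b c d a' b' c' d' : α} (h : [a, b, c, d].Nodup) (h' : [a', b', c', d'].Nodup) :
    ∃ σ ∈ alternatingGroup α, σ * (swap a b * swap c d) * σ⁻¹ = swap a' b' * swap c' d' := by
  simp only [List.nodup_cons, List.mem_cons, List.not_mem_nil, or_false, not_or,
    List.nodup_nil, and_true, not_false_eq_true] at h h'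
  obtain ⟨σ, hσa, hσb, hσc, hσd⟩ : ∃ σ : Perm α, σ a = a' ∧ σ b = b' ∧ σ c = c' ∧ σ d = d' := by
    set s1 := swap a a' with hs1
    set s2 := swap (s1 b) b' with hs2
    set s3 := swap (s2 (s1 c)) c' with hs3
    set s4 := swap (s3 (s2 (s1 d))) d' with hs4
    have e1 : s1 a = a' := swap_apply_left _ _
    have e2a : s2 a' = a' := swap_apply_of_ne_of_ne
      (fun e => h.1.1 (s1.injective (e1.trans e))) h'.1.1
    have e2b : s2 (s1 b) = b' := swap_apply_left _ _
    have e3a : s3 a' = a' := swap_apply_of_ne_of_ne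
      (fun e => h.1.2.1 (s1.injective (s2.injective (by rw [e1, e2a]; exact e)))) h'.1.2.1
    have e3b : s3 b' = b' := swap_apply_of_ne_of_ne
      (fun e => h.2.1.1 (s1.injective (s2.injective (by rw [e2b]; exact e)))) h'.2.1.1
    have e3c : s3 (s2 (s1 c)) = c' := swap_apply_left _ _
    refine ⟨s4 * s3 * s2 * s1, ?_, ?_, ?_, ?_⟩ <;> simp only [Perm.mul_apply]
    · rw [e1, e2a, e3a]
      exact swap_apply_of_ne_of_ne
        (fun e => h.1.2.2 (s1.injective (s2.injective (s3.injective (by rw [e1, e2a, e3a]; exact e)))))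
        h'.1.2.2
    · rw [e2b, e3b]
      exact swap_apply_of_ne_of_ne
        (fun e => h.2.1.2 (s1.injective (s2.injective (s3.injective (by rw [e2b, e3b]; exact e)))))
        h'.2.1.2
    · rw [e3c]
      exact swap_apply_of_ne_of_ne
        (fun e => h.2.2 (s1.injective (s2.injective (s3.injective (by rw [e3c]; exact e)))))
        h'.2.2
    · exact swap_apply_left _ _
  have hconj : σ * (swap a b * swap c d) * σ⁻¹ = swap a' b' * swap c' d' := by
    rw [← hσa, ← hσb, ← hσc, ← hσd, swap_apply_apply, swap_apply_apply]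
    group
  rcases Int.units_eq_one_or (Perm.sign σ) with hs | hs
  · exact ⟨σ, Perm.mem_alternatingGroup.2 hs, hconj⟩
  · refine ⟨σ * swap a b, Perm.mem_alternatingGroup.2 ?_, ?_⟩
    · rw [map_mul, hs, Perm.sign_swap h.1.1]; rfl
    · rw [← hconj]
      have hcomm : swap a b * (swap a b * swap c d) * swap a b = swap a b * swap c d := by
        rw [← mul_assoc, swap_mul_self, one_mul]
        have : swap a b * swap c d * (swap a b)⁻¹ = swap c d := by
          rw [← swap_apply_apply, swap_apply_of_ne_of_ne (Ne.symm h.1.2.1) (Ne.symm h.2.1.1),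
            swap_apply_of_ne_of_ne (Ne.symm h.1.2.2) (Ne.symm h.2.1.2)]
        rw [← mul_inv_eq_iff_eq_mul.1 this]
      calc σ * swap a b * (swap a b * swap c d) * (σ * swap a b)⁻¹
          = σ * (swap a b * (swap a b * swap c d) * swap a b) * σ⁻¹ := by
            rw [mul_inv_rev, swap_inv]; simp only [mul_assoc]
        _ = _ := by rw [hcomm]

theorem ker_eq_bot {n : ℕ} (hn : 5 ≤ n) (h6 : n ≠ 6) (h7 : n ≠ 7) {Γ : Type*} [Group Γ] [Finite Γ]
    (φ : Γ →* Perm (Fin n)) (hφ : φ.range = alternatingGroup (Fin n))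
    (hc : φ.ker ≤ center Γ) (hperf : commutator Γ = ⊤) {τ : Γ} (hτ2 : τ ^ 2 = 1) {a b c d : Fin n}
    (hab : [a, b, c, d].Nodup) (hτ : φ τ = swap a b * swap c d) : φ.ker = ⊥ := by
  classical
  have hcard : Nat.card φ.ker ≤ 2 := Cfsg.Agent.S0892.result n (by omega) h6 h7 φ.ker hc
    (by rw [hperf]; exact le_top)
    ((QuotientGroup.quotientKerEquivRange φ).trans (MulEquiv.subgroupCongr hφ))
  have hz2 : ∀ z ∈ φ.ker, z ^ 2 = 1 := by
    intro z hz
    have h : orderOf z ∣ Nat.card φ.ker := by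
      rw [← Subgroup.orderOf_mk z hz]; exact orderOf_dvd_natCard _
    have h0 := orderOf_pos z
    rcases (show orderOf z = 1 ∨ orderOf z = 2 by
      have := Nat.le_of_dvd Nat.card_pos h; omega) with e | e
    · rw [orderOf_eq_one_iff.1 e, one_pow]
    · rw [← e, pow_orderOf_eq_one]
  -- every lift of a double transposition is an involution
  have hdouble : ∀ (δ : Γ) (a' b' c' d' : Fin n), [a', b', c', d'].Nodup →
      φ δ = swap a' b' * swap c' d' → δ ^ 2 = 1 := by
    intro δ a' b' c' d' hnd hδ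
    obtain ⟨σ, hσ, hσc⟩ := exists_move hab hnd
    obtain ⟨γ, rfl⟩ := hφ.ge hσ
    set z := (γ * τ * γ⁻¹)⁻¹ * δ with hzdef
    have hz : z ∈ φ.ker := by
      rw [MonoidHom.mem_ker, hzdef, map_mul, map_inv, map_mul, map_mul, map_inv, hτ, hσc, hδ,
        inv_mul_cancel]
    have hδ' : δ = γ * τ * γ⁻¹ * z := by rw [hzdef, mul_inv_cancel_left]
    rw [hδ', Commute.mul_pow (mem_center_iff.1 (hc hz) _), conj_pow, hτ2, mul_one, mul_inv_cancel,
      hz2 z hz, one_mul]
  -- lifts of three-cycles
  have hn1 : 1 < n := by omega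
  let p : Fin n := ⟨0, by omega⟩
  let q : Fin n := ⟨1, hn1⟩
  have hpq : p ≠ q := by simp [p, q, Fin.ext_iff]
  let pt : ℕ → Fin n := fun i => if h : i + 2 < n then ⟨i + 2, h⟩ else ⟨2, by omega⟩
  have hptv : ∀ i, i < n - 2 → (pt i).1 = i + 2 := fun i hi => by
    simp only [pt]; rw [dif_pos (by omega)]
  have hp1 : ∀ i, pt i ≠ p ∧ pt i ≠ q := fun i => by
    simp only [pt, p, q]; split_ifs <;> simp [Fin.ext_iff]
  have hlift : ∀ i, ∃ x : Γ, x ^ 3 = 1 ∧ φ x = cy p q (pt i) := by
    intro i
    obtain ⟨δ, hδ⟩ := hφ.ge (cy_even hpq (hp1 i).1 (a := pt i))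
    have h3 : φ δ ^ 3 = 1 := by rw [hδ]; exact cy_cube hpq (hp1 i).1 (hp1 i).2
    have h6' : δ ^ 6 = 1 := by
      rw [show 6 = 3 * 2 from rfl, pow_mul]
      exact hz2 _ (by rw [MonoidHom.mem_ker, map_pow, h3])
    refine ⟨δ ^ 4, ?_, ?_⟩
    · rw [← pow_mul, show 4 * 3 = 6 * 2 from rfl, pow_mul, h6', one_pow]
    · rw [map_pow, pow_succ, h3, one_mul, hδ]
  choose Z hZ3 hZφ using hlift
  have hpair : ∀ i j, i < n - 2 → j < n - 2 → i ≠ j → (Z i * Z j) ^ 2 = 1 := by
    intro i j hi hj hij
    have hne : pt i ≠ pt j := fun e => hij (by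
      have := congrArg Fin.val e; rw [hptv i hi, hptv j hj] at this; omega)
    refine hdouble _ p (pt i) q (pt j) ?_ (by
      rw [map_mul, hZφ, hZφ]
      exact cy_mul hpq (hp1 i).1 (hp1 i).2 (hp1 j).1 (hp1 j).2 hne)
    simp only [List.nodup_cons, List.mem_cons, List.not_mem_nil, or_false, not_or,
      List.nodup_nil, and_true, not_false_eq_true]
    exact ⟨⟨(hp1 i).1.symm, hpq, (hp1 j).1.symm⟩, ⟨(hp1 i).2, hne⟩, (hp1 j).2.symm⟩
  set Y : ℕ → Γ := fun i => if i = 0 then Z 0 else H61.AltStem.tp (Z (i - 1)) (Z i) with hY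
  have hcarm : H59.Carm Y (n - 2) := H61.AltStem.carm_of Z (n - 2) (fun i _ => hZ3 i) hpair
  set S := closure (Y '' Set.Iio (n - 2)) with hS
  obtain ⟨-, hSc⟩ := H59.card_le_carmichael (n - 2) Γ Y hcarm
  have hZS : ∀ i, i < n - 2 → Z i ∈ S := by
    intro i
    induction i with
    | zero => exact fun hi => subset_closure ⟨0, hi, by simp [hY]⟩
    | succ i ih =>
      intro hi
      have h1 : Z i ∈ S := ih (by omega)
      have h2 : H61.AltStem.tp (Z i) (Z (i + 1)) ∈ S := subset_closure ⟨i + 1, hi, by simp [hY]⟩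
      have h3 := inv_mem (mul_mem (mul_mem (inv_mem h1) h2) (inv_mem h1))
      simpa [H61.AltStem.tp, mul_assoc] using h3
  -- the image is everything
  set I := S.map φ with hI
  have hIA : I ≤ alternatingGroup (Fin n) := hφ ▸ map_le_range φ S
  have hcy : ∀ x : Fin n, x ≠ p → x ≠ q → cy p q x ∈ I := by
    intro x hxp hxq
    have hx2 : 2 ≤ x.1 := by
      simp [p, q, Fin.ext_iff] at hxp hxq
      omega
    have hxi : x.1 - 2 < n - 2 := by have := x.2; omega
    have hx : x = pt (x.1 - 2) := Fin.ext (by rw [hptv _ hxi]; omega)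
    rw [hx]
    exact ⟨Z (x.1 - 2), hZS _ hxi, hZφ _⟩
  have hSA : I = alternatingGroup (Fin n) := by
    set W := I ⊔ zpowers (swap p q) with hW
    have hWtop : W = ⊤ := by
      refine top_le_iff.1 ?_
      rw [← Perm.closure_isSwap, closure_le]
      have hpx : ∀ x, x ≠ p → swap p x ∈ W := by
        intro x hx
        by_cases hxq : x = q
        · subst hxq; exact mem_sup_right (mem_zpowers _)
        have := mul_mem (mem_sup_left (hcy x hx hxq) : cy p q x ∈ W)
          (mem_sup_right (mem_zpowers (swap p q)))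
        rwa [cy, mul_assoc, swap_mul_self, mul_one] at this
      rintro _ ⟨x, y, hxy, rfl⟩
      by_cases hx : x = p
      · subst hx; exact hpx y hxy.symm
      by_cases hy : y = p
      · subst hy; rw [swap_comm]; exact hpx x hx
      have e : swap x y = swap p x * swap p y * (swap p x)⁻¹ := by
        rw [← swap_apply_apply, swap_apply_left, swap_apply_of_ne_of_ne hy hxy.symm]
      rw [e]
      exact mul_mem (mul_mem (hpx x hx) (hpx y hy)) (inv_mem (hpx x hx))
    have hnorm : zpowers (swap p q) ≤ normalizer (I : Set (Perm (Fin n))) := by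
      have hgen : closure (φ '' (Y '' Set.Iio (n - 2))) = I := by
        rw [hI, hS, MonoidHom.map_closure]
      refine zpowers_le.2 (mem_normalizer_iff_map_conj_eq.2 (eq_of_le_of_card_ge ?_
        (card_map_of_injective (MulAut.conj _).injective).ge))
      rw [map_le_iff_le_comap]
      conv_lhs => rw [← hgen]
      rw [closure_le]
      have hZI : ∀ i, i < n - 2 →
          MulAut.conj (swap p q) (φ (Z i)) ∈ I := by
        intro i hi
        have e : MulAut.conj (swap p q) (φ (Z i)) = (φ (Z i))⁻¹ := by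
          rw [hZφ, cy, MulAut.conj_apply, mul_inv_rev, swap_inv, swap_inv]
          simp only [mul_assoc, swap_mul_self, mul_one]
        rw [e]
        exact inv_mem (mem_map_of_mem φ (hZS i hi))
      rintro _ ⟨_, ⟨i, hi, rfl⟩, rfl⟩
      show MulAut.conj (swap p q) (φ (Y i)) ∈ I
      simp only [hY]
      split_ifs with h0
      · exact hZI 0 (h0 ▸ hi)
      · simp only [H61.AltStem.tp, map_mul, map_inv]
        exact mul_mem (mul_mem (hZI _ (lt_of_le_of_lt (Nat.sub_le i 1) hi)) (inv_mem (hZI _ hi)))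
          (hZI _ (lt_of_le_of_lt (Nat.sub_le i 1) hi))
    haveI : I.Normal :=
      normalizer_eq_top_iff.1 (top_le_iff.1 (hWtop.ge.trans (sup_le le_normalizer hnorm)))
    refine le_antisymm hIA ?_
    rw [← alternatingGroup.commutator_perm_eq (by rw [Nat.card_fin]; omega), _root_.commutator_def,
      commutator_le]
    intro u _ v _
    obtain ⟨i, hi, _, ⟨k, rfl⟩, rfl⟩ := mem_sup_of_normal_left.1 (hWtop.ge (mem_top u))
    obtain ⟨i', hi', _, ⟨k', rfl⟩, rfl⟩ := mem_sup_of_normal_left.1 (hWtop.ge (mem_top v))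
    rw [← QuotientGroup.eq_one_iff]
    show QuotientGroup.mk' I ⁅i * _, i' * _⁆ = 1
    have hq : ∀ x ∈ I, QuotientGroup.mk' I x = 1 := fun x hx => (QuotientGroup.eq_one_iff x).2 hx
    rw [map_commutatorElement, map_mul, map_mul, hq i hi, hq i' hi', one_mul, one_mul,
      ← map_commutatorElement,
      commutatorElement_eq_one_iff_mul_comm.2 ((Commute.refl _).zpow_zpow k k').eq, map_one]
  have hAcard : 2 * Nat.card (alternatingGroup (Fin n)) = n.factorial := by
    haveI : Nontrivial (Fin n) := Fin.nontrivial_iff_two_le.2 (by omega)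
    rw [two_mul_nat_card_alternatingGroup, Nat.card_perm, Nat.card_fin]
  rw [show n - 2 + 2 = n by omega, ← hAcard] at hSc
  have hSle : Nat.card S ≤ Nat.card I := by rw [hSA]; exact Nat.le_of_mul_le_mul_left hSc two_pos
  have hinf : S ⊓ φ.ker = ⊥ := by
    rw [eq_bot_iff]
    intro x hx
    have hinj : Function.Injective (φ.subgroupMap S) :=
      ((Nat.bijective_iff_surjective_and_card _).2 ⟨φ.subgroupMap_surjective S,
        le_antisymm hSle (Nat.card_le_card_of_surjective _ (φ.subgroupMap_surjective S))⟩).1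
    have h1 : φ.subgroupMap S ⟨x, hx.1⟩ = 1 := Subtype.ext hx.2
    exact Subgroup.mem_bot.2 (congrArg Subtype.val (hinj (h1.trans (map_one _).symm)))
  have htop : S = ⊤ := by
    refine top_le_iff.1 ?_
    rw [← hperf, _root_.commutator_def, commutator_le]
    intro u _ v _
    obtain ⟨s, hs, hsu⟩ := hSA.ge (hφ.le ⟨u, rfl⟩ : φ u ∈ alternatingGroup (Fin n))
    obtain ⟨s', hs', hsv⟩ := hSA.ge (hφ.le ⟨v, rfl⟩ : φ v ∈ alternatingGroup (Fin n))
    have hu : u = s * (s⁻¹ * u) := (mul_inv_cancel_left _ _).symm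
    have hv : v = s' * (s'⁻¹ * v) := (mul_inv_cancel_left _ _).symm
    have h1 : s⁻¹ * u ∈ center Γ := hc (by rw [MonoidHom.mem_ker, map_mul, map_inv, hsu, inv_mul_cancel])
    have h2 : s'⁻¹ * v ∈ center Γ := hc (by rw [MonoidHom.mem_ker, map_mul, map_inv, hsv, inv_mul_cancel])
    have e1 : ∀ (z : Γ), z ∈ center Γ → ∀ (x y : Γ), ⁅x * z, y⁆ = ⁅x, y⁆ := fun z hz x y => by
      have h := mem_center_iff.1 hz
      calc ⁅x * z, y⁆ = x * (z * y) * z⁻¹ * x⁻¹ * y⁻¹ := by simp only [commutatorElement_def]; group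
        _ = x * (y * z) * z⁻¹ * x⁻¹ * y⁻¹ := by rw [h y]
        _ = ⁅x, y⁆ := by simp only [commutatorElement_def]; group
    have e2 : ⁅u, v⁆ = ⁅s, s'⁆ := by
      rw [hu, e1 _ h1, ← commutatorElement_inv, hv, e1 _ h2, commutatorElement_inv]
    rw [e2, commutatorElement_def]
    exact mul_mem (mul_mem (mul_mem hs hs') (inv_mem hs)) (inv_mem hs')
  rwa [htop, top_inf_eq] at hinf

end H80.PM.SC
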