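import Cfsg.Agent.H80.PM.SymPiece
import Cfsg.Agent.H80.PM.SymCover
import Cfsg.Agent.H80.PM.SL2Facts
import Cfsg.Agent.H78.BlockPair

/-!
The block of a symmetric component.
-/

set_option autoImplicit false
set_option linter.unusedSectionVars false
set_option linter.style.haveILetI false

open Subgroup
open scoped commutatorElement MatrixGroups Pointwise

namespace H80.PM

open H80.LCSS (modV cenV Data)
open H78.Block (modE facts_of_block)
open SP

variable {G : Type*} [Group G] [Finite G] [Fact (Nat.Prime 2)] {T : Sylow 2 G} {M : Subgroup G}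
  {m r : ℕ} {E : Fin r → Subgroup G} {π : Fin r → (↥(nJ 2 G) →* Equiv.Perm (Fin (2 * m + 1)))}

/-- The coordinates on `[V, E_i]`. -/
structure Psi (Ei : Subgroup G) (πi : ↥(nJ 2 G) →* Equiv.Perm (Fin (2 * m + 1)))
    (ψ : ↥⁅modV 2 G, Ei⁆ →* Multiplicative (Fin (2 * m + 1) → ZMod 2)) : Prop where
  even : ∀ u, ∑ i, Multiplicative.toAdd (ψ u) i = 0
  onto : ∀ v : Fin (2 * m + 1) → ZMod 2, ∑ i, v i = 0 → ∃ u, Multiplicative.toAdd (ψ u) = v
  ker : ∀ u : ↥⁅modV 2 G, Ei⁆, ψ u = 1 ↔ (u : G) ∈ centralizer (Ei : Set G)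
  act : ∀ (g : ↥(nJ 2 G)) (u : ↥⁅modV 2 G, Ei⁆), ∃ w : ↥⁅modV 2 G, Ei⁆,
    (w : G) = (g : G) * (u : G) * (g : G)⁻¹ ∧
      ∀ i, Multiplicative.toAdd (ψ w) i = Multiplicative.toAdd (ψ u) ((πi g)⁻¹ i)

theorem exists_psi {Ei : Subgroup G} {πi : ↥(nJ 2 G) →* Equiv.Perm (Fin (2 * m + 1))}
    (h : PermOn 2 Ei πi) : ∃ ψ, Psi Ei πi ψ := by
  obtain ⟨ψ, h1, h2, h3, h4⟩ := h
  exact ⟨ψ, h1, h2, h3, h4⟩

theorem Psi.act' {Ei : Subgroup G} {πi : ↥(nJ 2 G) →* Equiv.Perm (Fin (2 * m + 1))}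
    {ψ : ↥⁅modV 2 G, Ei⁆ →* Multiplicative (Fin (2 * m + 1) → ZMod 2)} (h : Psi Ei πi ψ)
    (g : ↥(nJ 2 G)) (u : ↥⁅modV 2 G, Ei⁆)
    (hw : (g : G) * (u : G) * (g : G)⁻¹ ∈ ⁅modV 2 G, Ei⁆) (i : Fin (2 * m + 1)) :
    Multiplicative.toAdd (ψ ⟨_, hw⟩) i = Multiplicative.toAdd (ψ u) ((πi g)⁻¹ i) := by
  obtain ⟨w, hw', hwi⟩ := h.act g u
  rw [show (⟨(g : G) * (u : G) * (g : G)⁻¹, hw⟩ : ↥⁅modV 2 G, Ei⁆) = w from Subtype.ext hw'.symm]
  exact hwi i

/-- Values in `ZMod 2`. -/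
theorem zmod_two_cases (a : ZMod 2) : a = 0 ∨ a = 1 :=
  (show ∀ b : Fin 2, b = 0 ∨ b = 1 by decide) a

namespace SymB

variable (s : Setting 2 T M) (c : Comps 2 T (pairsSub m) E π) {k : ℕ} (hk : 2 * m = 2 ^ k)
  (hm : 2 ≤ m) {x : G} (fr : Frame 2 T x) {i : Fin r} {e : Fin m → Subgroup G}
  (hb : ∀ j, SymBlk T E π x i j (e j))
include s c hk hm fr hb

theorem le_nJ (j : Fin m) : e j ≤ nJ 2 G := (hb j).le.trans (c.E_le i)

theorem core_omega (j : Fin m) :
    Cfsg.omegaOneCenter 2 (Cfsg.pCoreOf 2 (e j)) = Cfsg.pCoreOf 2 (e j) := by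
  obtain ⟨-, -, -, -, -, h6⟩ := (hb j).body
  exact (h6.resolve_right fun h => by exact absurd h.1 (by norm_num)).symm

theorem core_comm (j : Fin m) : ⁅Cfsg.pCoreOf 2 (e j), e j⁆ = Cfsg.pCoreOf 2 (e j) :=
  (hb j).body.2.2.1

theorem core_modE (j : Fin m) : modE 2 (e j) = Cfsg.pCoreOf 2 (e j) := by
  rw [modE, core_omega s c hk hm fr hb j, core_comm s c hk hm fr hb j]

theorem core_le_V (j : Fin m) : Cfsg.pCoreOf 2 (e j) ≤ modV 2 G :=
  (core_modE s c hk hm fr hb j).ge.trans ((facts_of_block (hb j).block).mod_le_omega s.data.charp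
    (H78.Block.pCore_le_normalizer (hb j).block))

theorem core_le_Vi (j : Fin m) : Cfsg.pCoreOf 2 (e j) ≤ ⁅modV 2 G, E i⁆ := by
  rw [← core_comm s c hk hm fr hb j]
  exact commutator_mono (core_le_V s c hk hm fr hb j) (hb j).le

theorem modV_le_bT : modV 2 G ≤ bT 2 (T : Subgroup G) := fun v hv =>
  ((s.core_inf_bT).ge (s.wStar_le_core (mem_sup_left hv))).2

theorem C_norm (j : Fin m) : cenV 2 G ≤ normalizer (e j : Set G) := by
  refine le_trans ?_ (H78.Block.centralizer_modE_le_normalizer s.data.charp (hb j).block)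
  rw [core_modE s c hk hm fr hb j]
  exact centralizer_le (SetLike.coe_subset_coe.2 (core_le_V s c hk hm fr hb j))

theorem El_norm (j : Fin m) {l : Fin r} (hl : l ≠ i) : E l ≤ normalizer (e j : Set G) := by
  refine le_trans ?_ (H78.Block.centralizer_modE_le_normalizer s.data.charp (hb j).block)
  rw [core_modE s c hk hm fr hb j]
  exact (le_centralizer_iff.1 (commutator_eq_bot_iff_le_centralizer.1
    (c.fix i l (Ne.symm hl)))).trans
    (centralizer_le (SetLike.coe_subset_coe.2 (core_le_Vi s c hk hm fr hb j)))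

theorem inf_cen (j : Fin m) : e j ⊓ cenV 2 G ≤ Cfsg.pCoreOf 2 (e j) := by
  refine le_trans (inf_le_inf_left _ ?_) (linBody_inf_cen (hb j).body)
  rw [core_omega s c hk hm fr hb j]
  exact centralizer_le (SetLike.coe_subset_coe.2 (core_le_V s c hk hm fr hb j))

theorem comm_V (j : Fin m) {v a : G} (hv : v ∈ modV 2 G) (ha : a ∈ e j) :
    ⁅v, a⁆ ∈ Cfsg.pCoreOf 2 (e j) := by
  haveI hVn := Setting.modV_normal (p := 2) (G := G)
  have hle := H78.Block.commutator_block (R := modV 2 G) (hb j).block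
    ((T.isPGroup'.to_le (H1.pCore_le_sylow T)).to_le Setting.modV_le_core)
    (le_top.trans (normalizer_eq_top_iff.2 hVn).ge) (le_top.trans (normalizer_eq_top_iff.2 hVn).ge)
  have h := hle (commutator_mem_commutator hv ha)
  rw [← core_omega s c hk hm fr hb j]
  exact H78.Block.inf_omega_le (facts_of_block (hb j).block) ⟨h.2, h.1⟩

theorem comm_C (j : Fin m) {u a : G} (hu : u ∈ cenV 2 G) (ha : a ∈ e j) :
    ⁅u, a⁆ ∈ Cfsg.pCoreOf 2 (e j) := by
  refine inf_cen s c hk hm fr hb j (Subgroup.mem_inf.2 ⟨?_, ?_⟩)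
  · exact mul_mem (H75.conj_mem_of_mem_normalizer (C_norm s c hk hm fr hb j hu) ha) (inv_mem ha)
  · rw [commutatorElement_def, show u * a * u⁻¹ * a⁻¹ = u * (a * u⁻¹ * a⁻¹) by group]
    exact mul_mem hu (Data.cenV_normal.conj_mem _ (inv_mem hu) a)

theorem core_inf_cent (j : Fin m) {u : G} (hu : u ∈ Cfsg.pCoreOf 2 (e j))
    (hc : u ∈ centralizer (e j : Set G)) : u = 1 := by
  haveI := H1.pCore_normal' 2 ↥(e j)
  set Q := Cfsg.pCoreOf 2 (e j) with hQ
  obtain ⟨-, -, -, ⟨iso⟩, -, -⟩ := (hb j).body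
  have h3 : Nat.card (↥(e j) ⧸ Cfsg.pCore 2 ↥(e j)) = 3 := by
    rw [Nat.card_congr iso.toEquiv]; exact SL2F.card_commutator_two (by simp)
  haveI : Fact (Nat.Prime 3) := ⟨Nat.prime_three⟩
  obtain ⟨y, hy⟩ : ∃ y : ↥(e j), (QuotientGroup.mk y : ↥(e j) ⧸ Cfsg.pCore 2 ↥(e j)) ≠ 1 := by
    haveI : Nontrivial (↥(e j) ⧸ Cfsg.pCore 2 ↥(e j)) :=
      Finite.one_lt_card_iff_nontrivial.1 (by omega)
    obtain ⟨q, hq⟩ := exists_ne (1 : ↥(e j) ⧸ Cfsg.pCore 2 ↥(e j))
    obtain ⟨y, rfl⟩ := QuotientGroup.mk_surjective q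
    exact ⟨y, hq⟩
  have hQab : ∀ a ∈ Q, ∀ b ∈ Q, a * b = b * a := fun a ha b hb' =>
    H10.comm_of_elem Setting.modV_elem (core_le_V s c hk hm fr hb j ha)
      (core_le_V s c hk hm fr hb j hb')
  have hQn : e j ≤ normalizer (Q : Set G) :=
    le_normalizer.trans (H75.normalizer_le_normalizer_pCoreOf _)
  have hmem : ∀ q ∈ Q, ∀ a ∈ e j, ⁅q, a⁆ ∈ Q := fun q hq a ha => by
    rw [hQ, ← core_comm s c hk hm fr hb j]
    exact commutator_mem_commutator hq ha
  let f : ↥Q →* ↥Q :=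
    { toFun := fun q => ⟨⁅(q : G), (y : G)⁆, hmem q q.2 y y.2⟩
      map_one' := Subtype.ext (commutatorElement_one_left _)
      map_mul' := fun q q' => Subtype.ext (by
        show ⁅(q : G) * q', (y : G)⁆ = ⁅(q : G), (y : G)⁆ * ⁅(q' : G), (y : G)⁆
        rw [show ⁅(q : G) * q', (y : G)⁆ = q * ⁅(q' : G), (y : G)⁆ * (q : G)⁻¹ * ⁅(q : G), (y : G)⁆ by
          simp only [commutatorElement_def]; group,
          hQab q q.2 _ (hmem q' q'.2 y y.2), mul_inv_cancel_right,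
          hQab _ (hmem q' q'.2 y y.2) _ (hmem q q.2 y y.2)]) }
  have hpow : ∀ a : ℕ, ∀ q ∈ Q, ⁅q, (y : G) ^ a⁆ ∈ f.range.map Q.subtype := by
    intro a
    induction a with
    | zero => intro q _; rw [pow_zero, commutatorElement_one_right]; exact one_mem _
    | succ a ih =>
      intro q hq
      have e1 : ⁅q, (y : G) ^ (a + 1)⁆ =
          ⁅q, (y : G) ^ a⁆ * ⁅(y : G) ^ a * q * ((y : G) ^ a)⁻¹, (y : G)⁆ := by
        rw [pow_succ]; simp only [commutatorElement_def]; group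
      rw [e1]
      refine mul_mem (ih q hq) ?_
      have hc' : (y : G) ^ a * q * ((y : G) ^ a)⁻¹ ∈ Q :=
        H75.conj_mem_of_mem_normalizer (pow_mem (hQn y.2) a) hq
      exact ⟨f ⟨_, hc'⟩, ⟨⟨_, hc'⟩, rfl⟩, rfl⟩
  have hsurj : Function.Surjective f := by
    refine MonoidHom.range_eq_top.1 (map_injective Q.subtype_injective ?_)
    rw [← MonoidHom.range_eq_map, range_subtype]
    refine le_antisymm (map_subtype_le _) ?_
    conv_lhs => rw [hQ, ← core_comm s c hk hm fr hb j]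
    refine commutator_le.2 fun q hq a ha => ?_
    have hz : (QuotientGroup.mk (⟨a, ha⟩ : ↥(e j)) : ↥(e j) ⧸ Cfsg.pCore 2 ↥(e j)) ∈
        zpowers (QuotientGroup.mk y) := mem_zpowers_of_prime_card (p := 3) h3 hy
    obtain ⟨n, hn⟩ := mem_powers_iff_mem_zpowers.2 hz
    set d : ↥(e j) := (y ^ n)⁻¹ * ⟨a, ha⟩ with hd
    have hdQ : d ∈ Cfsg.pCore 2 ↥(e j) := by
      refine (QuotientGroup.eq_one_iff d).1 ?_
      rw [hd, QuotientGroup.mk_mul, QuotientGroup.mk_inv, QuotientGroup.mk_pow]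
      exact (congrArg (fun z => z⁻¹ * _) hn).trans (inv_mul_cancel _)
    have ha' : a = (y : G) ^ n * (d : G) := by
      simp [hd]
    have hdQ' : (d : G) ∈ Q := ⟨d, hdQ, rfl⟩
    have e1 : ⁅q, (y : G) ^ n * (d : G)⁆ =
        ⁅q, (y : G) ^ n⁆ * ((y : G) ^ n * ⁅q, (d : G)⁆ * ((y : G) ^ n)⁻¹) := by
      simp only [commutatorElement_def]; group
    rw [ha', e1, commutatorElement_eq_one_iff_mul_comm.2 (hQab q hq _ hdQ'), mul_one,
      mul_inv_cancel, mul_one]
    exact hpow n q hq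
  have hinj := Finite.injective_iff_surjective.2 hsurj
  have h1 : f ⟨u, hu⟩ = f 1 := by
    rw [map_one]
    exact Subtype.ext (commutatorElement_eq_one_iff_mul_comm.2
      (mem_centralizer_iff.1 hc y y.2).symm)
  exact congrArg Subtype.val (hinj h1)

variable {ψ : ↥⁅modV 2 G, E i⁆ →* Multiplicative (Fin (2 * m + 1) → ZMod 2)}
  (hψ : Psi (E i) (π i) ψ)
include hψ

theorem core_supp (j : Fin m) {u : G} (hu : u ∈ Cfsg.pCoreOf 2 (e j)) {l : Fin m} (hl : l ≠ j) :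
    Multiplicative.toAdd (ψ ⟨u, core_le_Vi s c hk hm fr hb j hu⟩) (pa l) = 0 ∧
      Multiplicative.toAdd (ψ ⟨u, core_le_Vi s c hk hm fr hb j hu⟩) (pb l) = 0 := by
  set S : Subgroup ↥⁅modV 2 G, E i⁆ :=
    { carrier := {w | Multiplicative.toAdd (ψ w) (pa l) = 0 ∧ Multiplicative.toAdd (ψ w) (pb l) = 0}
      one_mem' := by simp
      mul_mem' := fun {a b} ha hb => by
        simp only [Set.mem_setOf_eq, map_mul, toAdd_mul, Pi.add_apply] at *
        rw [ha.1, ha.2, hb.1, hb.2]; simp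
      inv_mem' := fun {a} ha => by
        simp only [Set.mem_setOf_eq, map_inv, toAdd_inv, Pi.neg_apply] at *
        rw [ha.1, ha.2]; simp } with hS
  have hle : Cfsg.pCoreOf 2 (e j) ≤ S.map (⁅modV 2 G, E i⁆).subtype := by
    conv_lhs => rw [← core_comm s c hk hm fr hb j]
    refine commutator_le.2 fun q hq a ha => ?_
    have han : a ∈ nJ 2 G := le_nJ s c hk hm fr hb j ha
    have hqV := core_le_Vi s c hk hm fr hb j hq
    obtain ⟨w, hw, hwi⟩ := hψ.act ⟨a, han⟩ ⟨q⁻¹, inv_mem hqV⟩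
    refine ⟨⟨q, hqV⟩ * w, ?_, ?_⟩
    · have hfix := (hb j).fix ⟨a, han⟩ ha l hl
      have h1 : (π i ⟨a, han⟩)⁻¹ (pa l) = pa l := by rw [Equiv.Perm.inv_eq_iff_eq, hfix.1]
      have h2 : (π i ⟨a, han⟩)⁻¹ (pb l) = pb l := by rw [Equiv.Perm.inv_eq_iff_eq, hfix.2]
      have hinv : (⟨q⁻¹, inv_mem hqV⟩ : ↥⁅modV 2 G, E i⁆) = ⟨q, hqV⟩⁻¹ := rfl
      constructor
      · rw [map_mul, toAdd_mul, Pi.add_apply, hwi, h1, hinv, map_inv, toAdd_inv, Pi.neg_apply,
          add_neg_cancel]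
      · rw [map_mul, toAdd_mul, Pi.add_apply, hwi, h2, hinv, map_inv, toAdd_inv, Pi.neg_apply,
          add_neg_cancel]
    · show q * (w : G) = ⁅q, a⁆
      rw [hw, commutatorElement_def]
      simp [mul_assoc]
  obtain ⟨w, hw, hwu⟩ := hle hu
  obtain rfl : w = ⟨u, core_le_Vi s c hk hm fr hb j hu⟩ := Subtype.ext hwu
  exact hw

theorem core_psi (j : Fin m) {u : G} (hu : u ∈ Cfsg.pCoreOf 2 (e j))
    (h : ψ ⟨u, core_le_Vi s c hk hm fr hb j hu⟩ = 1) : u = 1 :=
  core_inf_cent s c hk hm fr hb j hu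
    (centralizer_le (SetLike.coe_subset_coe.2 (hb j).le) ((hψ.ker _).1 h))

theorem core_inf (j l : Fin m) (hjl : j ≠ l) {u : G} (hu : u ∈ Cfsg.pCoreOf 2 (e j))
    (hu' : u ∈ Cfsg.pCoreOf 2 (e l)) : u = 1 := by
  refine core_psi s c hk hm fr hb hψ j hu ?_
  set v := Multiplicative.toAdd (ψ ⟨u, core_le_Vi s c hk hm fr hb j hu⟩) with hv
  have h0 : ∀ q, q ≠ pz m → v q = 0 := by
    intro q hq
    obtain ⟨n, hn⟩ := (pt_cases q).resolve_left hq
    by_cases hnj : n = j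
    · have := core_supp s c hk hm fr hb hψ l hu' (l := n) (hnj ▸ hjl)
      rcases hn with rfl | rfl
      · exact this.1
      · exact this.2
    · have := core_supp s c hk hm fr hb hψ j hu hnj
      rcases hn with rfl | rfl
      · exact this.1
      · exact this.2
  have hz : v (pz m) = 0 := by
    have := hψ.even ⟨u, core_le_Vi s c hk hm fr hb j hu⟩
    rwa [Finset.sum_eq_single (pz m) (fun q _ hq => h0 q hq)
      (fun h => absurd (Finset.mem_univ _) h)] at this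
  refine Multiplicative.toAdd.injective (funext fun q => ?_)
  by_cases hq : q = pz m
  · subst hq; exact hz
  · exact h0 q hq

theorem exists_core_ne (j : Fin m) : ∃ u ∈ Cfsg.pCoreOf 2 (e j), u ≠ 1 := by
  by_contra h
  push Not at h
  refine (facts_of_block (hb j).block).not_mod_le_centralizer ?_
  rw [core_modE s c hk hm fr hb j]
  exact fun u hu => by rw [h u hu]; exact one_mem _

theorem fix_pa {t : ↥(nJ 2 G)} (l : Fin m) (htp : π i t ∈ pairsSub m)
    (htc : ∀ u ∈ Cfsg.pCoreOf 2 (e l), (t : G) * u = u * t) : π i t (pa l) = pa l := by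
  rcases mem_pairs.1 htp l with h | h
  · exact h.1
  exfalso
  obtain ⟨u, hu, hu1⟩ := exists_core_ne s c hk hm fr hb hψ l
  have hsym : ∀ (u : G) (hu : u ∈ Cfsg.pCoreOf 2 (e l)),
      Multiplicative.toAdd (ψ ⟨u, core_le_Vi s c hk hm fr hb l hu⟩) (pa l) =
        Multiplicative.toAdd (ψ ⟨u, core_le_Vi s c hk hm fr hb l hu⟩) (pb l) := by
    intro u hu
    obtain ⟨w, hw, hwi⟩ := hψ.act t ⟨u, core_le_Vi s c hk hm fr hb l hu⟩
    obtain rfl : w = ⟨u, core_le_Vi s c hk hm fr hb l hu⟩ := Subtype.ext (by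
      rw [hw]; show (t : G) * u * (t : G)⁻¹ = u
      rw [htc u hu, mul_inv_cancel_right])
    have h1 := hwi (pa l)
    rwa [show (π i t)⁻¹ (pa l) = pb l by rw [Equiv.Perm.inv_eq_iff_eq, h.2]] at h1
  set v := Multiplicative.toAdd (ψ ⟨u, core_le_Vi s c hk hm fr hb l hu⟩) with hv
  -- all three values
  have hzero : ∀ q, q ≠ pa l → q ≠ pb l → q ≠ pz m → v q = 0 := by
    intro q h1 h2 h3
    obtain ⟨n, hn⟩ := (pt_cases q).resolve_left h3
    have hnl : n ≠ l := by rintro rfl; rcases hn with rfl | rfl <;> contradiction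
    rcases hn with rfl | rfl
    · exact (core_supp s c hk hm fr hb hψ l hu hnl).1
    · exact (core_supp s c hk hm fr hb hψ l hu hnl).2
  have hsum : ∀ (f : Fin (2 * m + 1) → ZMod 2),
      (∀ q, q ≠ pa l → q ≠ pb l → q ≠ pz m → f q = 0) → f (pa l) = f (pb l) →
      ∑ q, f q = f (pz m) := by
    intro f hf hab
    rw [← Finset.sum_subset (Finset.subset_univ {pa l, pb l, pz m}) (fun q _ hq => by
      simp only [Finset.mem_insert, Finset.mem_singleton, not_or] at hq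
      exact hf q hq.1 hq.2.1 hq.2.2),
      Finset.sum_insert (by simp only [Finset.mem_insert, Finset.mem_singleton, not_or]; exact ⟨pa_ne_pb, pa_ne_pz⟩),
      Finset.sum_insert (by rw [Finset.mem_singleton]; exact pb_ne_pz),
      Finset.sum_singleton, hab, ← add_assoc, CharTwo.add_self_eq_zero, zero_add]
  have hz : v (pz m) = 0 := (hsum v hzero (hsym u hu)).symm.trans (hψ.even _)
  have ha : v (pa l) = 1 := by
    refine (zmod_two_cases _).resolve_left fun h0 => hu1 (core_psi s c hk hm fr hb hψ l hu ?_)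
    refine Multiplicative.toAdd.injective (funext fun q => ?_)
    rw [← hv, toAdd_one, Pi.zero_apply]
    by_cases h1 : q = pa l
    · subst h1; exact h0
    by_cases h2 : q = pb l
    · subst h2; exact (hsym u hu).symm.trans h0
    by_cases h3 : q = pz m
    · subst h3; exact hz
    exact hzero q h1 h2 h3
  obtain ⟨g, hg, hgz⟩ := (hb l).moves
  have hgu : (g : G) * u * (g : G)⁻¹ ∈ Cfsg.pCoreOf 2 (e l) :=
    H75.conj_mem_of_mem_normalizer
      (le_normalizer.trans (H75.normalizer_le_normalizer_pCoreOf _) hg) hu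
  set w := Multiplicative.toAdd (ψ ⟨_, core_le_Vi s c hk hm fr hb l hgu⟩) with hw
  have hwz : w (pz m) = 0 := by
    refine (hsum w (fun q h1 h2 h3 => ?_) (hsym _ hgu)).symm.trans (hψ.even _)
    obtain ⟨n, hn⟩ := (pt_cases q).resolve_left h3
    have hnl : n ≠ l := by rintro rfl; rcases hn with rfl | rfl <;> contradiction
    rcases hn with rfl | rfl
    · exact (core_supp s c hk hm fr hb hψ l hgu hnl).1
    · exact (core_supp s c hk hm fr hb hψ l hgu hnl).2
  rw [hw, hψ.act' g ⟨u, core_le_Vi s c hk hm fr hb l hu⟩] at hwz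
  obtain ⟨q, hq⟩ := hold_range (inv_mem ((hb l).hold g hg)) 2
  replace hq : tri l q = (π i g)⁻¹ (pz m) := hq
  rw [← hv, ← hq] at hwz
  fin_cases q
  · exact zero_ne_one (hwz.symm.trans ha)
  · exact zero_ne_one (hwz.symm.trans ((hsym u hu).symm.trans ha))
  · exact hgz (by
      have h2 : (π i g)⁻¹ (pz m) = pz m := hq.symm
      exact ((Equiv.Perm.inv_eq_iff_eq).1 h2).symm)

omit hψ

theorem sup_le_E : (⨆ j, e j) ≤ E i := iSup_le fun j => (hb j).le

theorem bT_norm_sup : bT 2 (T : Subgroup G) ≤ normalizer ((⨆ j, e j : Subgroup G) : Set G) := by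
  refine H75.le_normalizer_of_conj fun b hb' a ha => ?_
  have h : (⨆ j, e j).map (MulAut.conj b).toMonoidHom ≤ ⨆ j, e j := by
    rw [Subgroup.map_iSup]
    exact iSup_le fun j => (map_conj_of_mem ((hb j).bT_norm hb')).le.trans (le_iSup e j)
  exact h ⟨a, ha, rfl⟩

theorem image_alt (g : ↥(nJ 2 G)) (hg : (g : G) ∈ ⨆ j, e j) :
    π i g ∈ alternatingGroup (Fin (2 * m + 1)) := by
  have hle : (⨆ j, e j) ≤ ((alternatingGroup (Fin (2 * m + 1))).comap (π i)).map (nJ 2 G).subtype :=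
    iSup_le fun j a ha => ⟨⟨a, le_nJ s c hk hm fr hb j ha⟩, (hb j).even _ ha, rfl⟩
  obtain ⟨g', hg', hgg⟩ := hle hg
  obtain rfl : g' = g := Subtype.ext hgg
  exact hg'

theorem exists_lift {σ : Equiv.Perm (Fin (2 * m + 1))}
    (hσ : σ ∈ alternatingGroup (Fin (2 * m + 1))) :
    ∃ g : ↥(nJ 2 G), (g : G) ∈ (⨆ j, e j) ∧ π i g = σ := by
  have hH : ((⨆ j, e j).subgroupOf (nJ 2 G)).map (π i) = alternatingGroup (Fin (2 * m + 1)) := by
    refine eq_alternating hm ?_ ?_ fun j => ?_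
    · rintro _ ⟨g, hg, rfl⟩
      exact image_alt s c hk hm fr hb g hg
    · intro a ha
      obtain ⟨u, hu, -, rfl⟩ := c.exists_root i ha
      refine mem_normalizer_iff_map_conj_eq.2 (eq_of_le_of_card_ge ?_
        (card_map_of_injective (MulAut.conj _).injective).ge)
      rintro _ ⟨_, ⟨g, hg, rfl⟩, rfl⟩
      refine ⟨u * g * u⁻¹, ?_, by simp⟩
      show (u : G) * (g : G) * (u : G)⁻¹ ∈ ⨆ j, e j
      exact H75.conj_mem_of_mem_normalizer (bT_norm_sup s c hk hm fr hb (s.jT_le_bT hu)) hg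
    · obtain ⟨g, hg, hgz⟩ := (hb j).moves
      exact ⟨_, ⟨g, mem_iSup_of_mem j hg, rfl⟩, (hb j).hold g hg, hgz⟩
  obtain ⟨g, hg, rfl⟩ := hH.ge hσ
  exact ⟨g, hg, rfl⟩

theorem gen : E i ≤ (⨆ j, e j) ⊔ jT 2 (T : Subgroup G) ⊔ cenV 2 G := by
  intro g hg
  have hgn : g ∈ nJ 2 G := c.E_le i hg
  have j₀ : Fin m := ⟨0, by omega⟩
  obtain ⟨a, ha, hpa⟩ : ∃ a : ↥(nJ 2 G), (a : G) ∈ (⨆ j, e j) ∧
      (π i a)⁻¹ * π i ⟨g, hgn⟩ ∈ pairsSub m := by
    rcases Int.units_eq_one_or (Equiv.Perm.sign (π i ⟨g, hgn⟩)) with h | h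
    · obtain ⟨a, ha, hae⟩ := exists_lift s c hk hm fr hb (Equiv.Perm.mem_alternatingGroup.2 h)
      exact ⟨a, ha, by rw [hae, inv_mul_cancel]; exact one_mem _⟩
    · obtain ⟨a, ha, hae⟩ := exists_lift s c hk hm fr hb
        (σ := π i ⟨g, hgn⟩ * tau j₀) (by
          rw [Equiv.Perm.mem_alternatingGroup, map_mul, h, Equiv.Perm.sign_swap pa_ne_pb]; rfl)
      refine ⟨a, ha, ?_⟩
      rw [hae, mul_inv_rev, inv_mul_cancel_right]
      exact inv_mem (tau_mem j₀)
  have hrest : ((a⁻¹ * ⟨g, hgn⟩ : ↥(nJ 2 G)) : G) ∈ jT 2 (T : Subgroup G) ⊔ cenV 2 G := by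
    refine c.mem_jTC fun l => ?_
    rw [map_mul, map_inv]
    by_cases hl : l = i
    · subst hl; exact hpa
    · rw [c.pi_other (sup_le_E s c hk hm fr hb ha) hl, c.pi_other (g := ⟨g, hgn⟩) hg hl,
        inv_one, one_mul]
      exact one_mem _
  have := mul_mem (mem_sup_left (mem_sup_left ha) :
      _ ∈ (⨆ j, e j) ⊔ jT 2 (T : Subgroup G) ⊔ cenV 2 G)
    ((sup_le (le_sup_right.trans le_sup_left) le_sup_right :
      jT 2 (T : Subgroup G) ⊔ cenV 2 G ≤ (⨆ j, e j) ⊔ jT 2 (T : Subgroup G) ⊔ cenV 2 G) hrest)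
  simpa using this

theorem nJ_norm_sup : nJ 2 G ≤ normalizer ((⨆ j, e j : Subgroup G) : Set G) := by
  have hone : ∀ g, (∀ j, g ∈ normalizer (e j : Set G)) →
      g ∈ normalizer ((⨆ j, e j : Subgroup G) : Set G) := fun g hg => by
    refine mem_normalizer_of_map_conj ?_
    rw [Subgroup.map_iSup]
    exact iSup_congr fun j => map_conj_of_mem (hg j)
  rw [← c.sup]
  refine iSup_le fun l => ?_
  by_cases hl : l = i
  · subst hl
    exact (gen s c hk hm fr hb).trans (sup_le (sup_le le_normalizer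
      (s.jT_le_bT.trans (bT_norm_sup s c hk hm fr hb)))
      fun g hg => hone g fun j => C_norm s c hk hm fr hb j hg)
  · exact fun g hg => hone g fun j => El_norm s c hk hm fr hb j hl hg

theorem sup_le_L : (⨆ j, e j) ≤ Setting.lGrp 2 (T : Subgroup G) x :=
  iSup_le fun j => (hb j).le_L

theorem W_le_V : (⨆ j, Cfsg.pCoreOf 2 (e j)) ≤ modV 2 G :=
  iSup_le fun j => core_le_V s c hk hm fr hb j

theorem W_le : (⨆ j, Cfsg.pCoreOf 2 (e j)) ≤ ⨆ j, e j :=
  iSup_mono fun _ => H75.pCoreOf_le _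

theorem sup_norm_W : (⨆ j, e j) ≤ normalizer ((⨆ j, Cfsg.pCoreOf 2 (e j) : Subgroup G) : Set G) := by
  refine iSup_le fun j => H75.le_normalizer_of_conj fun a ha w hw => ?_
  have h := mem_iSup_of_mem (S := fun j => Cfsg.pCoreOf 2 (e j)) j
    (comm_V s c hk hm fr hb j (W_le_V s c hk hm fr hb hw) ha)
  have h2 := mul_mem (inv_mem h) hw
  rwa [show ⁅w, a⁆⁻¹ * w = a * w * a⁻¹ by simp only [commutatorElement_def]; group] at h2

theorem comm_sup {u : G}
    (hu : ∀ j, ∀ a ∈ e j, ⁅u, a⁆ ∈ ⨆ j, Cfsg.pCoreOf 2 (e j)) {g : G} (hg : g ∈ ⨆ j, e j) :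
    ⁅u, g⁆ ∈ ⨆ j, Cfsg.pCoreOf 2 (e j) := by
  set W := ⨆ j, Cfsg.pCoreOf 2 (e j) with hW
  have hN := sup_norm_W s c hk hm fr hb
  suffices h : ⁅u, g⁆ ∈ W ∧ g ∈ ⨆ j, e j from h.1
  refine Subgroup.iSup_induction e (C := fun g => ⁅u, g⁆ ∈ W ∧ g ∈ ⨆ j, e j) hg
    (fun j a ha => ⟨hu j a ha, mem_iSup_of_mem j ha⟩) ⟨by simp, one_mem _⟩ ?_
  rintro a b ⟨ha, ha'⟩ ⟨hb', hb''⟩
  refine ⟨?_, mul_mem ha' hb''⟩
  rw [show ⁅u, a * b⁆ = ⁅u, a⁆ * (a * ⁅u, b⁆ * a⁻¹) by simp only [commutatorElement_def]; group]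
  exact mul_mem ha (H75.conj_mem_of_mem_normalizer (hN ha') hb')

theorem sup_inf_cen_pgroup : IsPGroup 2 ↥((⨆ j, e j) ⊓ cenV 2 G) := by
  refine isPGroup_of_no_coprime fun y hy hyo => ?_
  have hyQ : y ∈ centralizer (Cfsg.pCore 2 G : Set G) := by
    refine mem_centralizer_iff.2 fun q hq => (comm_eq_of_coprime (p := 2)
      (T.isPGroup'.to_le (H1.pCore_le_sylow T)) hyo ?_ ?_).symm
    · exact mul_mem ((H1.pCore_normal' 2 G).conj_mem q hq _) (inv_mem hq)
    · have hqy : ⁅q, y⁆ ∈ ⨆ j, Cfsg.pCoreOf 2 (e j) :=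
        comm_sup s c hk hm fr hb (fun j a ha => mem_iSup_of_mem j
          (comm_C s c hk hm fr hb j (s.data.core_le_cenV hq) ha)) hy.1
      have hW : y * q * y⁻¹ * q⁻¹ ∈ modV 2 G := W_le_V s c hk hm fr hb (by
        rw [show y * q * y⁻¹ * q⁻¹ = ⁅q, y⁆⁻¹ by simp only [commutatorElement_def]; group]
        exact inv_mem hqy)
      exact (mem_centralizer_iff.1 hy.2 _ hW).symm
  obtain ⟨n, hn⟩ := H1.isPGroup_pCore 2 G ⟨y, s.data.charp hyQ⟩
  exact orderOf_eq_one_iff.1 (Nat.eq_one_of_dvd_coprimes (hyo.pow_right n) dvd_rfl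
    (orderOf_dvd_of_pow_eq_one (by simpa using congrArg Subtype.val hn)))

/-- The coordinate of the block. -/
noncomputable abbrev th {e : Fin m → Subgroup G} (h : (⨆ j, e j) ≤ nJ 2 G) (i : Fin r)
    (π : Fin r → (↥(nJ 2 G) →* Equiv.Perm (Fin (2 * m + 1)))) :
    ↥(⨆ j, e j) →* Equiv.Perm (Fin (2 * m + 1)) :=
  (π i).comp (inclusion h)

theorem th_ker (g : ↥(⨆ j, e j)) :
    th ((sup_le_E s c hk hm fr hb).trans (c.E_le i)) i π g = 1 ↔ (g : G) ∈ cenV 2 G := by
  constructor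
  · intro h
    refine (c.ker ⟨(g : G), c.E_le i (sup_le_E s c hk hm fr hb g.2)⟩).1 fun l => ?_
    by_cases hl : l = i
    · subst hl; exact h
    · exact c.pi_other (g := ⟨(g : G), (c.E_le i) (sup_le_E s c hk hm fr hb g.2)⟩)
        (sup_le_E s c hk hm fr hb g.2) hl
  · exact fun h => c.pi_cen (g := ⟨(g : G), (c.E_le i) (sup_le_E s c hk hm fr hb g.2)⟩) h i

theorem pre_pairs_le_bT (g : ↥(nJ 2 G)) (hg : (g : G) ∈ ⨆ j, e j) (hp : π i g ∈ pairsSub m) :
    (g : G) ∈ bT 2 (T : Subgroup G) := by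
  haveI hCn : (cenV 2 G).Normal := Data.cenV_normal
  set θ := th ((sup_le_E s c hk hm fr hb).trans (c.E_le i)) i π with hθ
  set P0 := ((pairsSub m).comap θ).map (⨆ j, e j).subtype with hP0
  have hBp : IsPGroup 2 (bT 2 (T : Subgroup G)) := T.isPGroup'.to_le s.bT_le_T
  have hP0p : IsPGroup 2 P0 := by
    refine IsPGroup.map (IsPGroup.comap_of_ker_isPGroup pairs_isPGroup _ ?_) _
    exact ((sup_inf_cen_pgroup s c hk hm fr hb).comap_subtype (K := ⨆ j, e j)).to_le fun a ha =>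
      ⟨a.2, (th_ker s c hk hm fr hb a).1 ha⟩
  have hBN : bT 2 (T : Subgroup G) ≤ normalizer (P0 : Set G) := by
    refine H75.le_normalizer_of_conj fun b hb' a ha => ?_
    have hbn : b ∈ nJ 2 G := s.bT_le_nJ fr hb'
    obtain ⟨a', ha', rfl⟩ := ha
    refine ⟨⟨_, H75.conj_mem_of_mem_normalizer (bT_norm_sup s c hk hm fr hb hb') a'.2⟩, ?_, rfl⟩
    show π i ⟨b * a' * b⁻¹, _⟩ ∈ pairsSub m
    rw [show (⟨b * a' * b⁻¹, _⟩ : ↥(nJ 2 G)) =
      ⟨b, hbn⟩ * ⟨a', c.E_le i (sup_le_E s c hk hm fr hb a'.2)⟩ * ⟨b, hbn⟩⁻¹ from Subtype.ext rfl,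
      map_mul, map_mul, map_inv]
    exact mul_mem (mul_mem (c.pi_mem (g := ⟨b, hbn⟩) (s.bT_le fr hb') i) ha')
      (inv_mem (c.pi_mem (g := ⟨b, hbn⟩) (s.bT_le fr hb') i))
  set R := P0 ⊔ bT 2 (T : Subgroup G) with hR
  have hRp : IsPGroup 2 R := hP0p.to_sup_of_normal_left' hBp hBN
  have hRJ : R ≤ jT 2 (T : Subgroup G) ⊔ cenV 2 G := by
    refine sup_le ?_ (s.bT_le fr)
    rintro _ ⟨a, ha, rfl⟩
    refine c.mem_jTC (g := ⟨a, c.E_le i (sup_le_E s c hk hm fr hb a.2)⟩) fun l => ?_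
    by_cases hl : l = i
    · subst hl; exact ha
    · rw [c.pi_other (g := ⟨a, c.E_le i (sup_le_E s c hk hm fr hb a.2)⟩)
        (sup_le_E s c hk hm fr hb a.2) hl]
      exact one_mem _
  have hgR : (g : G) ∈ R := mem_sup_left ⟨⟨g, hg⟩, hp, rfl⟩
  obtain ⟨u, hu, j, hj, huj⟩ := H1.exists_mul_of_mem_sup
    (le_top.trans (normalizer_eq_top_iff.2 hCn).ge :
      jT 2 (T : Subgroup G) ≤ normalizer (cenV 2 G : Set G))
    (by rw [sup_comm]; exact hRJ hgR : (g : G) ∈ cenV 2 G ⊔ jT 2 (T : Subgroup G))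
  have huR : u ∈ R := by
    have := mul_mem hgR (inv_mem (mem_sup_right (s.jT_le_bT hj) : j ∈ R))
    rwa [huj, mul_inv_cancel_right] at this
  rw [huj]
  refine mul_mem (s.pgroup_le_bT fr (R := R ⊓ cenV 2 G) (hRp.to_le inf_le_left) ?_ inf_le_right
    ⟨huR, hu⟩) (s.jT_le_bT hj)
  exact inf_le_left.trans (sup_le ((map_subtype_le _).trans (sup_le_L s c hk hm fr hb))
    le_sup_left)

theorem sup_res : H75.resOf 2 (⨆ j, e j) = ⨆ j, e j :=
  le_antisymm ((closure_le _).2 fun _ h => h.1) (iSup_le fun j =>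
    (facts_of_block (hb j).block).res.ge.trans (H75.resOf_mono (le_iSup e j)))

include hψ

theorem inf_cen_eq : (⨆ j, e j) ⊓ cenV 2 G = ⨆ j, Cfsg.pCoreOf 2 (e j) := by
  classical
  refine le_antisymm ?_ (le_inf (W_le s c hk hm fr hb)
    ((W_le_V s c hk hm fr hb).trans s.modV_le_cenV))
  set Eb := ⨆ j, e j with hEb
  set W := ⨆ j, Cfsg.pCoreOf 2 (e j) with hW
  have hEn : Eb ≤ nJ 2 G := (sup_le_E s c hk hm fr hb).trans (c.E_le i)
  set θ := th hEn i π with hθ
  haveI hWn : (W.subgroupOf Eb).Normal :=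
    normal_subgroupOf_of_le_normalizer (sup_norm_W s c hk hm fr hb)
  have hWker : W.subgroupOf Eb ≤ θ.ker := fun a ha => (th_ker s c hk hm fr hb a).2
    (s.modV_le_cenV (W_le_V s c hk hm fr hb ha))
  set φ := QuotientGroup.lift (W.subgroupOf Eb) θ hWker with hφ
  have hθr : θ.range = alternatingGroup (Fin (2 * m + 1)) := by
    refine le_antisymm ?_ fun σ hσ => ?_
    · rintro _ ⟨g, rfl⟩
      exact image_alt s c hk hm fr hb ⟨g, hEn g.2⟩ g.2
    · obtain ⟨g, hg, rfl⟩ := exists_lift s c hk hm fr hb hσ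
      exact ⟨⟨g, hg⟩, rfl⟩
  have hφr : φ.range = alternatingGroup (Fin (2 * m + 1)) := by
    rw [← hθr]
    refine le_antisymm ?_ ?_
    · rintro _ ⟨q, rfl⟩
      obtain ⟨g, rfl⟩ := QuotientGroup.mk_surjective q
      exact ⟨g, rfl⟩
    · rintro _ ⟨g, rfl⟩
      exact ⟨QuotientGroup.mk g, rfl⟩
  have hcen : φ.ker ≤ center (↥Eb ⧸ W.subgroupOf Eb) := by
    intro q hq
    obtain ⟨d, rfl⟩ := QuotientGroup.mk_surjective q
    refine mem_center_iff.2 fun q' => ?_
    obtain ⟨g, rfl⟩ := QuotientGroup.mk_surjective q'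
    have h : ⁅(d : G), (g : G)⁆ ∈ W := comm_sup s c hk hm fr hb (fun j a ha => mem_iSup_of_mem j
      (comm_C s c hk hm fr hb j ((th_ker s c hk hm fr hb d).1 hq) ha)) g.2
    have h1 : (QuotientGroup.mk ⁅d, g⁆ : ↥Eb ⧸ W.subgroupOf Eb) = 1 :=
      (QuotientGroup.eq_one_iff _).2 h
    rw [← QuotientGroup.mk'_apply, map_commutatorElement, commutatorElement_eq_one_iff_mul_comm] at h1
    exact h1.symm
  have hperf : commutator (↥Eb ⧸ W.subgroupOf Eb) = ⊤ := by
    rw [← Abelianization.ker_of]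
    refine eq_top_iff.2 fun q _ => ?_
    obtain ⟨g, rfl⟩ := QuotientGroup.mk_surjective q
    set f := (Abelianization.of).comp (QuotientGroup.mk' (W.subgroupOf Eb)) with hf
    show f g = 1
    have hsurj : (commutator ↥Eb).map θ = alternatingGroup (Fin (2 * m + 1)) := by
      rw [_root_.commutator_def, map_commutator, ← MonoidHom.range_eq_map, hθr]
      have h5 := commutator_alternatingGroup_eq_top (α := Fin (2 * m + 1))
        (by rw [Nat.card_fin]; omega)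
      conv_rhs => rw [← range_subtype (alternatingGroup (Fin (2 * m + 1))), MonoidHom.range_eq_map,
        ← h5, _root_.commutator_def, map_commutator, ← MonoidHom.range_eq_map, range_subtype]
    obtain ⟨h, hh, hhg⟩ := hsurj.ge (hθr.le ⟨g, rfl⟩)
    have hd : ((h⁻¹ * g : ↥Eb) : G) ∈ Eb ⊓ cenV 2 G :=
      ⟨(h⁻¹ * g).2, (th_ker s c hk hm fr hb _).1 (by
        show θ (h⁻¹ * g) = 1
        rw [map_mul, map_inv, hhg, inv_mul_cancel])⟩
    have h1 : f (h⁻¹ * g) = 1 :=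
      H80.PU.map_eq_one_of_resOf (sup_res s c hk hm fr hb) f
        (sup_inf_cen_pgroup s c hk hm fr hb) hd
    have h2 : f h = 1 := Abelianization.commutator_subset_ker f hh
    rwa [map_mul, map_inv, h2, inv_one, one_mul] at h1
  -- an involution over a double transposition
  let j₀ : Fin m := ⟨0, by omega⟩
  let j₁ : Fin m := ⟨1, by omega⟩
  have hne : j₁ ≠ j₀ := by simp [j₀, j₁, Fin.ext_iff]
  obtain ⟨t, htB, ht2, htj, htp, htc⟩ := (hb j₀).shift
  have htau : π i t = tau j₀ := by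
    have hfix : ∀ l, l ≠ j₀ → π i t (pa l) = pa l := by
      intro l hl
      refine fix_pa s c hk hm fr hb hψ l htp fun u hu => ?_
      have h1 := htc u (modV_le_bT s c hk hm fr hb (core_le_V s c hk hm fr hb l hu))
      have h2 : ⁅u, (t : G)⁆ ∈ Cfsg.pCoreOf 2 (e l) := by
        rw [commutatorElement_def, mul_assoc, mul_assoc, ← mul_assoc (t : G)]
        exact mul_mem hu (H75.conj_mem_of_mem_normalizer
          (H75.normalizer_le_normalizer_pCoreOf _ ((hb l).bT_norm htB)) (inv_mem hu))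
      exact (commutatorElement_eq_one_iff_mul_comm.1
        (core_inf s c hk hm fr hb hψ j₀ l (Ne.symm hl) h1 h2)).symm
    ext q
    rcases pt_cases q with rfl | ⟨l, rfl | rfl⟩
    · rw [pairs_pz htp, tau_pz]
    · by_cases hl : l = j₀
      · subst hl; rw [htj, show tau j₀ (pa j₀) = pb j₀ from Equiv.swap_apply_left _ _]
      · rw [hfix l hl, show tau j₀ (pa l) = pa l from
          Equiv.swap_apply_of_ne_of_ne (fun e => hl (pa_inj e)) pa_ne_pb]
    · rcases mem_pairs.1 htp l with h | h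
      · by_cases hl : l = j₀
        · subst hl; exact absurd (h.1.symm.trans htj) pa_ne_pb
        · rw [h.2, show tau j₀ (pb l) = pb l from
            Equiv.swap_apply_of_ne_of_ne pb_ne_pa (fun e => hl (pb_inj e))]
      · by_cases hl : l = j₀
        · subst hl; rw [h.2, show tau j₀ (pb j₀) = pa j₀ from Equiv.swap_apply_right _ _]
        · exact absurd ((hfix l hl).symm.trans h.1) pa_ne_pb
  set σ : Equiv.Perm (Fin (2 * m + 1)) :=
    Equiv.swap (pa j₀) (pa j₁) * Equiv.swap (pb j₀) (pb j₁) with hσ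
  have hσA : σ ∈ alternatingGroup (Fin (2 * m + 1)) := by
    rw [Equiv.Perm.mem_alternatingGroup, hσ, map_mul,
      Equiv.Perm.sign_swap (fun e => hne (pa_inj e).symm),
      Equiv.Perm.sign_swap (fun e => hne (pb_inj e).symm)]
    rfl
  have hστ : σ * tau j₀ * σ⁻¹ = tau j₁ := by
    rw [← Equiv.swap_apply_apply]
    have e1 : σ (pa j₀) = pa j₁ := by
      rw [hσ, Equiv.Perm.mul_apply, Equiv.swap_apply_of_ne_of_ne pa_ne_pb pa_ne_pb,
        Equiv.swap_apply_left]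
    have e2 : σ (pb j₀) = pb j₁ := by
      rw [hσ, Equiv.Perm.mul_apply, Equiv.swap_apply_left,
        Equiv.swap_apply_of_ne_of_ne pb_ne_pa pb_ne_pa]
    rw [e1, e2]
  obtain ⟨g, hg, hgσ⟩ := exists_lift s c hk hm fr hb hσA
  set y : G := ⁅(g : G), (t : G)⁆ with hy
  have hyE : y ∈ Eb := by
    rw [hy, commutatorElement_def, mul_assoc, mul_assoc, ← mul_assoc (t : G)]
    exact mul_mem hg (H75.conj_mem_of_mem_normalizer (bT_norm_sup s c hk hm fr hb htB) (inv_mem hg))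
  have hyπ : π i (⁅g, t⁆ : ↥(nJ 2 G)) = tau j₁ * tau j₀ := by
    rw [map_commutatorElement, hgσ, htau, commutatorElement_def, hστ]
    congr 1
  have hyB : y ∈ bT 2 (T : Subgroup G) := pre_pairs_le_bT s c hk hm fr hb ⁅g, t⁆ hyE
    (hyπ ▸ mul_mem (tau_mem j₁) (tau_mem j₀))
  have hy2 : y ^ 2 ∈ W := by
    set β := (g : G) * t * (g : G)⁻¹ with hβ
    have hyt : y = β * (t : G)⁻¹ := rfl
    have hβB : β ∈ bT 2 (T : Subgroup G) := by
      have := mul_mem hyB htB
      rwa [hyt, inv_mul_cancel_right] at this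
    have hti : (t : G)⁻¹ = t := inv_eq_of_mul_eq_one_right (by rw [← pow_two]; exact ht2)
    have hβi : β⁻¹ = β := by rw [hβ, mul_inv_rev, mul_inv_rev, inv_inv, hti, mul_assoc]
    have h := mem_iSup_of_mem (S := fun j => Cfsg.pCoreOf 2 (e j)) j₀ (htc β hβB)
    rw [commutatorElement_def, hβi, hti] at h
    rwa [pow_two, hyt, hti, ← mul_assoc]
  have hker := SC.ker_eq_bot (n := 2 * m + 1) (by omega) (by omega)
    (fun h => by
      have h3 : m = 3 := by omega
      rw [h3] at hk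
      rcases k with _ | _ | _ | k <;> simp_all [pow_succ] <;> omega)
    φ hφr hcen hperf (τ := QuotientGroup.mk ⟨y, hyE⟩) (by
      rw [← QuotientGroup.mk_pow]
      exact (QuotientGroup.eq_one_iff _).2 hy2)
    (a := pa j₁) (b := pb j₁) (c := pa j₀) (d := pb j₀) (by
      simp [pa_ne_pb, j₀, j₁, Fin.ext_iff]) (by
      rw [show φ (QuotientGroup.mk ⟨y, hyE⟩) = θ ⟨y, hyE⟩ from rfl]
      exact hyπ)
  intro d hd
  have h1 : (QuotientGroup.mk (⟨d, hd.1⟩ : ↥Eb) : ↥Eb ⧸ W.subgroupOf Eb) ∈ φ.ker :=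
    (th_ker s c hk hm fr hb ⟨d, hd.1⟩).2 hd.2
  rw [hker, mem_bot, QuotientGroup.eq_one_iff] at h1
  exact h1

theorem pCore_sup : Cfsg.pCoreOf 2 (⨆ j, e j) = ⨆ j, Cfsg.pCoreOf 2 (e j) := by
  refine le_antisymm ?_ ?_
  · rw [← inf_cen_eq s c hk hm fr hb hψ]
    refine le_inf (H75.pCoreOf_le _) ?_
    have hsub : (⨆ j, e j).IsSubnormal :=
      .step _ (nJ 2 G) ((sup_le_E s c hk hm fr hb).trans (c.E_le i)) Setting.nJ_normal.isSubnormal
        (normal_subgroupOf_of_le_normalizer (nJ_norm_sup s c hk hm fr hb))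
    exact (H75.pCoreOf_le_of_subnormal hsub).trans s.data.core_le_cenV
  · refine H75.le_pCoreOf (W_le s c hk hm fr hb) (sup_norm_W s c hk hm fr hb) ?_
    exact (T.isPGroup'.to_le (H1.pCore_le_sylow T)).to_le
      ((W_le_V s c hk hm fr hb).trans Setting.modV_le_core)

theorem isBlock : Cfsg.IsBaumannBlock 2 (T : Subgroup G) (⨆ j, e j) ∧
    Nonempty (↥(⨆ j, e j) ⧸ Cfsg.pCore 2 ↥(⨆ j, e j) ≃*
      ↥(alternatingGroup (Fin (2 * m + 1)))) := by
  classical
  set Eb := ⨆ j, e j with hEb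
  set W := ⨆ j, Cfsg.pCoreOf 2 (e j) with hW
  have hQ : Cfsg.pCoreOf 2 Eb = W := pCore_sup s c hk hm fr hb hψ
  have hEn : Eb ≤ nJ 2 G := (sup_le_E s c hk hm fr hb).trans (c.E_le i)
  set θ := th hEn i π with hθ
  have hθr : θ.range = alternatingGroup (Fin (2 * m + 1)) := by
    refine le_antisymm ?_ fun σ hσ => ?_
    · rintro _ ⟨g, rfl⟩
      exact image_alt s c hk hm fr hb ⟨g, hEn g.2⟩ g.2
    · obtain ⟨g, hg, rfl⟩ := exists_lift s c hk hm fr hb hσ
      exact ⟨⟨g, hg⟩, rfl⟩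
  have hθk : θ.ker = Cfsg.pCore 2 ↥Eb := by
    apply map_injective Eb.subtype_injective
    show θ.ker.map Eb.subtype = Cfsg.pCoreOf 2 Eb
    rw [hQ, hW, ← inf_cen_eq s c hk hm fr hb hψ]
    ext g
    constructor
    · rintro ⟨g, hg, rfl⟩
      exact ⟨g.2, (th_ker s c hk hm fr hb g).1 hg⟩
    · exact fun hg => ⟨⟨g, hg.1⟩, (th_ker s c hk hm fr hb ⟨g, hg.1⟩).2 hg.2, rfl⟩
  haveI := H1.pCore_normal' 2 ↥Eb
  have iso : ↥Eb ⧸ Cfsg.pCore 2 ↥Eb ≃* ↥(alternatingGroup (Fin (2 * m + 1))) :=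
    (QuotientGroup.quotientMulEquivOfEq hθk.symm).trans
      ((QuotientGroup.quotientKerEquivRange _).trans (MulEquiv.subgroupCongr hθr))
  have hW2 : ∀ w ∈ W, w ^ 2 = 1 := fun w hw =>
    Setting.modV_elem.2 w (W_le_V s c hk hm fr hb hw)
  have hΩ : Cfsg.omegaOneCenter 2 W = W :=
    H80.PU.omega_eq_self (fun a ha b hb' => H10.comm_of_elem Setting.modV_elem
      (W_le_V s c hk hm fr hb ha) (W_le_V s c hk hm fr hb hb')) hW2
  have hWVi : W ≤ ⁅modV 2 G, E i⁆ := iSup_le fun j => core_le_Vi s c hk hm fr hb j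
  refine ⟨⟨?_, ?_, ?_, ?_, Or.inr ⟨rfl, m, ⟨iso⟩, ?_, ?_⟩⟩, ⟨iso⟩⟩
  · rw [Cfsg.pResidualOf, H75.map_pResidual_eq_resOf]
    exact sup_res s c hk hm fr hb
  · refine le_antisymm (commutator_le.2 fun a ha b hb' => ?_) (iSup_le fun j => ?_)
    · rw [commutatorElement_def, mul_assoc, mul_assoc, ← mul_assoc b]
      exact mul_mem ha (H75.conj_mem_of_mem_normalizer (bT_norm_sup s c hk hm fr hb hb') (inv_mem ha))
    · exact (hb j).body.2.1.ge.trans (commutator_mono (le_iSup e j) le_rfl)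
  · rw [hQ]
    refine le_antisymm (commutator_le.2 fun w hw a ha => ?_) (iSup_le fun j => ?_)
    · rw [commutatorElement_def, mul_assoc, mul_assoc, ← mul_assoc a]
      exact mul_mem hw (H75.conj_mem_of_mem_normalizer (sup_norm_W s c hk hm fr hb ha) (inv_mem hw))
    · exact (core_comm s c hk hm fr hb j).ge.trans
        (commutator_mono (le_iSup (fun j => Cfsg.pCoreOf 2 (e j)) j) (le_iSup e j))
  · intro h
    refine (facts_of_block (hb ⟨0, by omega⟩).block).omega (le_bot_iff.1 ?_)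
    rw [← h]
    exact commutator_mono (le_iSup e _) le_rfl
  · rw [hQ, hΩ]
    refine ⟨sup_norm_W s c hk hm fr hb, inf_le_left, θ, ψ.comp (inclusion hWVi), hθr,
      fun u => hψ.even _, ?_, fun u => ?_, fun a u => ?_⟩
    · -- the image is the whole even module
      let A : AddSubgroup (Fin (2 * m + 1) → ZMod 2) :=
        Subgroup.toAddSubgroup' (ψ.comp (inclusion hWVi)).range
      have hAe : ∀ v ∈ A, ∑ q, v q = 0 := by
        rintro v ⟨u, hu⟩
        have := hψ.even (inclusion hWVi u)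
        rwa [show ψ (inclusion hWVi u) = Multiplicative.ofAdd v from hu] at this
      have hAinv : ∀ σ ∈ alternatingGroup (Fin (2 * m + 1)), ∀ v ∈ A,
          (fun q => v (σ⁻¹ q)) ∈ A := by
        rintro σ hσ v ⟨u, hu⟩
        obtain ⟨g, hg, rfl⟩ := exists_lift s c hk hm fr hb hσ
        refine ⟨⟨_, H75.conj_mem_of_mem_normalizer (sup_norm_W s c hk hm fr hb hg) u.2⟩, ?_⟩
        refine Multiplicative.toAdd.injective (funext fun q => ?_)
        have h1 := congrFun (congrArg Multiplicative.toAdd (show ψ (inclusion hWVi u) = Multiplicative.ofAdd v from hu)) ((π i g)⁻¹ q)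
        exact (hψ.act' g (inclusion hWVi u) _ q).trans h1
      intro v hv
      rcases H78.Block.alt_irreducible (by omega) A hAe hAinv with h0 | h1
      · exfalso
        obtain ⟨u, hu, hu1⟩ := exists_core_ne s c hk hm fr hb hψ ⟨0, by omega⟩
        refine hu1 (core_psi s c hk hm fr hb hψ _ hu ?_)
        have hmem : Multiplicative.toAdd (ψ ⟨u, core_le_Vi s c hk hm fr hb _ hu⟩) ∈ A :=
          ⟨⟨u, mem_iSup_of_mem _ hu⟩, rfl⟩
        rw [h0, AddSubgroup.mem_bot, toAdd_eq_zero] at hmem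
        exact hmem
      · obtain ⟨u, hu⟩ := h1 v hv
        exact ⟨u, congrArg Multiplicative.toAdd hu⟩
    · constructor
      · exact fun h => ⟨u.2, centralizer_le (SetLike.coe_subset_coe.2 (sup_le_E s c hk hm fr hb))
          ((hψ.ker _).1 h)⟩
      · rintro ⟨-, hu⟩
        set v := Multiplicative.toAdd (ψ (inclusion hWVi u)) with hv
        have hfix : ∀ σ ∈ alternatingGroup (Fin (2 * m + 1)), ∀ q, v (σ⁻¹ q) = v q := by
          intro σ hσ q
          obtain ⟨g, hg, rfl⟩ := exists_lift s c hk hm fr hb hσ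
          obtain ⟨w, hw, hwi⟩ := hψ.act g (inclusion hWVi u)
          obtain rfl : w = inclusion hWVi u := Subtype.ext (by
            rw [hw]; show (g : G) * u * (g : G)⁻¹ = u
            rw [mem_centralizer_iff.1 hu g hg, mul_inv_cancel_right])
          exact (hwi q).symm
        have hconst : ∀ q, v q = v (pz m) := by
          intro q
          by_cases hq : q = pz m
          · rw [hq]
          obtain ⟨l, hl⟩ := (pt_cases q).resolve_left hq
          obtain ⟨l', hl'⟩ : ∃ l' : Fin m, l' ≠ l := by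
            haveI : Nontrivial (Fin m) := Fin.nontrivial_iff_two_le.2 hm
            exact exists_ne l
          have h := hfix (Equiv.swap q (pz m) * tau l') (by
            rw [Equiv.Perm.mem_alternatingGroup, map_mul, Equiv.Perm.sign_swap hq,
              Equiv.Perm.sign_swap pa_ne_pb]; rfl) q
          rw [← h]
          congr 1
          rw [Equiv.Perm.inv_eq_iff_eq, Equiv.Perm.mul_apply, tau_pz, Equiv.swap_apply_right]
        have hz : v (pz m) = 0 := by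
          have h := hψ.even (inclusion hWVi u)
          rw [← hv, Finset.sum_congr rfl (fun q _ => hconst q), Finset.sum_const, Finset.card_univ,
            Fintype.card_fin, add_nsmul, one_nsmul, mul_nsmul, two_nsmul, CharTwo.add_self_eq_zero,
            nsmul_zero, zero_add] at h
          exact h
        refine Multiplicative.toAdd.injective (funext fun q => ?_)
        show v q = 0
        rw [hconst, hz]
    · have hw := H75.conj_mem_of_mem_normalizer (sup_norm_W s c hk hm fr hb a.2) u.2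
      exact ⟨⟨_, hw⟩, rfl, fun q => hψ.act' ⟨a, hEn a.2⟩ (inclusion hWVi u) (hWVi hw) q⟩
  · rw [hQ, hΩ]

end SymB

end H80.PM
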